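import Groth.Agent.Lib.DerCat.DerAdj
import Mathlib.Algebra.Homology.DerivedCategory.Fractions
import Mathlib.CategoryTheory.Adjunction.FullyFaithful

/-!
# When the derived functor of a conservative exact functor is fully faithful (helper22)
-/

set_option autoImplicit false
set_option maxHeartbeats 1000000
set_option linter.style.haveILetI false

universe w w' v v' u u'

open CategoryTheory CategoryTheory.Limits

open Groth.Agent.Lib.DerivedOX.RightDerived Groth.Agent.Lib.DerCat

namespace Groth.Agent.H22.Gam.Adjoint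

variable {A : Type u} [Category.{v} A] [Abelian A] [HasDerivedCategory.{w} A]
  {B : Type u'} [Category.{v'} B] [Abelian B] [HasDerivedCategory.{w'} B]

theorem isIso_resAdj_counit [(DerivedCategory.Qh (C := B)).IsLeftAdjoint] (d : DerivedCategory B) :
    IsIso ((resAdj B).counit.app d) := by
  obtain ⟨I, hI, ⟨e⟩⟩ := exists_resFunctor_obj_iso d
  haveI := hI
  apply isIso_of_yoneda_map_bijective
  intro T
  obtain ⟨X, ⟨α⟩⟩ : ∃ X, Nonempty (DerivedCategory.Qh.obj X ≅ T) :=
    ⟨_, ⟨(DerivedCategory.Qh).objObjPreimageIso T⟩⟩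
  let p : (X ⟶ (resFunctor B).obj d) ≃ (T ⟶ DerivedCategory.Qh.obj ((resFunctor B).obj d)) :=
    ((e.homToEquiv (Z := X)).symm.trans (Equiv.ofBijective _
      (CochainComplex.IsKInjective.Qh_map_bijective X I))).trans
        (((DerivedCategory.Qh.mapIso e).homToEquiv).trans α.homFromEquiv)
  have h : ∀ f : X ⟶ (resFunctor B).obj d,
      p f ≫ (resAdj B).counit.app d = α.inv ≫ ((resAdj B).homEquiv X d).symm f := fun f => by
    simp [p, Adjunction.homEquiv_counit, ← Functor.map_comp_assoc]
  constructor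
  · intro a b hab
    obtain ⟨f, rfl⟩ := p.surjective a
    obtain ⟨g, rfl⟩ := p.surjective b
    simp only [h, cancel_epi] at hab
    rw [((resAdj B).homEquiv X d).symm.injective hab]
  · intro t
    refine ⟨p ((resAdj B).homEquiv X d (α.hom ≫ t)), ?_⟩
    show p _ ≫ _ = t
    rw [h, Equiv.symm_apply_apply, Iso.inv_hom_id_assoc]

variable {F : A ⥤ B} {G : B ⥤ A} [F.Additive] [G.Additive] (adj : F ⊣ G)
  [PreservesFiniteLimits F] [PreservesFiniteColimits F]

/-- An exact conservative functor is conservative on derived categories. -/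
theorem isIso_of_map [F.ReflectsIsomorphisms] {X Y : DerivedCategory A} (φ : X ⟶ Y)
    [IsIso (F.mapDerivedCategory.map φ)] : IsIso φ := by
  let eX := DerivedCategory.Q.objObjPreimageIso X
  let eY := DerivedCategory.Q.objObjPreimageIso Y
  obtain ⟨Z, s, hs, f, hf⟩ := DerivedCategory.right_fac (eX.hom ≫ φ ≫ eY.inv)
  haveI := hs
  haveI : IsIso (F.mapDerivedCategory.map (DerivedCategory.Q.map f)) := by
    have : F.mapDerivedCategory.map (DerivedCategory.Q.map f) =
        F.mapDerivedCategory.map (DerivedCategory.Q.map s) ≫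
          F.mapDerivedCategory.map (eX.hom ≫ φ ≫ eY.inv) := by
      rw [hf, ← Functor.map_comp, IsIso.hom_inv_id_assoc]
    rw [this, Functor.map_comp, Functor.map_comp]
    infer_instance
  have h1 : IsIso (DerivedCategory.Q.map ((F.mapHomologicalComplex (.up ℤ)).map f)) :=
    (NatIso.isIso_map_iff F.mapDerivedCategoryFactors f).1 ‹_›
  rw [DerivedCategory.isIso_Q_map_iff_quasiIso, HomologicalComplex.quasiIso_map_iff_of_preservesHomology] at h1
  haveI : IsIso (DerivedCategory.Q.map f) := (DerivedCategory.isIso_Q_map_iff_quasiIso (φ := f)).2 h1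
  haveI : IsIso (eX.hom ≫ φ ≫ eY.inv) := by rw [hf]; infer_instance
  haveI := IsIso.of_isIso_comp_left eX.hom (φ ≫ eY.inv)
  exact IsIso.of_isIso_comp_right φ eY.inv

variable [(DerivedCategory.Qh (C := B)).IsLeftAdjoint]

/-- The complex counit. -/
noncomputable abbrev ct (K : CochainComplex B ℤ) :
    (F.mapHomologicalComplex (.up ℤ)).obj ((G.mapHomologicalComplex (.up ℤ)).obj K) ⟶ K :=
  (DerAdj.adjC adj (.up ℤ)).counit.app K

theorem isIso_counit_iff (Y : DerivedCategory B) :
    IsIso ((DerAdj.derivedAdj adj).counit.app Y) ↔ QuasiIso (ct adj ((resFunctor B).obj Y).as) := by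
  haveI := isIso_resAdj_counit (B := B) Y
  rw [← DerivedCategory.isIso_Q_map_iff_quasiIso,
    ← NatIso.isIso_map_iff (DerivedCategory.quotientCompQhIso B)]
  simp only [DerAdj.derivedAdj, Adjunction.ofNatIsoRight, Adjunction.mkOfHomEquiv_counit_app]
  simp [Adjunction.comp_counit_app, Adjunction.homEquiv_counit]
  rfl

theorem isIso_unit_app [F.ReflectsIsomorphisms] (X : DerivedCategory A)
    (h : IsIso ((DerAdj.derivedAdj adj).counit.app (F.mapDerivedCategory.obj X))) :
    IsIso ((DerAdj.derivedAdj adj).unit.app X) := by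
  haveI : IsIso (F.mapDerivedCategory.map ((DerAdj.derivedAdj adj).unit.app X)) := by
    haveI := h
    have e := (DerAdj.derivedAdj adj).left_triangle_components X
    haveI : IsIso (F.mapDerivedCategory.map ((DerAdj.derivedAdj adj).unit.app X) ≫
      (DerAdj.derivedAdj adj).counit.app (F.mapDerivedCategory.obj X)) := by rw [e]; exact IsIso.id _
    exact IsIso.of_isIso_comp_right _ ((DerAdj.derivedAdj adj).counit.app (F.mapDerivedCategory.obj X))
  exact isIso_of_map (F := F) _

/-- Fully faithfulness and essential image. -/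
theorem fullyFaithful_and_essImage [F.ReflectsIsomorphisms] (P : DerivedCategory B → Prop)
    (hF : ∀ X, P (F.mapDerivedCategory.obj X))
    (hiso : ∀ {X Y : DerivedCategory B}, (X ≅ Y) → P X → P Y)
    (hP : ∀ Y, P Y → QuasiIso (ct adj ((resFunctor B).obj Y).as)) :
    F.mapDerivedCategory.Full ∧ F.mapDerivedCategory.Faithful ∧
      ∀ Y, F.mapDerivedCategory.essImage Y ↔ P Y := by
  let a := DerAdj.derivedAdj adj
  have hc : ∀ Y, P Y → IsIso (a.counit.app Y) := fun Y hY => (isIso_counit_iff adj Y).2 (hP Y hY)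
  haveI : IsIso a.unit :=
    haveI : ∀ X, IsIso (a.unit.app X) := fun X => isIso_unit_app adj X (hc _ (hF X))
    NatIso.isIso_of_isIso_app _
  let ff := a.fullyFaithfulLOfIsIsoUnit
  refine ⟨ff.full, ff.faithful, fun Y => ⟨fun ⟨X, ⟨e⟩⟩ => hiso e (hF X), fun hY => ?_⟩⟩
  haveI := hc Y hY
  exact ⟨_, ⟨asIso (a.counit.app Y)⟩⟩

end Groth.Agent.H22.Gam.Adjoint
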