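import Groth.Agent.H22.Gam.Derived
import Groth.Agent.H30.FSch.SchPres
import Groth.Agent.Lib.TensorMod.QCohInv
import Groth.Prelude.Def_FTors3

/-!
# The ideal-power torsion functor on stalks over a locally Noetherian scheme (helper22)
-/

set_option autoImplicit false
set_option maxHeartbeats 1000000
set_option linter.style.haveILetI false
set_option linter.unusedSectionVars false

universe u

open CategoryTheory CategoryTheory.Limits AlgebraicGeometry TopologicalSpace Opposite
open Groth.Agent.Lib.ModSiteLoc.Basic Groth.Agent.Lib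

attribute [local instance] HasDerivedCategory.standard

namespace Groth.Agent.H22.Gam.Scheme'

variable {X : Scheme.{u}} [IsLocallyNoetherian X] (𝓘 : X.IdealSheafData)
  {V : X.Opens} (hV : IsAffineOpen V) {x : X} (hx : x ∈ V)

/-- The stalk functor. -/
noncomputable abbrev S : ModSite.Mod X.sheaf ⥤ ModuleCat.{u} (X.sheaf.obj.obj (op V)) :=
  Stalk.St X.sheaf hx

/-- The ideal on an affine open. -/
noncomputable abbrev IV : Ideal (X.sheaf.obj.obj (op V)) := 𝓘.ideal ⟨V, hV⟩

/-- Stalks are injective over affine sections. -/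
def StInj (M : ModSite.Mod X.sheaf) : Prop :=
  ∀ (V : X.Opens), IsAffineOpen V → ∀ (x : X) (hx : x ∈ V),
    Module.Injective (X.sheaf.obj.obj (op V)) ((S hx).obj M)

theorem eq_zero_of_locally (M : ModSite.Mod X.sheaf) {U : X.Opens} (s : ModSite.sect M U)
    (h : ∀ z ∈ U, ∃ (W : X.Opens) (e : W ≤ U), z ∈ W ∧ rs M (homOfLE e) s = 0) : s = 0 :=
  TopCat.Presheaf.section_ext (C := AddCommGrpCat.{u}) (X := X.carrier)
    ((SheafOfModules.toSheaf (ModSite.ringSh X.sheaf)).obj M) U _ _ fun z hz => by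
      obtain ⟨W, e, hzW, he⟩ := h z hz
      exact TopCat.Presheaf.germ_ext (C := AddCommGrpCat.{u}) (X := X.carrier)
        ((SheafOfModules.toSheaf (ModSite.ringSh X.sheaf)).obj M).obj W hzW (homOfLE e) (homOfLE e)
        (he.trans (map_zero _).symm)

include hV in
theorem isNoetherianRing : IsNoetherianRing (X.sheaf.obj.obj (op V)) :=
  IsLocallyNoetherian.component_noetherian ⟨V, hV⟩

theorem IV_map {W : X.Opens} (hW : IsAffineOpen W) (e : W ≤ V) (n : ℕ) :
    (IV 𝓘 hV ^ n).map (rr X.sheaf (homOfLE e)) = IV 𝓘 hW ^ n :=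
  (Ideal.map_pow _ _ _).trans
    (congrArg (· ^ n) (𝓘.map_ideal' (U := ⟨W, hW⟩) (V := ⟨V, hV⟩) (homOfLE e).op))

include hV in
theorem mem_ideal_of_pow {n : ℕ} {W : X.Opens} (e : W ≤ V) {a : X.sheaf.obj.obj (op V)}
    (ha : a ∈ IV 𝓘 hV ^ n) :
    rr X.sheaf (homOfLE e) a ∈ (FTors.powIdealFam X 𝓘).ideal n W := by
  rw [FTors.mem_powIdealFam_iff]
  intro W' hW'
  have h1 : rr X.sheaf (homOfLE (hW'.trans e)) a ∈ IV 𝓘 W'.2 ^ n :=
    IV_map 𝓘 hV W'.2 (hW'.trans e) n ▸ Ideal.mem_map_of_mem _ ha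
  exact (rr_rr (homOfLE e) (homOfLE hW') a).symm ▸ h1

include hV in
theorem map_gammaι_mem (M : ModSite.Mod X.sheaf)
    (z : ((S hx).obj ((FTors.gammaZp X 𝓘).obj M) : Type u)) :
    (S hx).map ((FTors.gammaZpι X 𝓘).app M) z ∈
      DRing.torsionSub (IV 𝓘 hV) ((S hx).obj M : Type u) := by
  obtain ⟨W, e, hW, s, rfl⟩ := Stalk.exists_gS hx z
  obtain ⟨W', g, ⟨n, hn⟩, hW'⟩ := s.2 x hW
  refine ⟨n, fun a ha => ?_⟩
  have e' : W' ≤ W := leOfHom g
  have h1 := hn (𝟙 W') (rr X.sheaf (homOfLE (e'.trans e)) a) (mem_ideal_of_pow 𝓘 hV (e'.trans e) ha)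
  rw [FTors.res_id] at h1
  refine (congrArg (a • ·) ((Stalk.map_gS hx _ hW s).trans
    (Stalk.gS_rs hx e' hW' hW s.1).symm)).trans ?_
  refine (Stalk.gS_smul hx (e'.trans e) hW' a _).trans ?_
  exact (congrArg (Stalk.gS hx M hW') h1).trans (map_zero _)

include hV in
theorem exists_preimage (M : ModSite.Mod X.sheaf) (m : ((S hx).obj M : Type u))
    (hm : m ∈ DRing.torsionSub (IV 𝓘 hV) ((S hx).obj M : Type u)) :
    ∃ z, (S hx).map ((FTors.gammaZpι X 𝓘).app M) z = m := by
  obtain ⟨n, hn⟩ := hm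
  obtain ⟨W, e, hW, s, rfl⟩ := Stalk.exists_gS hx m
  haveI := isNoetherianRing hV
  obtain ⟨l, g, hg⟩ := Submodule.fg_iff_exists_fin_generating_family.1
    (IsNoetherian.noetherian (IV 𝓘 hV ^ n))
  have h0 : ∀ i, Stalk.gS hx M hW (rr X.sheaf (homOfLE e) (g i) • s) = 0 := fun i =>
    (Stalk.gS_smul hx e hW (g i) s).symm.trans (hn _ (hg ▸ Submodule.subset_span ⟨i, rfl⟩))
  choose Wi ei hxi hi using fun i => Stalk.exists_eq_zero hx hW _ (h0 i)
  let W' := W ⊓ Finset.univ.inf Wi
  have hxW' : x ∈ W' := ⟨hW, InjStalk.mem_inf _ _ x fun i _ => hxi i⟩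
  have e1 : W' ≤ W := inf_le_left
  have hk : FTors.KilledBy (FTors.powIdealFam X 𝓘) M n (rs M (homOfLE e1) s) := fun U gU a ha => by
    refine eq_zero_of_locally M _ fun z hz => ?_
    obtain ⟨U', hU', hzU', eU'⟩ := Opens.isBasis_iff_nbhd.1 X.isBasis_affineOpens hz
    refine ⟨U', eU', hzU', ?_⟩
    have eV : U' ≤ V := eU'.trans (gU.le.trans (e1.trans e))
    have hmem : rr X.sheaf (homOfLE eU') a ∈ Ideal.span
        (Set.range fun i => rr X.sheaf (homOfLE eV) (g i)) := by
      have h2 := (FTors.mem_powIdealFam_iff X 𝓘 n U a).1 ha ⟨U', hU'⟩ eU'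
      have h3 : rr X.sheaf (homOfLE eU') a ∈ (IV 𝓘 hV ^ n).map (rr X.sheaf (homOfLE eV)) :=
        (IV_map 𝓘 hV hU' eV n).symm ▸ h2
      rw [← hg, ← Ideal.span, Ideal.map_span, ← Set.range_comp] at h3
      exact h3
    obtain ⟨c, hc⟩ := (Submodule.mem_span_range_iff_exists_fun _).1 hmem
    refine (rs_smul _ a _).trans ?_
    rw [← hc, Finset.sum_smul]
    refine Finset.sum_eq_zero fun i _ => ?_
    rw [smul_eq_mul, mul_smul]
    have e2 : U' ≤ Wi i :=
      eU'.trans (gU.le.trans (inf_le_right.trans (Finset.inf_le (Finset.mem_univ i))))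
    have h3 : rs M (homOfLE ((eU'.trans gU.le).trans e1)) (rr X.sheaf (homOfLE e) (g i) • s) = 0 :=
      (rs_rs (homOfLE (ei i)) (homOfLE e2) _).symm.trans
        ((congrArg (rs M (homOfLE e2)) (hi i)).trans (map_zero _))
    refine (congrArg (c i • ·) ?_).trans (smul_zero _)
    refine Eq.trans ?_ h3
    refine Eq.trans ?_ (rs_smul _ _ _).symm
    refine congrArg₂ (· • ·) (rr_rr (homOfLE e) (homOfLE _) (g i)).symm ?_
    exact (congrArg (rs M (homOfLE eU')) (rs_rs (homOfLE e1) gU s)).trans (rs_rs _ (homOfLE eU') s)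
  refine ⟨Stalk.gS hx ((FTors.gammaZp X 𝓘).obj M) hxW'
    ⟨rs M (homOfLE e1) s, FTors.IsTorsSect.of_killedBy hk⟩, ?_⟩
  exact (Stalk.map_gS hx _ hxW' _).trans (Stalk.gS_rs hx e1 hxW' hW s)

theorem mono_gammaι (M : ModSite.Mod X.sheaf) : Mono ((FTors.gammaZpι X 𝓘).app M) := by
  refine ⟨fun a b hab => SheafOfModules.hom_ext (PresheafOfModules.hom_ext fun W =>
    ModuleCat.hom_ext (LinearMap.ext fun s => Subtype.ext ?_))⟩
  exact congrArg (fun t => t.val.app W s) hab

/-- The comparison of `Γ_𝓘` on stalks. -/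
noncomputable def gammaStEquiv (M : ModSite.Mod X.sheaf) :
    ((S hx).obj ((FTors.gammaZp X 𝓘).obj M) : Type u) ≃ₗ[X.sheaf.obj.obj (op V)]
      DRing.torsionSub (IV 𝓘 hV) ((S hx).obj M : Type u) :=
  LinearEquiv.ofBijective
    (LinearMap.codRestrict _ ((S hx).map ((FTors.gammaZpι X 𝓘).app M)).hom
      (map_gammaι_mem 𝓘 hV hx M))
    ⟨fun a b hab => by
      haveI := mono_gammaι 𝓘 M
      exact (ModuleCat.mono_iff_injective _).1
        (inferInstanceAs (Mono ((S hx).map ((FTors.gammaZpι X 𝓘).app M))))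
        (congrArg Subtype.val hab),
    fun m => by
      obtain ⟨z, hz⟩ := exists_preimage 𝓘 hV hx M m.1 m.2
      exact ⟨z, Subtype.ext hz⟩⟩

/-- `Γ_𝓘` on stalks is the torsion functor. -/
noncomputable def gammaStIso :
    FTors.gammaZp X 𝓘 ⋙ S hx ≅ S hx ⋙ DRing.gammaI (IV 𝓘 hV) :=
  NatIso.ofComponents (fun M => (gammaStEquiv 𝓘 hV hx M).toModuleIso) fun {M N} f =>
    ModuleCat.hom_ext (LinearMap.ext fun z => Subtype.ext (ConcreteCategory.congr_hom
      (((S hx).map_comp _ _).symm.trans ((congrArg (S hx).map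
        ((FTors.gammaZpι X 𝓘).naturality f)).trans ((S hx).map_comp _ _))) z))

/-- The ring of sections. -/
abbrev secR (W : X.Opens) : Type u := X.sheaf.obj.obj (op W)

/-- Restriction of functions. -/
noncomputable abbrev rA {W W' : X.Opens} (e : W' ≤ W) : secR W →+* secR W' := rr X.sheaf (homOfLE e)

/-- Restriction of sections. -/
noncomputable abbrev rF (M : ModSite.Mod X.sheaf) {W W' : X.Opens} (e : W' ≤ W) :
    ModSite.sect M W →+ ModSite.sect M W' := rs M (homOfLE e)

theorem rF_rF (M : ModSite.Mod X.sheaf) {W W' W'' : X.Opens} (e : W' ≤ W) (e' : W'' ≤ W')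
    (s : ModSite.sect M W) : rF M e' (rF M e s) = rF M (e'.trans e) s :=
  rs_rs (homOfLE e) (homOfLE e') s

include hV in
/-- Relations generate over smaller affine opens. -/
theorem exact_of_le {n m : ℕ} (r : Fin n → secR V) (R : Fin m → Fin n → secR V)
    (hex : ∀ c : Fin n → secR V, ∑ i, c i * r i = 0 →
      ∃ d : Fin m → secR V, ∀ i, c i = ∑ j, d j * R j i)
    {W : X.Opens} (hW : IsAffineOpen W) (e : W ≤ V) (c : Fin n → secR W)
    (hc : ∑ i, c i * rA e (r i) = 0) :
    ∃ d : Fin m → secR W, ∀ i, c i = ∑ j, d j * rA e (R j i) := by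
  haveI : (Coh.structureModule X).IsQuasicoherent := TensorMod.QCohInv.isQCoh_structureModule X
  exact Groth.Agent.H30.SchPres.exact_of_affine_le (Coh.structureModule X) hV r R hex hW e c hc

include hV in
/-- Relations on an affine open respected by a family of sections are respected on smaller opens. -/
theorem sum_eq_zero (M : ModSite.Mod X.sheaf) {n : ℕ} (r : Fin n → secR V)
    (t : Fin n → ModSite.sect M V)
    (hrt : ∀ a : Fin n → secR V, ∑ i, a i * r i = 0 → ∑ i, a i • t i = 0)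
    {W : X.Opens} (e : W ≤ V) (c : Fin n → secR W)
    (hc : ∑ i, c i * rA e (r i) = 0) :
    ∑ i, c i • rF M e (t i) = 0 := by
  refine eq_zero_of_locally M _ fun z hz => ?_
  obtain ⟨W', hW', hzW', e'⟩ := Opens.isBasis_iff_nbhd.1 (X.isBasis_affineOpens) hz
  refine ⟨W', e', hzW', ?_⟩
  haveI := isNoetherianRing hV
  let φ : (Fin n → secR V) →ₗ[secR V] secR V :=
    Fintype.linearCombination _ r
  obtain ⟨m, R, hR⟩ := Submodule.fg_iff_exists_fin_generating_family.1
    (IsNoetherian.noetherian (LinearMap.ker φ))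
  have hR0 : ∀ j, ∑ i, R j i * r i = 0 := fun j =>
    (Fintype.linearCombination_apply _ r (R j)).symm.trans
      (LinearMap.mem_ker.1 (hR ▸ Submodule.subset_span ⟨j, rfl⟩))
  obtain ⟨d, hd⟩ := exact_of_le hV
    r R (fun a ha => by
      have : a ∈ LinearMap.ker φ :=
        LinearMap.mem_ker.2 ((Fintype.linearCombination_apply _ r a).trans ha)
      rw [← hR, Submodule.mem_span_range_iff_exists_fun] at this
      obtain ⟨d, hd⟩ := this
      exact ⟨d, fun i => by rw [← hd]; simp⟩)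
    hW' (e'.trans e) (fun i => rA e' (c i)) (by
      have h1 := congrArg (rA e') hc
      rw [map_zero, map_sum] at h1
      refine Eq.trans ?_ h1
      exact Finset.sum_congr rfl fun i _ => ((map_mul _ _ _).trans
        (congrArg (rA e' (c i) * ·)
        (rr_rr (homOfLE e) (homOfLE e') (r i)))).symm)
  have h2 : ∀ j, ∑ i, rA (e'.trans e) (R j i) •
      rF M (e'.trans e) (t i) = 0 := fun j => by
    have h1 := congrArg (rF M (e'.trans e)) (hrt (R j) (hR0 j))
    rw [map_zero, map_sum] at h1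
    simpa only [rs_smul] using h1
  rw [map_sum]
  simp only [rs_smul, rF_rF, hd, Finset.sum_smul]
  rw [Finset.sum_comm]
  refine Finset.sum_eq_zero fun j _ => ?_
  simp only [mul_smul, ← Finset.smul_sum, h2, smul_zero]

include hV in
/-- Consistent linear systems on an affine open can be solved in injective modules. -/
theorem exists_solution (I : ModSite.Mod X.sheaf) [Injective I] {n : ℕ}
    (r : Fin n → secR V) (t : Fin n → ModSite.sect I V)
    (hrt : ∀ a : Fin n → secR V, ∑ i, a i * r i = 0 → ∑ i, a i • t i = 0) :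
    ∃ s : ModSite.sect I V, ∀ i, r i • s = t i :=
  Extend.exists_solution (O := X.sheaf) I (X := V) (fun _ => inferInstance) r t
    fun {W} g c hc => sum_eq_zero hV I r t hrt (leOfHom g) c hc

include hV in
/-- Stalks of injective modules are injective. -/
theorem injective_St (I : ModSite.Mod X.sheaf) [Injective I] {x : X} (hx : x ∈ V) :
    Module.Injective (secR V) ((Stalk.St X.sheaf hx).obj I) := by
  haveI := isNoetherianRing hV
  refine Module.Baer.injective fun 𝔞 g => ?_
  obtain ⟨n, a, ha⟩ := Submodule.fg_iff_exists_fin_generating_family.1 (IsNoetherian.noetherian 𝔞)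
  have ham : ∀ i, a i ∈ 𝔞 := fun i => ha ▸ Submodule.subset_span ⟨i, rfl⟩
  choose Vi ei hxi si hsi using fun i => Stalk.exists_gS hx (g ⟨a i, ham i⟩)
  let W0 := V ⊓ Finset.univ.inf Vi
  have hxW0 : x ∈ W0 := ⟨hx, InjStalk.mem_inf _ _ x fun i _ => hxi i⟩
  have hW0i : ∀ i, W0 ≤ Vi i := fun i => inf_le_right.trans (Finset.inf_le (Finset.mem_univ i))
  let s0 : Fin n → ModSite.sect I W0 := fun i => rs I (homOfLE (hW0i i)) (si i)
  let φ : (Fin n → secR V) →ₗ[secR V] secR V :=
    Fintype.linearCombination _ a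
  obtain ⟨m, R, hR⟩ := Submodule.fg_iff_exists_fin_generating_family.1
    (IsNoetherian.noetherian (LinearMap.ker φ))
  let ρ : Fin m → ModSite.sect I W0 := fun j =>
    ∑ i, rA (inf_le_left (b := Finset.univ.inf Vi)) (R j i) • s0 i
  have hρ : ∀ j, Stalk.gS hx I hxW0 (ρ j) = 0 := fun j => by
    refine (map_sum _ _ _).trans ?_
    have h0 : ∑ i, R j i • (⟨a i, ham i⟩ : 𝔞) = 0 := Subtype.ext (by
      rw [Submodule.coe_sum]
      exact (Fintype.linearCombination_apply _ a (R j)).symm.trans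
        (LinearMap.mem_ker.1 (hR ▸ Submodule.subset_span ⟨j, rfl⟩)))
    have h1 := congrArg g h0
    rw [map_sum, map_zero] at h1
    refine Eq.trans (Finset.sum_congr rfl fun i _ => ?_) h1
    refine Eq.trans ?_ (map_smul g (R j i) _).symm
    refine (Stalk.gS_smul hx inf_le_left hxW0 (R j i) (s0 i)).symm.trans ?_
    exact congrArg (R j i • ·) ((Stalk.gS_rs hx (hW0i i) hxW0 (hxi i) (si i)).trans (hsi i))
  choose Wj eWj hxWj hρj using fun j => Stalk.exists_eq_zero hx hxW0 (ρ j) (hρ j)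
  obtain ⟨W, hW, hxW, eW⟩ := Opens.isBasis_iff_nbhd.1 (X.isBasis_affineOpens)
    (show x ∈ W0 ⊓ Finset.univ.inf Wj from
      ⟨hxW0, InjStalk.mem_inf _ _ x fun j _ => hxWj j⟩)
  have eW0 : W ≤ W0 := eW.trans inf_le_left
  have eWV : W ≤ V := eW0.trans inf_le_left
  let r : Fin n → secR W := fun i => rA eWV (a i)
  let t : Fin n → ModSite.sect I W := fun i => rF I eW0 (s0 i)
  obtain ⟨s, hs⟩ := exists_solution hW I r t fun c hc => by
    obtain ⟨d, hd⟩ := exact_of_le hV
      a R (fun b hb => by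
        have : b ∈ LinearMap.ker φ :=
          LinearMap.mem_ker.2 ((Fintype.linearCombination_apply _ a b).trans hb)
        rw [← hR, Submodule.mem_span_range_iff_exists_fun] at this
        obtain ⟨d, hd⟩ := this
        exact ⟨d, fun i => by rw [← hd]; simp⟩)
      hW eWV c hc
    have h2 : ∀ j, ∑ i, rA eWV (R j i) • t i = 0 := fun j => by
      have e : W ≤ Wj j := eW.trans (inf_le_right.trans (Finset.inf_le (Finset.mem_univ j)))
      have h1 : rF I eW0 (ρ j) = 0 :=
        (rF_rF I (eWj j) e (ρ j)).symm.trans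
          ((congrArg (rF I e) (hρj j)).trans (map_zero _))
      rw [map_sum] at h1
      refine Eq.trans (Finset.sum_congr rfl fun i _ => ?_) h1
      rw [rs_smul]
      exact congrArg (· • t i) (rr_rr (homOfLE inf_le_left) (homOfLE eW0) (R j i)).symm
    simp only [hd, Finset.sum_smul]
    rw [Finset.sum_comm]
    refine Finset.sum_eq_zero fun j _ => ?_
    simp only [mul_smul, ← Finset.smul_sum, h2, smul_zero]
  let σ := Stalk.gS hx I hxW s
  refine ⟨LinearMap.toSpanSingleton _ _ σ, fun b hb => ?_⟩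
  show b • σ = g ⟨b, hb⟩
  obtain ⟨c, hc⟩ := Submodule.mem_span_range_iff_exists_fun _ |>.1 (ha.ge hb)
  have hb' : (⟨b, hb⟩ : 𝔞) = ∑ i, c i • ⟨a i, ham i⟩ := Subtype.ext (by
    rw [Submodule.coe_sum]; exact hc.symm)
  rw [hb', map_sum, ← hc, Finset.sum_smul]
  refine Finset.sum_congr rfl fun i _ => ?_
  rw [map_smul, smul_eq_mul, mul_smul]
  refine congrArg (c i • ·) ?_
  rw [← hsi i]
  refine (Stalk.gS_smul hx eWV hxW (a i) s).trans ?_
  refine (congrArg (Stalk.gS hx I hxW) (hs i)).trans ?_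
  exact (Stalk.gS_rs hx eW0 hxW hxW0 _).trans (Stalk.gS_rs hx (hW0i i) hxW0 (hxi i) (si i))

theorem stInj_of_injective (M : ModSite.Mod X.sheaf) [Injective M] : StInj M :=
  fun _ hV _ hx => injective_St hV M hx

/-- The unit is invertible on complexes with stalkwise injective terms. -/
theorem isIso_unit [FTors.HasRgammaZp X 𝓘] (K : CochainComplex (ModSite.Mod X.sheaf) ℤ)
    (hK : ∀ n, StInj (K.X n)) :
    IsIso ((unit (FTors.powIdealFam X 𝓘)).app (quot.obj K)) := by
  let I := FTors.powIdealFam X 𝓘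
  haveI := DerivedOX.Grothendieck.isGrothendieckAbelian_sheafOfModules (ModSite.ringSh X.sheaf)
  haveI := DerivedOX.RightDerived.isLeftAdjoint_Qh
    (DerCat.KInjExists.hasKInjRes (A := ModSite.Mod X.sheaf))
  obtain ⟨L, r, hL, hr, -, hinj⟩ := DerCat.KInjExists.exists_kInjective_resolution K
  have hLg : ∀ n, StInj (L.X n) := fun n => haveI := hinj n; stInj_of_injective _
  haveI : QuasiIso ((gamC I).map r) := by
    refine Stalk.quasiIso _ fun y => ?_
    obtain ⟨V, hV, hy, -⟩ :=
      Opens.isBasis_iff_nbhd.1 X.isBasis_affineOpens (U := ⊤) (x := y) trivial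
    refine ⟨V, hy, ?_⟩
    haveI := isNoetherianRing hV
    obtain ⟨l, hl⟩ := RGamma.exists_ide_eq (IsNoetherian.noetherian (IV 𝓘 hV))
    haveI : QuasiIso (((S hy).mapHomologicalComplex (.up ℤ)).map r) := inferInstance
    have h1 := RGamma.quasiIso_gam_map l hl (((S hy).mapHomologicalComplex (.up ℤ)).map r)
      (fun i => RGamma.good_of_injective l _ (hK i V hV y hy))
      (fun i => RGamma.good_of_injective l _ (hLg i V hV y hy))
    let e := NatIso.mapHomologicalComplex (gammaStIso 𝓘 hV hy) (ComplexShape.up ℤ)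
    have he : ((S hy).mapHomologicalComplex (.up ℤ)).map ((gamC I).map r) ≫ (e.app L).hom =
        (e.app K).hom ≫ (RGamma.gam (IV 𝓘 hV)).map (((S hy).mapHomologicalComplex (.up ℤ)).map r) :=
      HomologicalComplex.hom_ext _ _ fun i => (gammaStIso 𝓘 hV hy).hom.naturality (r.f i)
    refine (quasiIso_iff_comp_right _ (e.app L).hom).1 ?_
    exact he ▸ (quasiIso_iff_comp_left (e.app K).hom _).2 h1
  haveI := hL
  haveI : IsIso ((FTors.gammaKh I).map (quot.map r)) :=
    (NatIso.isIso_map_iff (khIso I) r).2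
      (inferInstanceAs (IsIso (DerivedCategory.Q.map ((gamC I).map r))))
  haveI : IsIso (DerivedCategory.Qh.map (quot.map r)) :=
    (NatIso.isIso_map_iff (DerivedCategory.quotientCompQhIso _) r).2
      (inferInstanceAs (IsIso (DerivedCategory.Q.map r)))
  haveI : IsIso ((FTors.Rgamma I).map (DerivedCategory.Qh.map (quot.map r))) := inferInstance
  haveI : IsIso ((unit I).app (quot.obj L)) :=
    DerivedOX.RightDerived.isIso_totalRightDerivedUnit_app_of_isKInjective (FTors.gammaKh I) L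
  haveI : IsIso ((unit I).app (quot.obj K) ≫
      (FTors.Rgamma I).map (DerivedCategory.Qh.map (quot.map r))) := by
    rw [show (unit I).app (quot.obj K) ≫ (FTors.Rgamma I).map
      (DerivedCategory.Qh.map (quot.map r)) = (FTors.gammaKh I).map (quot.map r) ≫
        (unit I).app (quot.obj L) from ((unit I).naturality (quot.map r)).symm]
    infer_instance
  exact IsIso.of_isIso_comp_right _ ((FTors.Rgamma I).map (DerivedCategory.Qh.map (quot.map r)))

end Groth.Agent.H22.Gam.Scheme'
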