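import Groth.Agent.H22.Gam.Derived
import Groth.Agent.H22.Gam.Scheme
import Groth.Agent.H30.FSch.ComplFlat

/-!
# Stalks of direct images along a completion (helper22)
-/

set_option autoImplicit false
set_option maxHeartbeats 1000000
set_option linter.style.haveILetI false
set_option linter.unusedSectionVars false

universe u

open CategoryTheory CategoryTheory.Limits AlgebraicGeometry TopologicalSpace Opposite
open Groth.Agent.H30 Groth.Agent.Lib
open Groth.Agent.Lib.ModSiteLoc.Basic Groth.Agent.Lib.ModSiteLoc.Top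

namespace Groth.Agent.H22.Gam.Compl

section Algebra

variable {A B : Type u} [CommRing A] [CommRing B] (f : A →+* B)

/-- Restriction of an injective module along a flat map is injective. -/
theorem injective_restrictScalars (hf : f.Flat) (N : ModuleCat.{u} B) [Module.Injective B N] :
    Module.Injective A ((ModuleCat.restrictScalars f).obj N) := by
  letI := f.toAlgebra
  letI : Module A N := Module.compHom N f
  haveI : IsScalarTower A B N := ⟨fun a b n => by
    rw [Algebra.smul_def, mul_smul]; rfl⟩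
  haveI : Module.Flat A B := hf
  suffices h : Module.Injective A N from h
  refine Module.Baer.injective fun 𝔞 g => ?_
  obtain ⟨h, hh⟩ := Module.Injective.out (R := B) (Q := N)
    ((𝔞.subtype).baseChange B)
    (by
      have := Module.Flat.lTensor_preserves_injective_linearMap (M := B) 𝔞.subtype
        Subtype.val_injective
      rwa [← LinearMap.baseChange_eq_ltensor] at this)
    (g.liftBaseChange B)
  refine ⟨LinearMap.toSpanSingleton A N (h (1 ⊗ₜ (1 : A))), fun a ha => ?_⟩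
  have h1 := hh (1 ⊗ₜ (⟨a, ha⟩ : 𝔞))
  rw [LinearMap.baseChange_tmul, LinearMap.liftBaseChange_tmul, one_smul] at h1
  show a • h (1 ⊗ₜ (1 : A)) = g ⟨a, ha⟩
  rw [← h1, ← LinearMap.map_smul_of_tower, ← TensorProduct.tmul_smul, smul_eq_mul, mul_one]
  rfl

/-- Torsion with respect to an extended ideal. -/
theorem mem_torsionSub_restrictScalars_iff {I : Ideal A} {J : Ideal B} (hJ : I.map f = J)
    (N : ModuleCat.{u} B) (z : ((ModuleCat.restrictScalars f).obj N : Type u)) :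
    z ∈ DRing.torsionSub I ((ModuleCat.restrictScalars f).obj N : Type u) ↔
      (show (N : Type u) from z) ∈ DRing.torsionSub J (N : Type u) := by
  refine ⟨fun ⟨n, hn⟩ => ⟨n, fun b hb => ?_⟩, fun ⟨n, hn⟩ => ⟨n, fun a ha => ?_⟩⟩
  · rw [← hJ, ← Ideal.map_pow] at hb
    induction hb using Submodule.span_induction with
    | mem b hb => obtain ⟨a, ha, rfl⟩ := hb; exact hn a ha
    | zero => exact zero_smul _ _
    | add b c _ _ hb hc => exact (add_smul b c _).trans (by rw [hb, hc, add_zero])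
    | smul r b _ hb => exact (mul_smul r b _).trans (by rw [hb, smul_zero])
  · exact hn (f a) (hJ ▸ Ideal.map_pow f I n ▸ Ideal.mem_map_of_mem f ha)

end Algebra

variable {X : Scheme.{u}} [IsLocallyNoetherian X] {𝔛 : FSch.Sys.{u}} (h𝔛 : 𝔛.IsLocNoethFormal)
  (p : ∀ n, 𝔛.X n ⟶ X) (hp : ∀ n, 𝔛.ι n ≫ p (n + 1) = p n) [∀ k, IsClosedImmersion (p k)]
  (𝓘 : X.IdealSheafData)
  (hker : ∀ k (U : X.affineOpens), (p k).ker.ideal U = 𝓘.ideal U ^ (k + 1))

/-- The completion morphism. -/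
noncomputable abbrev κ : ModSite.RMor (𝔛.Osh h𝔛.1) X.sheaf := FSch.toSchemeMor 𝔛 h𝔛.1 p hp

include hker in
theorem hker₀ (k : ℕ) (U : X.affineOpens) :
    (p k).ker.ideal U = (p 0).ker.ideal U ^ (k + 1) := by
  rw [hker k, hker 0, zero_add, pow_one]

include hker in
/-- The completion is flat on affine opens. -/
theorem flat_shA {U : X.Opens} (hU : IsAffineOpen U) : (ComplPull.shA h𝔛 p hp U).Flat := by
  let f := ComplPull.shA h𝔛 p hp U
  letI := f.toAlgebra
  haveI : IsNoetherianRing Γ(X, U) := IsLocallyNoetherian.component_noetherian ⟨U, hU⟩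
  show Module.Flat Γ(X, U) (Levels.A 𝔛 h𝔛.1 (ComplSec.pre p U))
  refine Module.Flat.of_forall_isTrivialRelation fun {l} a y hay => ?_
  let φ : (Fin l → Γ(X, U)) →ₗ[Γ(X, U)] Γ(X, U) := Fintype.linearCombination _ a
  obtain ⟨m, s, hs⟩ := Submodule.fg_iff_exists_fin_generating_family.1
    (IsNoetherian.noetherian (LinearMap.ker φ))
  obtain ⟨d, hd⟩ := ComplFlat.exists_ring_rel h𝔛 p hp (hker₀ p 𝓘 hker) hU a s (fun c hc => by
    have hm : c ∈ LinearMap.ker φ := by
      rw [LinearMap.mem_ker]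
      simpa [φ, Fintype.linearCombination_apply, smul_eq_mul] using hc
    rw [← hs, Submodule.mem_span_range_iff_exists_fun] at hm
    obtain ⟨d, hd⟩ := hm
    exact ⟨d, fun j => by rw [← hd]; simp⟩) y
    (by rw [← hay]; exact Finset.sum_congr rfl fun j _ => mul_comm _ _)
  refine ⟨m, fun j i => s i j, d, fun j => ?_, fun i => ?_⟩
  · exact (hd j).trans (Finset.sum_congr rfl fun i _ => mul_comm _ _)
  · have := LinearMap.mem_ker.1 (hs ▸ Submodule.subset_span ⟨i, rfl⟩ : s i ∈ LinearMap.ker φ)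
    simpa [φ, Fintype.linearCombination_apply, smul_eq_mul, mul_comm] using this

include hker in
/-- The ideal of definition is the extension of the ideal. -/
theorem map_IV {U : X.Opens} (hU : IsAffineOpen U) :
    (Scheme'.IV 𝓘 hU).map (ComplPull.shA h𝔛 p hp U) =
      Good.JV h𝔛 (ComplSec.pre p U) := by
  have hV := ComplSec.isAffineOpen_pre p hU
  haveI := (Levels.adic h𝔛 hV).1
  haveI := Levels.isNoetherianRing_A h𝔛 hV
  have hproj : ∀ k a, (Levels.proj 𝔛 h𝔛.1 k (ComplSec.pre p U) a = 0 ↔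
      a ∈ Levels.J (h := h𝔛.1) (ComplSec.pre p U) ^ (k + 1)) := fun k a => by
    rw [← ((Levels.adic h𝔛 hV).2.1 k).2]; exact RingHom.mem_ker.symm
  have happ : ∀ k (r : Γ(X, U)),
      Levels.proj 𝔛 h𝔛.1 k (ComplSec.pre p U) (ComplPull.shA h𝔛 p hp U r) = 0 ↔
        r ∈ 𝓘.ideal ⟨U, hU⟩ ^ (k + 1) := fun k r => by
    rw [← hker, Scheme.Hom.ker_apply, RingHom.mem_ker, ComplPull.proj_shA]
    refine ⟨fun h => ?_, fun h => ?_⟩
    · have h3 := congrArg ((𝔛.X k).presheaf.map
        (homOfLE (ComplSec.lvU_pre h𝔛.1 p hp k U).ge).op) h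
      rw [map_zero] at h3
      refine Eq.trans ?_ h3
      exact ((congrArg (fun g => (𝔛.X k).presheaf.map g ((p k).app U r))
        (Subsingleton.elim _ (𝟙 _))).trans
        (ConcreteCategory.congr_hom ((𝔛.X k).presheaf.map_id _) _)).symm.trans
        (ConcreteCategory.congr_hom ((𝔛.X k).presheaf.map_comp _ _) _)
    · exact (congrArg ((𝔛.X k).presheaf.map
        (homOfLE (ComplSec.lvU_pre h𝔛.1 p hp k U).le).op) h).trans (map_zero _)
  refine le_antisymm (Ideal.map_le_iff_le_comap.2 fun r hr => ?_) ?_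
  · have := (hproj 0 _).1 ((happ 0 r).2 (by rw [zero_add, pow_one]; exact hr))
    rwa [zero_add, pow_one] at this
  · refine Submodule.le_of_le_smul_of_le_jacobson_bot (IsNoetherian.noetherian _)
      (IsAdicComplete.le_jacobson_bot (Levels.J (h := h𝔛.1) (ComplSec.pre p U))) fun y hy => ?_
    obtain ⟨τ, hτ⟩ := ComplPull.surjective_appLE h𝔛 p hp hU 1
      (Levels.proj 𝔛 h𝔛.1 1 (ComplSec.pre p U) y)
    have h2 : y - ComplPull.shA h𝔛 p hp U τ ∈ Levels.J (h := h𝔛.1) (ComplSec.pre p U) ^ (1 + 1) :=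
      (hproj 1 _).1 (by rw [map_sub, ComplPull.proj_shA, hτ, sub_self])
    refine Submodule.mem_sup.2 ⟨ComplPull.shA h𝔛 p hp U τ, Ideal.mem_map_of_mem _ ?_,
      y - ComplPull.shA h𝔛 p hp U τ, ?_, add_sub_cancel _ _⟩
    · have h3 := (happ 0 τ).1 ((hproj 0 _).2 (by
        rw [zero_add, pow_one]
        have := Ideal.sub_mem _ hy (Ideal.pow_le_self (by omega) h2)
        simpa using this))
      rwa [zero_add, pow_one] at h3
    · rw [pow_succ, pow_one] at h2
      exact h2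

variable {U : X.Opens} {x : 𝔛.X 0} (hx : (p 0).base x ∈ U) (M : FSch.ModF 𝔛 h𝔛.1)

/-- The ring map on sections. -/
noncomputable abbrev sh (U : X.Opens) : Scheme'.secR U →+* Levels.A 𝔛 h𝔛.1 (ComplSec.pre p U) :=
  ComplPull.shA h𝔛 p hp U

/-- The underlying abelian presheaf of a direct image. -/
noncomputable abbrev pushP : X.Opensᵒᵖ ⥤ AddCommGrpCat.{u} :=
  (ModSite.toAb ((κ h𝔛 p hp).push.obj M)).obj

/-- The cocone of germs. -/
noncomputable def θcocone (W : X.Opens) (w : (pt ((p 0).base x)).fiber.obj W) :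
    (pushP h𝔛 p hp M).obj (op W) ⟶ ModSite.stalkAb (pt x) M :=
  AddCommGrpCat.ofHom (gm M (U := ComplSec.pre p W) (x := x) w.down.down)

theorem θcocone_w ⦃W W' : X.Opens⦄ (g : W ⟶ W') (w : (pt ((p 0).base x)).fiber.obj W) :
    (pushP h𝔛 p hp M).map g.op ≫ θcocone h𝔛 p hp M W w =
      θcocone h𝔛 p hp M W' ((pt ((p 0).base x)).fiber.map g w) := by
  refine ConcreteCategory.hom_ext _ _ fun s => ?_
  exact gm_rs ((Opens.map (p 0).base).map g) _ _ s

/-- The map on stalks of a direct image. -/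
noncomputable def θhom : (ModSite.stalkAb (pt ((p 0).base x)) ((κ h𝔛 p hp).push.obj M) : Type u) →+
    (ModSite.stalkAb (pt x) M : Type u) :=
  ((pt ((p 0).base x)).presheafFiberDesc (P := pushP h𝔛 p hp M)
    (θcocone h𝔛 p hp M) (θcocone_w h𝔛 p hp M)).hom

theorem θhom_gm {W : X.Opens} (hW : (p 0).base x ∈ W)
    (s : ModSite.sect ((κ h𝔛 p hp).push.obj M) W) :
    θhom h𝔛 p hp M (gm ((κ h𝔛 p hp).push.obj M) hW s) = gm M (U := ComplSec.pre p W) hW s := by
  have h := ConcreteCategory.congr_hom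
    ((pt ((p 0).base x)).toPresheafFiber_presheafFiberDesc (P := pushP h𝔛 p hp M)
      (θcocone h𝔛 p hp M) (θcocone_w h𝔛 p hp M) W ⟨⟨hW⟩⟩) s
  exact h

/-- The stalk of a direct image, semilinearly. -/
noncomputable def θlin : ((Stalk.St X.sheaf hx).obj ((κ h𝔛 p hp).push.obj M) : Type u) →ₗ[Scheme'.secR U]
    ((ModuleCat.restrictScalars (sh h𝔛 p hp U)).obj
      ((Good.S h𝔛 (V := ComplSec.pre p U) hx).obj M) : Type u) where
  toFun := θhom h𝔛 p hp M
  map_add' := map_add _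
  map_smul' a z := by
    obtain ⟨W, e, hW, s, rfl⟩ := Stalk.exists_gS hx z
    refine (congrArg (θhom h𝔛 p hp M) (Stalk.gS_smul hx e hW a s)).trans ?_
    refine (θhom_gm h𝔛 p hp M hW _).trans ?_
    refine Eq.trans ?_ (congrArg (fun v => ComplPull.shA h𝔛 p hp U a •
      (show ((Good.S h𝔛 (V := ComplSec.pre p U) hx).obj M : Type u) from v))
      (θhom_gm h𝔛 p hp M hW s)).symm
    refine Eq.trans ?_ (Stalk.gS_smul (O := 𝔛.Osh h𝔛.1) (U := ComplSec.pre p U) hx
      ((p 0).preimage_mono e) hW (ComplPull.shA h𝔛 p hp U a) s).symm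
    exact congrArg (fun b => gm M (U := ComplSec.pre p W) hW
      (b • (show ModSite.sect M (ComplSec.pre p W) from s))) (ComplPull.shA_res h𝔛 p hp e a).symm

theorem θlin_gS {W : X.Opens} (hW : (p 0).base x ∈ W)
    (s : ModSite.sect ((κ h𝔛 p hp).push.obj M) W) :
    θlin h𝔛 p hp hx M (Stalk.gS hx ((κ h𝔛 p hp).push.obj M) hW s) =
      Stalk.gS (O := 𝔛.Osh h𝔛.1) (U := ComplSec.pre p U) hx M (V := ComplSec.pre p W) hW s :=
  θhom_gm h𝔛 p hp M hW s

theorem θlin_bijective : Function.Bijective (θlin h𝔛 p hp hx M) := by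
  refine ⟨(injective_iff_map_eq_zero _).2 fun z hz => ?_, fun z => ?_⟩
  · obtain ⟨W, e, hW, s, rfl⟩ := Stalk.exists_gS hx z
    obtain ⟨V, eV, hV, hs⟩ := Stalk.exists_eq_zero (O := 𝔛.Osh h𝔛.1) (U := ComplSec.pre p U) hx
      (V := ComplSec.pre p W) hW (M := M) s ((θlin_gS h𝔛 p hp hx M hW s).symm.trans hz)
    obtain ⟨W', -, hW'W, hxW', hW'V⟩ := ComplPull.exists_affine_pre p hV hW
    refine (Stalk.gS_rs hx hW'W hxW' hW s).symm.trans ?_
    refine (congrArg (Stalk.gS hx ((κ h𝔛 p hp).push.obj M) hxW') ?_).trans (map_zero _)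
    show rs M (homOfLE ((p 0).preimage_mono hW'W)) s = 0
    exact (rs_rs (homOfLE eV) (homOfLE hW'V) _).symm.trans
      ((congrArg (rs M (homOfLE hW'V)) hs).trans (map_zero _))
  · obtain ⟨V, eV, hV, s, rfl⟩ := Stalk.exists_gS (O := 𝔛.Osh h𝔛.1) (U := ComplSec.pre p U) hx z
    obtain ⟨W, -, hWU, hxW, hWV⟩ := ComplPull.exists_affine_pre p hV (U := U) hx
    exact ⟨Stalk.gS hx ((κ h𝔛 p hp).push.obj M) hxW (rs M (homOfLE hWV) s),
      (θlin_gS h𝔛 p hp hx M hxW _).trans (Stalk.gS_rs _ hWV hxW hV s)⟩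

/-- Stalks of direct images. -/
noncomputable def θiso :
    (κ h𝔛 p hp).push ⋙ Stalk.St X.sheaf hx ≅
      Good.S h𝔛 (V := ComplSec.pre p U) hx ⋙ ModuleCat.restrictScalars (sh h𝔛 p hp U) :=
  NatIso.ofComponents
    (fun M => (LinearEquiv.ofBijective _ (θlin_bijective h𝔛 p hp hx M)).toModuleIso)
    fun {M N} φ => ModuleCat.hom_ext (LinearMap.ext fun z => by
      obtain ⟨W, e, hW, s, rfl⟩ := Stalk.exists_gS hx z
      refine (congrArg (θlin h𝔛 p hp hx N) (Stalk.map_gS hx _ hW s)).trans ?_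
      refine (θlin_gS h𝔛 p hp hx N hW _).trans ?_
      refine Eq.trans ?_ (congrArg ((Good.S h𝔛 (V := ComplSec.pre p U) hx).map φ)
        (θlin_gS h𝔛 p hp hx M hW s)).symm
      exact (Stalk.map_gS (O := 𝔛.Osh h𝔛.1) (U := ComplSec.pre p U) hx φ hW s).symm)

/-- Direct images vanish off the image. -/
theorem isZero_St_push {U : X.Opens} {y : X} (hy : y ∈ U) (h : y ∉ Set.range (p 0).base)
    (M : FSch.ModF 𝔛 h𝔛.1) : IsZero ((Stalk.St X.sheaf hy).obj ((κ h𝔛 p hp).push.obj M)) := by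
  haveI : Subsingleton ((Stalk.St X.sheaf hy).obj ((κ h𝔛 p hp).push.obj M) : Type u) := by
    refine ⟨fun a b => ?_⟩
    suffices h0 : ∀ z : ((Stalk.St X.sheaf hy).obj ((κ h𝔛 p hp).push.obj M) : Type u), z = 0 by
      rw [h0 a, h0 b]
    intro z
    obtain ⟨W, e, hW, s, rfl⟩ := Stalk.exists_gS hy z
    let O' : X.Opens := W ⊓ ⟨(Set.range (p 0).base)ᶜ, (p 0).isClosedEmbedding.isClosed_range.isOpen_compl⟩
    refine (Stalk.gS_rs hy (inf_le_left : O' ≤ W) ⟨hW, h⟩ hW s).symm.trans ?_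
    refine (congrArg (Stalk.gS hy ((κ h𝔛 p hp).push.obj M) (V := O') ⟨hW, h⟩) ?_).trans (map_zero _)
    exact TorsCoh.eq_zero_of_locally (h := h𝔛.1) M _ fun w hw => absurd ⟨w, rfl⟩ hw.2
  exact ModuleCat.isZero_of_subsingleton _

include hker in
/-- Direct images preserve stalkwise injectivity. -/
theorem stInj_push {M : FSch.ModF 𝔛 h𝔛.1} (hM : Good.StInj h𝔛 M) :
    Scheme'.StInj ((κ h𝔛 p hp).push.obj M) := fun V hV y hy => by
  by_cases h : y ∈ Set.range (p 0).base
  · obtain ⟨x, rfl⟩ := h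
    haveI := hM _ (ComplSec.isAffineOpen_pre p hV) x hy
    haveI := injective_restrictScalars _ (flat_shA h𝔛 p hp 𝓘 hker hV)
      ((Good.S h𝔛 (V := ComplSec.pre p V) hy).obj M)
    exact (Module.Baer.of_equiv ((θiso h𝔛 p hp hy).app M).toLinearEquiv.symm
      (Module.Baer.of_injective ‹_›)).injective
  · haveI := ModuleCat.subsingleton_of_isZero (isZero_St_push h𝔛 p hp hy h M)
    exact Module.Baer.injective fun _ g => ⟨0, fun _ _ => Subsingleton.elim _ _⟩

theorem exists_affine (y : X) : ∃ (V : X.Opens) (_ : IsAffineOpen V), y ∈ V := by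
  obtain ⟨V, hV, hy, -⟩ :=
    Opens.isBasis_iff_nbhd.1 X.isBasis_affineOpens (U := ⊤) (x := y) trivial
  exact ⟨V, hV, hy⟩

/-- The direct image preserves epimorphisms. -/
theorem epi_push_map {M N : FSch.ModF 𝔛 h𝔛.1} (φ : M ⟶ N) [Epi φ] :
    Epi ((κ h𝔛 p hp).push.map φ) := by
  refine Preadditive.epi_of_isZero_cokernel _ (Stalk.isZero _ fun y => ?_)
  obtain ⟨V, -, hy⟩ := exists_affine y
  refine ⟨V, hy, ?_⟩
  suffices Epi ((Stalk.St X.sheaf hy).map ((κ h𝔛 p hp).push.map φ)) from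
    (isZero_cokernel_of_epi _).of_iso (PreservesCokernel.iso (Stalk.St X.sheaf hy) _)
  by_cases h : y ∈ Set.range (p 0).base
  · obtain ⟨x, rfl⟩ := h
    haveI : Epi ((Good.S h𝔛 (V := ComplSec.pre p V) hy ⋙
        ModuleCat.restrictScalars (ComplPull.shA h𝔛 p hp V)).map φ) :=
      (ModuleCat.epi_iff_surjective _).2
        ((ModuleCat.epi_iff_surjective ((Good.S h𝔛 (V := ComplSec.pre p V) hy).map φ)).1 inferInstance)
    exact ((MorphismProperty.epimorphisms _).arrow_mk_iso_iff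
      (((Functor.mapArrowFunctor _ _).mapIso (θiso h𝔛 p hp hy)).app (Arrow.mk φ))).2
      (‹_› : Epi _)
  · haveI := ModuleCat.subsingleton_of_isZero (isZero_St_push h𝔛 p hp hy h N)
    exact (ModuleCat.epi_iff_surjective _).2 fun z => ⟨0, Subsingleton.elim _ _⟩

theorem preservesFiniteColimits_push : PreservesFiniteColimits (κ h𝔛 p hp).push := by
  haveI : PreservesLimitsOfSize.{0, 0} (κ h𝔛 p hp).push :=
    (Adjunction.ofIsRightAdjoint (κ h𝔛 p hp).push).rightAdjoint_preservesLimits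
  haveI : (κ h𝔛 p hp).push.PreservesEpimorphisms := ⟨fun φ _ => epi_push_map h𝔛 p hp φ⟩
  haveI : (κ h𝔛 p hp).push.PreservesHomology :=
    Functor.preservesHomology_of_preservesEpis_and_kernels _
  exact Functor.preservesFiniteColimits_of_preservesHomology _

variable (M : FSch.ModF 𝔛 h𝔛.1)

include hker in
/-- Torsion sections of a direct image are direct images of torsion sections, on stalks. -/
theorem range_iff {V : X.Opens} (hV : IsAffineOpen V) {y : X} (hy : y ∈ V)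
    (z : ((Scheme'.S hy).obj ((κ h𝔛 p hp).push.obj M) : Type u)) :
    (∃ a, (Scheme'.S hy).map ((FTors.gammaZpι X 𝓘).app ((κ h𝔛 p hp).push.obj M)) a = z) ↔
      ∃ b, (Scheme'.S hy).map ((κ h𝔛 p hp).push.map ((FTors.gammaTι 𝔛 h𝔛.1).app M)) b = z := by
  by_cases h : y ∈ Set.range (p 0).base
  · obtain ⟨x, rfl⟩ := h
    have hW := ComplSec.isAffineOpen_pre p hV
    let e := fun N : FSch.ModF 𝔛 h𝔛.1 => ((θiso h𝔛 p hp hy).app N).toLinearEquiv
    have hnat : ∀ b, e M ((Scheme'.S hy).map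
        ((κ h𝔛 p hp).push.map ((FTors.gammaTι 𝔛 h𝔛.1).app M)) b) =
        (Good.S h𝔛 (V := ComplSec.pre p V) hy).map ((FTors.gammaTι 𝔛 h𝔛.1).app M) (e _ b) := fun b =>
      ConcreteCategory.congr_hom ((θiso h𝔛 p hp hy).hom.naturality ((FTors.gammaTι 𝔛 h𝔛.1).app M)) b
    have ht : z ∈ DRing.torsionSub (Scheme'.IV 𝓘 hV)
        ((Scheme'.S hy).obj ((κ h𝔛 p hp).push.obj M) : Type u) ↔
        (show ((Good.S h𝔛 (V := ComplSec.pre p V) hy).obj M : Type u) from e M z) ∈
          DRing.torsionSub (Good.JV h𝔛 (ComplSec.pre p V)) _ := by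
      refine Iff.trans ?_
        (mem_torsionSub_restrictScalars_iff _ (map_IV h𝔛 p hp 𝓘 hker hV) _ (e M z))
      refine ⟨fun ⟨n, hn⟩ => ⟨n, fun a ha => ?_⟩, fun ⟨n, hn⟩ => ⟨n, fun a ha => ?_⟩⟩
      · exact ((e M).map_smul a z).symm.trans ((congrArg (e M) (hn a ha)).trans (map_zero _))
      · exact (e M).injective (((e M).map_smul a z).trans ((hn a ha).trans (map_zero _).symm))
    refine ⟨fun ⟨a, ha⟩ => ?_, fun ⟨b, hb⟩ => ?_⟩
    · obtain ⟨c, hc⟩ := Good.exists_preimage h𝔛 hW hy M _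
        (ht.1 (ha ▸ Scheme'.map_gammaι_mem 𝓘 hV hy _ a))
      refine ⟨(e _).symm c, (e M).injective ((hnat _).trans ?_)⟩
      exact (congrArg _ ((e _).apply_symm_apply c)).trans hc
    · refine Scheme'.exists_preimage 𝓘 hV hy _ z (ht.2 ?_)
      rw [← hb, hnat]
      exact Good.map_gammaι_mem h𝔛 hW hy M (e _ b)
  · haveI := ModuleCat.subsingleton_of_isZero (isZero_St_push h𝔛 p hp hy h M)
    exact ⟨fun _ => ⟨0, @Subsingleton.elim _ ‹_› _ _⟩, fun _ => ⟨0, @Subsingleton.elim _ ‹_› _ _⟩⟩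

/-- Morphisms are detected on stalks. -/
theorem eq_zero_of_stalk {A C : ModSite.Mod X.sheaf} (φ : A ⟶ C)
    (h : ∀ (V : X.Opens) (_ : IsAffineOpen V) (y : X) (hy : y ∈ V)
      (z : ((Scheme'.S hy).obj A : Type u)), (Scheme'.S hy).map φ z = 0) : φ = 0 := by
  refine SheafOfModules.hom_ext (PresheafOfModules.hom_ext fun W =>
    ModuleCat.hom_ext (LinearMap.ext fun s => ?_))
  refine Scheme'.eq_zero_of_locally C (U := W.unop) (ap φ s) fun z hz => ?_
  obtain ⟨V, hV, hy⟩ := exists_affine z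
  obtain ⟨W', e, hW', he⟩ := Stalk.exists_eq_zero hy hz (ap φ s)
    ((Stalk.map_gS hy φ hz s).symm.trans (h V hV z hy _))
  exact ⟨W', e, hW', he⟩

/-- A map into a module with a given submodule factors if it does so on stalks. -/
theorem exists_lift {A B C : ModSite.Mod X.sheaf} (a : A ⟶ C) (b : B ⟶ C) [Mono b]
    (h : ∀ (V : X.Opens) (_ : IsAffineOpen V) (y : X) (hy : y ∈ V)
      (z : ((Scheme'.S hy).obj A : Type u)),
      ∃ w, (Scheme'.S hy).map b w = (Scheme'.S hy).map a z) :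
    ∃ c : A ⟶ B, c ≫ b = a := by
  have h0 : a ≫ cokernel.π b = 0 := eq_zero_of_stalk _ fun V hV y hy z => by
    obtain ⟨w, hw⟩ := h V hV y hy z
    rw [Functor.map_comp]
    refine (congrArg ((Scheme'.S hy).map (cokernel.π b)) hw.symm).trans ?_
    refine (ConcreteCategory.congr_hom ((Scheme'.S hy).map_comp b (cokernel.π b)).symm w).trans ?_
    rw [cokernel.condition, Functor.map_zero]
    rfl
  exact ⟨Abelian.monoLift b a h0, Abelian.monoLift_comp b a h0⟩

end Groth.Agent.H22.Gam.Compl
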