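import Groth.Agent.Lib.DerCat.KInjExists
import Groth.Agent.Lib.DerivedOX.RightDerived
import Groth.Agent.Lib.DerivedOX.Grothendieck
import Groth.Prelude.Def_SiteCmp

/-!
# `Rf_*` of a morphism of ringed sites with exact `f_*` (helper22)
-/

set_option autoImplicit false
set_option maxHeartbeats 1000000
set_option linter.style.haveILetI false

universe u

open CategoryTheory CategoryTheory.Limits Opposite
open Groth.Agent.Lib

attribute [local instance] HasDerivedCategory.standard

namespace Groth.Agent.H22.Gam.Push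

variable {C : Type u} [SmallCategory C] {J : GrothendieckTopology C}
  {D : Type u} [SmallCategory D] {K : GrothendieckTopology D}
  {O_C : Sheaf J CommRingCat.{u}} {O_D : Sheaf K CommRingCat.{u}} (f : ModSite.RMor O_C O_D)

theorem preservesFiniteLimits_push : PreservesFiniteLimits f.push := by
  haveI : PreservesLimitsOfSize.{0, 0} f.push :=
    (Adjunction.ofIsRightAdjoint f.push).rightAdjoint_preservesLimits
  exact PreservesLimitsOfSize.preservesFiniteLimits.{0, 0} _

variable [SiteCmp.HasRpushD f]

/-- `f_*` on complexes. -/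
noncomputable abbrev pushC :
    CochainComplex (ModSite.Mod O_C) ℤ ⥤ CochainComplex (ModSite.Mod O_D) ℤ :=
  f.push.mapHomologicalComplex (.up ℤ)

/-- The unit of `Rf_*`. -/
noncomputable abbrev η : SiteCmp.pushKh f ⟶ DerivedCategory.Qh ⋙ SiteCmp.RpushD f :=
  (SiteCmp.pushKh f).totalRightDerivedUnit DerivedCategory.Qh
    (HomotopyCategory.quasiIso (ModSite.Mod O_C) (ComplexShape.up ℤ))

variable [PreservesFiniteColimits f.push]

theorem isIso_η_app (M : CochainComplex (ModSite.Mod O_C) ℤ) :
    IsIso ((η f).app ((HomotopyCategory.quotient _ (ComplexShape.up ℤ)).obj M)) := by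
  haveI := DerivedOX.Grothendieck.isGrothendieckAbelian_sheafOfModules (ModSite.ringSh O_C)
  haveI := DerivedOX.RightDerived.isLeftAdjoint_Qh
    (DerCat.KInjExists.hasKInjRes (A := ModSite.Mod O_C))
  haveI := preservesFiniteLimits_push f
  obtain ⟨I, i, hI, hi⟩ := DerCat.KInjExists.hasKInjRes M
  haveI := hI
  haveI := hi
  let F := SiteCmp.pushKh f
  let R := SiteCmp.RpushD f
  let q := HomotopyCategory.quotient (ModSite.Mod O_C) (ComplexShape.up ℤ)
  haveI h1 : IsIso ((η f).app (q.obj I)) :=
    DerivedOX.RightDerived.isIso_totalRightDerivedUnit_app_of_isKInjective F I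
  haveI : QuasiIso ((pushC f).map i) := inferInstance
  haveI h2 : IsIso (F.map (q.map i)) :=
    Localization.inverts DerivedCategory.Qh (HomotopyCategory.quasiIso (ModSite.Mod O_D) (.up ℤ))
      ((HomotopyCategory.quotient (ModSite.Mod O_D) (ComplexShape.up ℤ)).map ((pushC f).map i))
      ((HomotopyCategory.quotient_map_mem_quasiIso_iff _).2 ‹_›)
  haveI := Localization.inverts DerivedCategory.Qh
    (HomotopyCategory.quasiIso (ModSite.Mod O_C) (ComplexShape.up ℤ)) (q.map i)
    ((HomotopyCategory.quotient_map_mem_quasiIso_iff _).2 hi)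
  have h3 : IsIso (R.map (DerivedCategory.Qh.map (q.map i))) := Functor.map_isIso _ _
  have h4 : IsIso ((η f).app (q.obj M) ≫ (DerivedCategory.Qh ⋙ R).map (q.map i)) := by
    rw [← (η f).naturality (q.map i)]
    infer_instance
  exact @IsIso.of_isIso_comp_right _ _ _ _ _ ((η f).app (q.obj M))
    ((DerivedCategory.Qh ⋙ R).map (q.map i)) h3 h4

/-- `Rf_*` is computed termwise. -/
noncomputable def iso : DerivedCategory.Q ⋙ SiteCmp.RpushD f ≅ pushC f ⋙ DerivedCategory.Q := by
  haveI : IsIso (Functor.whiskerLeft (HomotopyCategory.quotient _ (ComplexShape.up ℤ)) (η f)) :=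
    haveI : ∀ M, IsIso ((Functor.whiskerLeft (HomotopyCategory.quotient _ (ComplexShape.up ℤ))
      (η f)).app M) := isIso_η_app f
    NatIso.isIso_of_isIso_app _
  exact Functor.isoWhiskerRight (DerivedCategory.quotientCompQhIso _).symm _ ≪≫
    Functor.associator _ _ _ ≪≫
    (asIso (Functor.whiskerLeft (HomotopyCategory.quotient _ (ComplexShape.up ℤ)) (η f))).symm ≪≫
    (Functor.associator _ _ _).symm ≪≫
    Functor.isoWhiskerRight (f.push.mapHomotopyCategoryFactors (ComplexShape.up ℤ))
      DerivedCategory.Qh ≪≫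
    Functor.associator _ _ _ ≪≫
    Functor.isoWhiskerLeft _ (DerivedCategory.quotientCompQhIso _)

end Groth.Agent.H22.Gam.Push
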