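import Groth.Agent.H22.Gam.Derived

/-!
# Characterising `RΓ_I` by the canonical morphism (helper22)
-/

set_option autoImplicit false
set_option maxHeartbeats 1000000
set_option linter.style.haveILetI false

universe u

open CategoryTheory CategoryTheory.Limits Opposite
open Groth.Agent.Lib

attribute [local instance] HasDerivedCategory.standard

namespace Groth.Agent.H22.Gam.Unique

variable {C : Type u} [SmallCategory C] {J : GrothendieckTopology C} {O : Sheaf J CommRingCat.{u}}
  (I : FTors.IdealFam O)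

theorem mono_gammaι (M : ModSite.Mod O) : Mono ((FTors.gammaι I).app M) := by
  refine ⟨fun a b hab => SheafOfModules.hom_ext (PresheafOfModules.hom_ext fun W =>
    ModuleCat.hom_ext (LinearMap.ext fun s => Subtype.ext ?_))⟩
  exact congrArg (fun t => t.val.app W s) hab

theorem mono_gamι (K : CochainComplex (ModSite.Mod O) ℤ) : Mono (gamι I K) := by
  haveI : ∀ i, Mono ((gamι I K).f i) := fun i => mono_gammaι I (K.X i)
  exact HomologicalComplex.mono_of_mono_f _ this

variable [FTors.HasRgamma I] {K G : CochainComplex (ModSite.Mod O) ℤ} (j : G ⟶ K)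
  (φ : (gamC I).obj K ≅ G)

/-- If `G ≅ Γ_I K` over `K`, then `RΓ_I` inverts `G ⟶ K`. -/
theorem isIso_map_j [IsIso ((unit I).app (quot.obj K))] [IsIso ((unit I).app (quot.obj G))]
    (hφ : φ.hom ≫ j = gamι I K) [IsIso (gamι I G)] :
    IsIso ((FTors.Rgamma I).map (DerivedCategory.Q.map j)) := by
  let R := FTors.Rgamma I
  haveI := mono_gamι I K
  have hj : (gamC I).map j = gamι I G ≫ φ.inv := by
    rw [← cancel_mono (gamι I K)]
    refine Eq.trans (b := gamι I G ≫ j)
      (HomologicalComplex.hom_ext _ _ fun i => (FTors.gammaι I).naturality (j.f i)) ?_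
    rw [← hφ]
    simp
  haveI : IsIso ((gamC I).map j) := hj ▸ inferInstance
  haveI : IsIso ((FTors.gammaKh I).map (quot.map j)) :=
    (NatIso.isIso_map_iff (khIso I) j).2
      (inferInstanceAs (IsIso (DerivedCategory.Q.map ((gamC I).map j))))
  haveI : IsIso (R.map (DerivedCategory.Qh.map (quot.map j))) := by
    have hn : (FTors.gammaKh I).map (quot.map j) ≫ (unit I).app (quot.obj K) =
        (unit I).app (quot.obj G) ≫ R.map (DerivedCategory.Qh.map (quot.map j)) :=
      (unit I).naturality (quot.map j)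
    haveI : IsIso ((unit I).app (quot.obj G) ≫ R.map (DerivedCategory.Qh.map (quot.map j))) := by
      rw [← hn]; infer_instance
    exact IsIso.of_isIso_comp_left ((unit I).app (quot.obj G)) _
  exact (NatIso.isIso_map_iff (Functor.isoWhiskerRight (DerivedCategory.quotientCompQhIso _) R) j).1
    ‹_›

/-- The identification of `RΓ_I F` compatible with the canonical morphism is unique. -/
theorem existsUnique_iso {F W : DerivedCategory (ModSite.Mod O)} (u : W ⟶ F)
    (aF : F ≅ DerivedCategory.Q.obj K) (aW : W ≅ DerivedCategory.Q.obj G)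
    (hu : u ≫ aF.hom = aW.hom ≫ DerivedCategory.Q.map j)
    [IsIso ((unit I).app (quot.obj K))] [IsIso ((unit I).app (quot.obj G))]
    (hφ : φ.hom ≫ j = gamι I K) [IsIso (gamι I G)] :
    ∃! e : (FTors.Rgamma I).obj F ≅ W, e.hom ≫ u = (FTors.Rgammaε I).app F := by
  let R := FTors.Rgamma I
  let ε := FTors.Rgammaε I
  let e₀ : R.obj F ≅ W :=
    R.mapIso aF ≪≫ objIso I K ≪≫ DerivedCategory.Q.mapIso φ ≪≫ aW.symm
  have he₀ : e₀.hom ≫ u = ε.app F := by
    rw [← cancel_mono aF.hom]
    refine Eq.trans ?_ (ε.naturality aF.hom)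
    rw [show ε.app (DerivedCategory.Q.obj K) = _ from ε_app_eq I K]
    simp [e₀, R, hu, ← Functor.map_comp, hφ]
  refine ⟨e₀, he₀, fun e he => Iso.ext ?_⟩
  haveI := isIso_map_j I j φ hφ
  haveI : IsIso (R.map u) := by
    rw [show u = (aW.hom ≫ DerivedCategory.Q.map j) ≫ aF.inv from
      (Iso.eq_comp_inv aF).2 hu, R.map_comp, R.map_comp]
    infer_instance
  haveI : IsIso (ε.app (DerivedCategory.Q.obj G)) :=
    (isIso_ε_iff I G).2 inferInstance
  haveI : IsIso (ε.app (R.obj F)) := (NatTrans.isIso_app_iff_of_iso ε (e₀ ≪≫ aW)).2 ‹_›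
  have h1 : R.map e.hom = R.map e₀.hom := by
    rw [← cancel_mono (R.map u), ← R.map_comp, ← R.map_comp]
    exact congrArg R.map (he.trans he₀.symm)
  rw [← cancel_epi (ε.app (R.obj F))]
  exact (ε.naturality e.hom).symm.trans ((congrArg (· ≫ ε.app W) h1).trans (ε.naturality e₀.hom))

end Groth.Agent.H22.Gam.Unique
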