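import Groth.Agent.H22.Gam.Compl
import Groth.Agent.H22.Gam.Push
import Groth.Agent.H22.Gam.Unique

/-!
# `RΓ_𝓘 Rκ_* ≅ Rκ_* RΓ'` (helper22)
-/

set_option autoImplicit false
set_option maxHeartbeats 1000000
set_option linter.style.haveILetI false
set_option linter.unusedSectionVars false

universe u

open CategoryTheory CategoryTheory.Limits AlgebraicGeometry TopologicalSpace Opposite
open Groth.Agent.H30 Groth.Agent.Lib

attribute [local instance] HasDerivedCategory.standard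

namespace Groth.Agent.H22.Gam.ComplIso

variable {X : Scheme.{u}} [IsLocallyNoetherian X] {𝔛 : FSch.Sys.{u}} (h𝔛 : 𝔛.IsLocNoethFormal)
  (p : ∀ n, 𝔛.X n ⟶ X) (hp : ∀ n, 𝔛.ι n ≫ p (n + 1) = p n) [∀ k, IsClosedImmersion (p k)]
  (𝓘 : X.IdealSheafData)
  (hker : ∀ k (U : X.affineOpens), (p k).ker.ideal U = 𝓘.ideal U ^ (k + 1))

include hker in
theorem nonempty_iso (M : FSch.ModF 𝔛 h𝔛.1) :
    ∃ α : (FTors.gammaZp X 𝓘).obj ((Compl.κ h𝔛 p hp).push.obj M) ≅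
        (Compl.κ h𝔛 p hp).push.obj ((FTors.gammaT 𝔛 h𝔛.1).obj M),
      α.hom ≫ (Compl.κ h𝔛 p hp).push.map ((FTors.gammaTι 𝔛 h𝔛.1).app M) =
        (FTors.gammaZpι X 𝓘).app ((Compl.κ h𝔛 p hp).push.obj M) := by
  haveI := Scheme'.mono_gammaι 𝓘 ((Compl.κ h𝔛 p hp).push.obj M)
  haveI := TorsLevel.mono_gammaι (FTors.openIdealFam 𝔛 h𝔛.1) M
  haveI := Push.preservesFiniteLimits_push (Compl.κ h𝔛 p hp)
  haveI : Mono ((Compl.κ h𝔛 p hp).push.map ((FTors.gammaTι 𝔛 h𝔛.1).app M)) := inferInstance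
  obtain ⟨a, ha⟩ := Compl.exists_lift
    ((FTors.gammaZpι X 𝓘).app ((Compl.κ h𝔛 p hp).push.obj M))
    ((Compl.κ h𝔛 p hp).push.map ((FTors.gammaTι 𝔛 h𝔛.1).app M))
    fun V hV y hy z => (Compl.range_iff h𝔛 p hp 𝓘 hker M hV hy _).1 ⟨z, rfl⟩
  obtain ⟨b, hb⟩ := Compl.exists_lift
    ((Compl.κ h𝔛 p hp).push.map ((FTors.gammaTι 𝔛 h𝔛.1).app M))
    ((FTors.gammaZpι X 𝓘).app ((Compl.κ h𝔛 p hp).push.obj M))
    fun V hV y hy z => (Compl.range_iff h𝔛 p hp 𝓘 hker M hV hy _).2 ⟨z, rfl⟩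
  refine ⟨⟨a, b, (cancel_mono ((FTors.gammaZpι X 𝓘).app ((Compl.κ h𝔛 p hp).push.obj M))).1 ?_,
    (cancel_mono ((Compl.κ h𝔛 p hp).push.map ((FTors.gammaTι 𝔛 h𝔛.1).app M))).1 ?_⟩, ha⟩
  · rw [Category.assoc, hb, ha, Category.id_comp]
  · rw [Category.assoc, ha, hb, Category.id_comp]

include hker in
theorem isIso_gammaι_push (M : FSch.ModF 𝔛 h𝔛.1) (hM : FTors.IsTorsF 𝔛 h𝔛.1 M) :
    IsIso ((FTors.gammaZpι X 𝓘).app ((Compl.κ h𝔛 p hp).push.obj M)) := by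
  obtain ⟨α, hα⟩ := nonempty_iso h𝔛 p hp 𝓘 hker M
  haveI := TorsClosure.isIso_gammaTι hM
  rw [← hα]
  infer_instance

variable [SiteCmp.HasRpushD (Compl.κ h𝔛 p hp)] [FTors.HasRgammaT 𝔛 h𝔛.1] [FTors.HasRgammaZp X 𝓘]

include hker in
/-- The comparison is unique. -/
theorem existsUnique_iso (E : DerivedCategory (FSch.ModF 𝔛 h𝔛.1)) :
    ∃! e : (FTors.RgammaZp X 𝓘).obj ((SiteCmp.RpushD (Compl.κ h𝔛 p hp)).obj E) ≅
        (SiteCmp.RpushD (Compl.κ h𝔛 p hp)).obj ((FTors.RgammaT 𝔛 h𝔛.1).obj E),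
      e.hom ≫ (SiteCmp.RpushD (Compl.κ h𝔛 p hp)).map ((FTors.RgammaTε 𝔛 h𝔛.1).app E) =
        (FTors.RgammaZpε X 𝓘).app ((SiteCmp.RpushD (Compl.κ h𝔛 p hp)).obj E) := by
  let IF := FTors.openIdealFam 𝔛 h𝔛.1
  let IZ := FTors.powIdealFam X 𝓘
  let f := Compl.κ h𝔛 p hp
  let R := SiteCmp.RpushD f
  haveI : PreservesFiniteColimits f.push := Compl.preservesFiniteColimits_push h𝔛 p hp
  obtain ⟨L, hL, ⟨eE⟩⟩ := exists_rep h𝔛 E
  haveI := isIso_unit h𝔛 L hL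
  haveI := Scheme'.isIso_unit 𝓘 ((Push.pushC f).obj L)
    fun n => Compl.stInj_push h𝔛 p hp 𝓘 hker (hL n)
  haveI := Scheme'.isIso_unit 𝓘 ((Push.pushC f).obj ((gamC IF).obj L))
    fun n => Compl.stInj_push h𝔛 p hp 𝓘 hker (Good.stInj_gammaT h𝔛 (hL n))
  haveI : IsIso (gamι IZ ((Push.pushC f).obj ((gamC IF).obj L))) := by
    haveI : ∀ n, IsIso ((gamι IZ ((Push.pushC f).obj ((gamC IF).obj L))).f n) := fun n =>
      isIso_gammaι_push h𝔛 p hp 𝓘 hker _ (TorsClosure.isTors_gammaT (L.X n))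
    exact HomologicalComplex.Hom.isIso_of_components _
  choose α hα using fun n => nonempty_iso h𝔛 p hp 𝓘 hker (L.X n)
  haveI := Push.preservesFiniteLimits_push f
  haveI : ∀ n, Mono ((FTors.gammaι IF).app (L.X n)) := fun n => TorsLevel.mono_gammaι IF (L.X n)
  let φ : (gamC IZ).obj ((Push.pushC f).obj L) ≅ (Push.pushC f).obj ((gamC IF).obj L) :=
    HomologicalComplex.Hom.isoOfComponents α fun i j _ => by
      refine (cancel_mono (f.push.map ((FTors.gammaι IF).app (L.X j)))).1 ?_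
      refine (Category.assoc _ _ _).trans (Eq.trans ?_ (Category.assoc _ _ _).symm)
      refine Eq.trans ?_ ((congrArg
        (((gamC IZ).obj ((Push.pushC f).obj L)).d i j ≫ ·) (hα j)).trans
        ((FTors.gammaι IZ).naturality (f.push.map (L.d i j)))).symm
      refine Eq.trans ?_ (congrArg (· ≫ f.push.map (L.d i j)) (hα i))
      refine Eq.trans (congrArg ((α i).hom ≫ ·) ((f.push.map_comp _ _).symm.trans
        ((congrArg f.push.map ((FTors.gammaι IF).naturality (L.d i j))).trans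
          (f.push.map_comp _ _)))) (Category.assoc _ _ _).symm
  refine Unique.existsUnique_iso IZ ((Push.pushC f).map (gamι IF L)) φ _
    (R.mapIso eE ≪≫ (Push.iso f).app L)
    (R.mapIso ((FTors.RgammaT 𝔛 h𝔛.1).mapIso eE ≪≫ objIso IF L) ≪≫
      (Push.iso f).app ((gamC IF).obj L)) ?_ (HomologicalComplex.hom_ext _ _ fun n => hα n)
  have h1 : (FTors.RgammaTε 𝔛 h𝔛.1).app E ≫ eE.hom =
      ((FTors.RgammaT 𝔛 h𝔛.1).map eE.hom ≫ (objIso IF L).hom) ≫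
        DerivedCategory.Q.map (gamι IF L) :=
    ((FTors.RgammaTε 𝔛 h𝔛.1).naturality eE.hom).symm.trans
      ((congrArg ((FTors.RgammaT 𝔛 h𝔛.1).map eE.hom ≫ ·) (ε_app_eq IF L)).trans
        (Category.assoc _ _ _).symm)
  have h2 := (Push.iso f).hom.naturality (gamι IF L)
  refine (Category.assoc _ _ _).symm.trans ?_
  refine (congrArg (· ≫ (Push.iso f).hom.app L)
    ((R.map_comp _ _).symm.trans ((congrArg R.map h1).trans (R.map_comp _ _)))).trans ?_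
  refine (Category.assoc _ _ _).trans ((congrArg (_ ≫ ·) h2).trans ?_)
  exact (Category.assoc _ _ _).symm

end Groth.Agent.H22.Gam.ComplIso
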