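import Groth.Agent.H22.Gam.PullTors
import Groth.Agent.Lib.QCoh.Closure
import Groth.Agent.Lib.QCoh.Pushforward
import Mathlib.CategoryTheory.Abelian.GrothendieckAxioms.Colim

/-!
# Direct images of quasi-coherent torsion modules along a completion (helper22)
-/

set_option autoImplicit false
set_option maxHeartbeats 1000000
set_option linter.style.haveILetI false
set_option linter.unusedSectionVars false

universe u

open CategoryTheory CategoryTheory.Limits AlgebraicGeometry TopologicalSpace Opposite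
open Groth.Agent.H30 Groth.Agent.Lib
open Groth.Agent.Lib.ModSiteLoc.Basic

namespace Groth.Agent.H22.Gam.QctPush

variable {X : Scheme.{u}} [IsLocallyNoetherian X] {𝔛 : FSch.Sys.{u}} (h𝔛 : 𝔛.IsLocNoethFormal)
  (p : ∀ n, 𝔛.X n ⟶ X) (hp : ∀ n, 𝔛.ι n ≫ p (n + 1) = p n) [∀ k, IsClosedImmersion (p k)]

theorem isIso_schPushCompare_app (k : ℕ) (G : (𝔛.X k).Modules) :
    IsIso ((FSch.schPushCompare 𝔛 h𝔛.1 p hp k).app G) := by
  haveI : Mono ((FSch.schPushCompare 𝔛 h𝔛.1 p hp k).app G) :=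
    ModSiteLoc.Basic.mono_of_injective (O := X.sheaf) _ fun U s hs =>
      (PullTors.schPushCompare_app_bijective h𝔛 p hp k G U).1 (hs.trans (map_zero _).symm)
  haveI : Epi ((FSch.schPushCompare 𝔛 h𝔛.1 p hp k).app G) :=
    ModSiteLoc.Basic.epi_of_exists_lift (O := X.sheaf) _ fun U t =>
      ⟨⊤, (Opens.grothendieckTopology _).top_mem U,
        fun W g _ => (PullTors.schPushCompare_app_bijective h𝔛 p hp k G W).2 _⟩
  exact isIso_of_mono_of_epi _

/-- Direct images of quasi-coherent modules of a level are quasi-coherent. -/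
theorem isQCoh_push_level (k : ℕ) (G : (𝔛.X k).Modules) [G.IsQuasicoherent] :
    SheafOfModules.IsQuasicoherent.{u}
      ((Compl.κ h𝔛 p hp).push.obj ((FSch.levelMor 𝔛 h𝔛.1 k).push.obj G)) := by
  have hi := isIso_schPushCompare_app h𝔛 p hp k G
  haveI : ((Scheme.Modules.pushforward (p k)).obj G).IsQuasicoherent :=
    QCoh.Pushforward.isQCoh_pushforward (f := p k) (M := G)
  exact (SheafOfModules.isQuasicoherent (ModSite.ringSh X.sheaf)).prop_of_iso
    (@asIso _ _ _ _ ((FSch.schPushCompare 𝔛 h𝔛.1 p hp k).app G) hi) ‹_›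

variable (M : FSch.ModF 𝔛 h𝔛.1)

theorem isQCoh_push_mn [SheafOfModules.IsQuasicoherent.{u} M] (n : ℕ) :
    SheafOfModules.IsQuasicoherent.{u} ((Compl.κ h𝔛 p hp).push.obj (TorsLevel.Mn M n)) := by
  haveI : ((FSch.levelMor 𝔛 h𝔛.1 n).pull.obj (TorsLevel.Mn M n)).IsQuasicoherent :=
    ModSiteLoc.PullFree.isQuasicoherent_pull (FSch.levelMor 𝔛 h𝔛.1 n)
      (TorsLevel.isQuasicoherent_mn h𝔛 M n)
  haveI := TorsLevel.isIso_unit h𝔛 M n
  exact (SheafOfModules.isQuasicoherent (ModSite.ringSh X.sheaf)).prop_of_iso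
    ((Compl.κ h𝔛 p hp).push.mapIso
      (asIso ((FSch.levelMor 𝔛 h𝔛.1 n).adj.unit.app (TorsLevel.Mn M n)))).symm
    (isQCoh_push_level h𝔛 p hp n ((FSch.levelMor 𝔛 h𝔛.1 n).pull.obj (TorsLevel.Mn M n)))

/-- The inclusions. -/
noncomputable def mnι (n : ℕ) : TorsLevel.Mn M n ⟶ M :=
  (FTors.gammaι (TorsLevel.constFam h𝔛.1 n)).app M

/-- The transition maps. -/
noncomputable def mnLE {n m : ℕ} (e : n ≤ m) : TorsLevel.Mn M n ⟶ TorsLevel.Mn M m :=
  TorsLevel.gammaLE _ _ M fun _ s hs =>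
    (TorsLevel.isTorsSect_const_iff M m s).2 (((TorsLevel.isTorsSect_const_iff M n s).1 hs).mono e)

theorem mnLE_ι {n m : ℕ} (e : n ≤ m) : mnLE h𝔛 M e ≫ mnι h𝔛 M m = mnι h𝔛 M n := rfl

theorem mono_mnι (n : ℕ) : Mono (mnι h𝔛 M n) :=
  TorsLevel.mono_gammaι (TorsLevel.constFam h𝔛.1 n) M

/-- The system of the killed parts. -/
noncomputable def sys : ULift.{u} ℕ ⥤ FSch.ModF 𝔛 h𝔛.1 where
  obj n := TorsLevel.Mn M n.down
  map f := mnLE h𝔛 M (ULift.down_le.2 (leOfHom f))
  map_id n := by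
    haveI := mono_mnι h𝔛 M n.down
    rw [← cancel_mono (mnι h𝔛 M n.down), Category.id_comp, mnLE_ι]
  map_comp {a b c} f g := by
    haveI := mono_mnι h𝔛 M c.down
    rw [← cancel_mono (mnι h𝔛 M c.down), Category.assoc, mnLE_ι, mnLE_ι, mnLE_ι]

theorem isQCoh_push (hM : FTors.IsQCT 𝔛 h𝔛.1 M) :
    SheafOfModules.IsQuasicoherent.{u} ((Compl.κ h𝔛 p hp).push.obj M) := by
  haveI : SheafOfModules.IsQuasicoherent.{u} M := hM.2
  let f := Compl.κ h𝔛 p hp
  haveI := Push.preservesFiniteLimits_push f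
  let F : ULift.{u} ℕ ⥤ X.Modules := sys h𝔛 M ⋙ f.push
  let α : F ⟶ (Functor.const _).obj (f.push.obj M : X.Modules) :=
    { app := fun n => f.push.map (mnι h𝔛 M n.down)
      naturality := fun a b g => (f.push.map_comp _ _).symm.trans
        ((congrArg f.push.map (mnLE_ι h𝔛 M (ULift.down_le.2 (leOfHom g)))).trans (Category.comp_id _).symm) }
  let c : Cocone F := ⟨f.push.obj M, α⟩
  let d : colimit F ⟶ (f.push.obj M : X.Modules) := colimit.desc F c
  haveI : ∀ n, Mono (α.app n) := fun n =>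
    haveI := mono_mnι h𝔛 M n.down
    inferInstanceAs (Mono (f.push.map (mnι h𝔛 M n.down)))
  haveI : Mono α := NatTrans.mono_of_mono_app α
  haveI := DerivedOX.Grothendieck.isGrothendieckAbelian_sheafOfModules (ModSite.ringSh X.sheaf)
  haveI : IsGrothendieckAbelian.{u} X.Modules :=
    inferInstanceAs (IsGrothendieckAbelian.{u} (SheafOfModules.{u} (ModSite.ringSh X.sheaf)))
  haveI : Mono d := colim.map_mono' α (colimit.isColimit F) (isColimitConstCocone _ _) d
    fun n => (colimit.ι_desc c n).trans (Category.comp_id _).symm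
  haveI : Epi d := by
    refine ModSiteLoc.Basic.epi_of_exists_lift (O := X.sheaf)
      (M := (colimit F : X.Modules)) (N := (f.push.obj M : X.Modules)) d fun U t => ?_
    refine ⟨⟨fun W g => ∃ x, ap d x = rs (f.push.obj M) g t, ?_⟩, fun y hy => ?_, fun W g hg => hg⟩
    · rintro W W' g ⟨x, hx⟩ h
      exact ⟨rs _ h x, (ap_rs d h x).trans ((congrArg (rs (f.push.obj M) h) hx).trans (rs_rs g h t))⟩
    · by_cases hmem : y ∈ Set.range (p 0).base
      · obtain ⟨z, rfl⟩ := hmem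
        obtain ⟨V, e, n, hzV, hn⟩ :=
          TorsCoh.exists_killed_of_isTorsSect (M := M) t (hM.1 _ t) z hy
        obtain ⟨W, -, hWU, hzW, hWV⟩ := ComplPull.exists_affine_pre p hzV (U := U) hy
        let s : ModSite.sect (f.push.obj (TorsLevel.Mn M n)) W :=
          ⟨rs M (homOfLE ((p 0).preimage_mono hWU)) t, (TorsLevel.isTorsSect_const_iff M n _).2
            fun U' eU a ha => by
              refine Eq.trans (congrArg (a • ·) ?_) (hn U' (eU.trans hWV) a ha)
              exact (rs_rs (homOfLE ((p 0).preimage_mono hWU)) (homOfLE eU) t).trans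
                (rs_rs (homOfLE e) (homOfLE (eU.trans hWV)) t).symm⟩
        refine ⟨W, homOfLE hWU, ⟨ap (colimit.ι F ⟨n⟩) (U := W) s, ?_⟩, hzW⟩
        exact congrArg (fun φ => φ.val.app (op W) s) (colimit.ι_desc c ⟨n⟩)
      · let O' : X.Opens :=
          U ⊓ ⟨(Set.range (p 0).base)ᶜ, (p 0).isClosedEmbedding.isClosed_range.isOpen_compl⟩
        refine ⟨O', homOfLE inf_le_left, ⟨0, (map_zero _).trans (Eq.symm ?_)⟩, ⟨hy, hmem⟩⟩
        exact TorsCoh.eq_zero_of_locally (h := h𝔛.1) M _ fun w hw => absurd ⟨w, rfl⟩ hw.2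
  have hd : IsIso d := isIso_of_mono_of_epi d
  exact (SheafOfModules.isQuasicoherent (ModSite.ringSh X.sheaf)).prop_of_iso (@asIso _ _ _ _ d hd)
    (QCoh.Closure.isQCoh_colimit F fun n => isQCoh_push_mn h𝔛 p hp M n.down)

variable (𝓘 : X.IdealSheafData)

/-- Coherent torsion modules have coherent direct images. -/
theorem isCoh_push (hM : FTors.IsQCT 𝔛 h𝔛.1 M) (hc : FSch.IsCohF 𝔛 h𝔛.1 M) :
    Coh.IsCoh (X := X) ((Compl.κ h𝔛 p hp).push.obj M) := by
  haveI : ((Compl.κ h𝔛 p hp).push.obj M : X.Modules).IsQuasicoherent := isQCoh_push h𝔛 p hp M hM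
  refine CohBasics.Closure.isCoh_of_finite_sections fun U hU => ?_
  have hV := ComplSec.isAffineOpen_pre p hU
  obtain ⟨l, g, hg⟩ := CohCons.exists_fin_gens h𝔛 hV hc
  choose k hk using fun i => TorsCoh.exists_killed hV.isCompact (M := M) (g i) (hM.1 _ (g i))
  let n := Finset.univ.sup k
  refine ⟨Submodule.fg_iff_exists_fin_generating_family.2 ⟨l, g, eq_top_iff.2 fun s _ => ?_⟩⟩
  obtain ⟨a, ha⟩ := hg s
  choose τ hτ using fun i => ComplPull.surjective_appLE h𝔛 p hp hU n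
    (Levels.proj 𝔛 h𝔛.1 n (ComplSec.pre p U) (a i))
  refine (Submodule.mem_span_range_iff_exists_fun _).2 ⟨τ, ?_⟩
  refine Eq.trans (Finset.sum_congr rfl fun i _ => ?_) ha.symm
  show ComplPull.shA h𝔛 p hp U (τ i) • g i = a i • g i
  refine sub_eq_zero.1 ((sub_smul _ _ _).symm.trans ?_)
  have h1 := ((hk i).mono (Finset.le_sup (Finset.mem_univ i))) _ le_rfl
    (ComplPull.shA h𝔛 p hp U (τ i) - a i)
    (by rw [map_sub, ComplPull.proj_shA, hτ, sub_self])
  refine Eq.trans (congrArg (_ • ·) ?_) h1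
  exact ((congrArg (fun q => M.val.map q (g i))
    (Subsingleton.elim (homOfLE (le_refl (ComplSec.pre p U))).op (𝟙 _))).trans
    (congrArg (fun φ => φ.hom (g i)) (M.val.map_id (op (ComplSec.pre p U))))).symm

end Groth.Agent.H22.Gam.QctPush
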