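import Groth.Agent.H22.Gam.ExactAdj
import Groth.Agent.H22.Gam.QctPush

/-!
# The completion on derived categories (helper22)
-/

set_option autoImplicit false
set_option maxHeartbeats 1000000
set_option linter.style.haveILetI false
set_option linter.unusedSectionVars false

universe u

open CategoryTheory CategoryTheory.Limits AlgebraicGeometry TopologicalSpace Opposite
open Groth.Agent.H30 Groth.Agent.Lib

attribute [local instance] HasDerivedCategory.standard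

namespace Groth.Agent.H22.Gam.DCompl

theorem isTors_of_iso {C : Type u} [SmallCategory C] {J : GrothendieckTopology C}
    {O : Sheaf J CommRingCat.{u}} (I : FTors.IdealFam O) {M N : ModSite.Mod O} (e : M ≅ N)
    (h : FTors.IsTors I M) : FTors.IsTors I N := fun U s => by
  have e1 : ModSiteLoc.Basic.ap e.hom (ModSiteLoc.Basic.ap e.inv s) = s :=
    congrArg (fun φ => φ.val.app (op U) s) e.inv_hom_id
  refine J.superset_covering ?_ (h U (ModSiteLoc.Basic.ap e.inv s))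
  rintro V g ⟨n, hn⟩
  refine ⟨n, fun W g' a ha => ?_⟩
  have h1 := congrArg (ModSiteLoc.Basic.ap e.hom (U := W)) (hn g' a ha)
  rw [map_zero, map_smul] at h1
  refine Eq.trans (congrArg (a • ·) ?_) h1
  refine Eq.trans ?_ (ModSiteLoc.Basic.ap_rs e.hom g' _).symm
  refine congrArg (FTors.res N g') ?_
  exact (congrArg (ModSiteLoc.Basic.rs N g) e1.symm).trans (ModSiteLoc.Basic.ap_rs e.hom g _).symm

variable {X : Scheme.{u}} [IsLocallyNoetherian X] {𝔛 : FSch.Sys.{u}} (h𝔛 : 𝔛.IsLocNoethFormal)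
  (p : ∀ n, 𝔛.X n ⟶ X) (hp : ∀ n, 𝔛.ι n ≫ p (n + 1) = p n) [∀ k, IsClosedImmersion (p k)]
  (𝓘 : X.IdealSheafData)
  (hker : ∀ k (U : X.affineOpens), (p k).ker.ideal U = 𝓘.ideal U ^ (k + 1))
  [PreservesFiniteLimits (Compl.κ h𝔛 p hp).pull]

theorem nonempty_hMod_pullD (F : DerivedCategory (ModSite.Mod X.sheaf)) (i : ℤ) :
    Nonempty (SiteCmp.HMod ((SiteCmp.pullD (Compl.κ h𝔛 p hp)).obj F) i ≅
      (Compl.κ h𝔛 p hp).pull.obj (SiteCmp.HMod F i)) :=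
  ExactAdj.nonempty_homologyIso (Compl.κ h𝔛 p hp).pull (SiteCmp.pullD (Compl.κ h𝔛 p hp))
    (Compl.κ h𝔛 p hp).pull.mapDerivedCategoryFactors F i

variable [SiteCmp.HasRpushD (Compl.κ h𝔛 p hp)]

theorem nonempty_hMod_RpushD (G : DerivedCategory (FSch.ModF 𝔛 h𝔛.1)) (i : ℤ) :
    Nonempty (SiteCmp.HMod ((SiteCmp.RpushD (Compl.κ h𝔛 p hp)).obj G) i ≅
      (Compl.κ h𝔛 p hp).push.obj (SiteCmp.HMod G i)) := by
  haveI := Compl.preservesFiniteColimits_push h𝔛 p hp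
  haveI := Push.preservesFiniteLimits_push (Compl.κ h𝔛 p hp)
  exact ExactAdj.nonempty_homologyIso (Compl.κ h𝔛 p hp).push (SiteCmp.RpushD (Compl.κ h𝔛 p hp))
    (Push.iso (Compl.κ h𝔛 p hp)) G i

include hker in
theorem main :
    (∀ F : DerivedCategory (ModSite.Mod X.sheaf), FTors.IsDTorsZp X 𝓘 F →
      FTors.IsDTorsF 𝔛 h𝔛.1 ((SiteCmp.pullD (Compl.κ h𝔛 p hp)).obj F)) ∧
    (∀ G : DerivedCategory (FSch.ModF 𝔛 h𝔛.1), FTors.IsDTorsF 𝔛 h𝔛.1 G →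
      FTors.IsDTorsZp X 𝓘 ((SiteCmp.RpushD (Compl.κ h𝔛 p hp)).obj G)) ∧
    (∀ F : DerivedCategory (ModSite.Mod X.sheaf), FTors.IsDTorsZp X 𝓘 F →
      (∀ i : ℤ, SheafOfModules.IsQuasicoherent.{u} (SiteCmp.HMod F i)) →
      FTors.IsDQCT 𝔛 h𝔛.1 ((SiteCmp.pullD (Compl.κ h𝔛 p hp)).obj F)) ∧
    (∀ G : DerivedCategory (FSch.ModF 𝔛 h𝔛.1), FTors.IsDQCT 𝔛 h𝔛.1 G →
      FTors.IsDTorsZp X 𝓘 ((SiteCmp.RpushD (Compl.κ h𝔛 p hp)).obj G) ∧
        ∀ i : ℤ, SheafOfModules.IsQuasicoherent.{u}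
          (SiteCmp.HMod ((SiteCmp.RpushD (Compl.κ h𝔛 p hp)).obj G) i)) ∧
    (∀ G : DerivedCategory (FSch.ModF 𝔛 h𝔛.1), FTors.IsDQCT 𝔛 h𝔛.1 G →
      (∀ i : ℤ, FSch.IsCohF 𝔛 h𝔛.1 (SiteCmp.HMod G i)) →
      ∀ i : ℤ, Coh.IsCoh (X := X) (SiteCmp.HMod ((SiteCmp.RpushD (Compl.κ h𝔛 p hp)).obj G) i)) := by
  refine ⟨fun F hF i => ?_, fun G hG i => ?_, fun F hF hq i => ?_, fun G hG => ⟨fun i => ?_, fun i => ?_⟩,
    fun G hG hc i => ?_⟩
  · obtain ⟨e⟩ := nonempty_hMod_pullD h𝔛 p hp F i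
    exact isTors_of_iso _ e.symm (PullTors.isTorsF_pull 𝓘 h𝔛 p hp hker (hF i))
  · obtain ⟨e⟩ := nonempty_hMod_RpushD h𝔛 p hp G i
    exact isTors_of_iso _ e.symm (PullTors.isTorsZp_push 𝓘 h𝔛 p hp hker (hG i))
  · obtain ⟨e⟩ := nonempty_hMod_pullD h𝔛 p hp F i
    exact ⟨isTors_of_iso _ e.symm (PullTors.isTorsF_pull 𝓘 h𝔛 p hp hker (hF i)),
      (SheafOfModules.isQuasicoherent (ModSite.ringSh (𝔛.Osh h𝔛.1))).prop_of_iso e.symm
        (ModSiteLoc.PullFree.isQuasicoherent_pull (Compl.κ h𝔛 p hp) (hq i))⟩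
  · obtain ⟨e⟩ := nonempty_hMod_RpushD h𝔛 p hp G i
    exact isTors_of_iso _ e.symm (PullTors.isTorsZp_push 𝓘 h𝔛 p hp hker (hG i).1)
  · obtain ⟨e⟩ := nonempty_hMod_RpushD h𝔛 p hp G i
    exact (SheafOfModules.isQuasicoherent (ModSite.ringSh X.sheaf)).prop_of_iso e.symm
      (QctPush.isQCoh_push h𝔛 p hp _ (hG i))
  · obtain ⟨e⟩ := nonempty_hMod_RpushD h𝔛 p hp G i
    have h := QctPush.isCoh_push h𝔛 p hp _ (hG i) (hc i)
    exact CohBasics.Closure.isCoh_of_iso (X := X) e.symm h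

include hker in
theorem bijective_RpushD (G H : DerivedCategory (FSch.ModF 𝔛 h𝔛.1))
    (hG : FTors.IsDTorsF 𝔛 h𝔛.1 G) :
    Function.Bijective (fun φ : G ⟶ H => (SiteCmp.RpushD (Compl.κ h𝔛 p hp)).map φ) := by
  haveI := Compl.preservesFiniteColimits_push h𝔛 p hp
  haveI := Push.preservesFiniteLimits_push (Compl.κ h𝔛 p hp)
  exact ExactAdj.bijective_map_right (Compl.κ h𝔛 p hp).adj (SiteCmp.RpushD (Compl.κ h𝔛 p hp))
    (Push.iso (Compl.κ h𝔛 p hp)) G H fun i => PullTors.isIso_counit 𝓘 h𝔛 p hp hker (hG i)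

end Groth.Agent.H22.Gam.DCompl
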