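import Groth.Agent.H22.Gam.Good
import Groth.Agent.Lib.DerCat.KInjExists
import Groth.Agent.Lib.DerivedOX.RightDerived
import Groth.Agent.Lib.DerivedOX.Grothendieck
import Groth.Prelude.Def_SiteCmp
import Groth.Prelude.Def_FTors2

/-!
# `RΓ'` of a formal scheme: torsion cohomology, idempotence (helper22)
-/

set_option autoImplicit false
set_option maxHeartbeats 1000000
set_option linter.style.haveILetI false

universe u

open CategoryTheory CategoryTheory.Limits AlgebraicGeometry TopologicalSpace Opposite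
open Groth.Agent.H30 Groth.Agent.Lib

attribute [local instance] HasDerivedCategory.standard

namespace Groth.Agent.H22.Gam

section Generic

variable {C : Type u} [SmallCategory C] {J : GrothendieckTopology C} {O : Sheaf J CommRingCat.{u}}
  (I : FTors.IdealFam O)

/-- The quotient functor. -/
noncomputable abbrev quot := HomotopyCategory.quotient (ModSite.Mod O) (ComplexShape.up ℤ)

/-- `Γ_I` on complexes. -/
noncomputable abbrev gamC : CochainComplex (ModSite.Mod O) ℤ ⥤ CochainComplex (ModSite.Mod O) ℤ :=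
  (FTors.gamma O I).mapHomologicalComplex (.up ℤ)

/-- The inclusion. -/
noncomputable def gamι (K : CochainComplex (ModSite.Mod O) ℤ) : (gamC I).obj K ⟶ K where
  f i := (FTors.gammaι I).app (K.X i)
  comm' i j _ := ((FTors.gammaι I).naturality (K.d i j)).symm

/-- `Γ_I` followed by localization. -/
noncomputable def khIso : quot ⋙ FTors.gammaKh I ≅ gamC I ⋙ DerivedCategory.Q :=
  (Functor.associator _ _ _).symm ≪≫
    Functor.isoWhiskerRight ((FTors.gamma O I).mapHomotopyCategoryFactors (ComplexShape.up ℤ))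
      DerivedCategory.Qh ≪≫
    Functor.associator _ _ _ ≪≫
    Functor.isoWhiskerLeft _ (DerivedCategory.quotientCompQhIso _)

lemma gammaτ_app (K : CochainComplex (ModSite.Mod O) ℤ) :
    (FTors.gammaτ I).app (quot.obj K) =
      (khIso I).hom.app K ≫ DerivedCategory.Q.map (gamι I K) ≫
        (DerivedCategory.quotientCompQhIso _).inv.app K := by
  have hnat : DerivedCategory.Q.map (gamι I K) ≫
      (DerivedCategory.quotientCompQhIso _).inv.app K =
      (DerivedCategory.quotientCompQhIso _).inv.app _ ≫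
        DerivedCategory.Qh.map (quot.map (gamι I K)) :=
    (DerivedCategory.quotientCompQhIso (ModSite.Mod O)).inv.naturality (gamι I K)
  rw [hnat]
  show (FTors.gammaτ0 I).app K = _
  have hι : (NatTrans.mapHomologicalComplex (FTors.gammaι I) (ComplexShape.up ℤ)).app K ≫
      (Functor.mapHomologicalComplexIdIso (ModSite.Mod O) (ComplexShape.up ℤ)).hom.app K =
      gamι I K :=
    HomologicalComplex.hom_ext _ _ fun i => Category.comp_id _
  rw [← hι]
  simp [FTors.gammaτ0, khIso]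

variable [FTors.HasRgamma I]

/-- The unit of `RΓ_I`. -/
noncomputable abbrev unit : FTors.gammaKh I ⟶ DerivedCategory.Qh ⋙ FTors.Rgamma I :=
  (FTors.gammaKh I).totalRightDerivedUnit DerivedCategory.Qh
    (HomotopyCategory.quasiIso (ModSite.Mod O) (ComplexShape.up ℤ))

lemma Rgammaε_fac (X : HomotopyCategory (ModSite.Mod O) (ComplexShape.up ℤ)) :
    (unit I).app X ≫ (FTors.Rgammaε I).app (DerivedCategory.Qh.obj X) = (FTors.gammaτ I).app X := by
  refine (Functor.rightDerived_fac_app (FTors.Rgamma I) (unit I) _ (𝟭 _) _ X).trans ?_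
  simp

/-- `RΓ_I` of a complex where the unit is an isomorphism. -/
noncomputable def objIso (K : CochainComplex (ModSite.Mod O) ℤ)
    [IsIso ((unit I).app (quot.obj K))] :
    (FTors.Rgamma I).obj (DerivedCategory.Q.obj K) ≅ DerivedCategory.Q.obj ((gamC I).obj K) :=
  (FTors.Rgamma I).mapIso ((DerivedCategory.quotientCompQhIso _).app K).symm ≪≫
    (asIso ((unit I).app (quot.obj K))).symm ≪≫ (khIso I).app K

lemma ε_app_eq (K : CochainComplex (ModSite.Mod O) ℤ) [IsIso ((unit I).app (quot.obj K))] :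
    (FTors.Rgammaε I).app (DerivedCategory.Q.obj K) =
      (objIso I K).hom ≫ DerivedCategory.Q.map (gamι I K) := by
  have h1 := (FTors.Rgammaε I).naturality ((DerivedCategory.quotientCompQhIso _).inv.app K)
  have h2 : (FTors.Rgammaε I).app (DerivedCategory.Qh.obj (quot.obj K)) =
      inv ((unit I).app (quot.obj K)) ≫ (FTors.gammaτ I).app (quot.obj K) :=
    (IsIso.eq_inv_comp _).2 (Rgammaε_fac I _)
  simp only [Functor.id_map] at h1
  refine (cancel_mono ((DerivedCategory.quotientCompQhIso _).inv.app K)).1 ?_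
  refine h1.symm.trans ?_
  refine (congrArg ((FTors.Rgamma I).map ((DerivedCategory.quotientCompQhIso _).inv.app K) ≫ ·)
    (h2.trans (congrArg (inv ((unit I).app (quot.obj K)) ≫ ·) (gammaτ_app I K)))).trans ?_
  simp [objIso]

theorem isIso_ε_iff (K : CochainComplex (ModSite.Mod O) ℤ) [IsIso ((unit I).app (quot.obj K))] :
    IsIso ((FTors.Rgammaε I).app (DerivedCategory.Q.obj K)) ↔ QuasiIso (gamι I K) := by
  rw [ε_app_eq, isIso_comp_left_iff, DerivedCategory.isIso_Q_map_iff_quasiIso]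

end Generic

section Formal

variable {𝔛 : FSch.Sys.{u}} (h𝔛 : 𝔛.IsLocNoethFormal)

theorem exists_res (K : CochainComplex (FSch.ModF 𝔛 h𝔛.1) ℤ) :
    ∃ (L : CochainComplex (FSch.ModF 𝔛 h𝔛.1) ℤ) (r : K ⟶ L),
      L.IsKInjective ∧ QuasiIso r ∧ ∀ n, Good.StInj h𝔛 (L.X n) := by
  haveI := DerivedOX.Grothendieck.isGrothendieckAbelian_sheafOfModules
    (ModSite.ringSh (𝔛.Osh h𝔛.1))
  obtain ⟨L, r, h1, h2, -, h3⟩ := DerCat.KInjExists.exists_kInjective_resolution K
  exact ⟨L, r, h1, h2, fun n => haveI := h3 n; Good.stInj_of_injective h𝔛 _⟩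

theorem exists_rep (E : DerivedCategory (FSch.ModF 𝔛 h𝔛.1)) :
    ∃ L : CochainComplex (FSch.ModF 𝔛 h𝔛.1) ℤ, (∀ n, Good.StInj h𝔛 (L.X n)) ∧
      Nonempty (E ≅ DerivedCategory.Q.obj L) := by
  obtain ⟨L, r, h1, h2, h3⟩ := exists_res h𝔛 (DerivedCategory.Q.objPreimage E)
  haveI := h2
  exact ⟨L, h3, ⟨(DerivedCategory.Q.objObjPreimageIso E).symm ≪≫
    asIso (DerivedCategory.Q.map r)⟩⟩

variable [FTors.HasRgammaT 𝔛 h𝔛.1]

/-- The unit is invertible on complexes with stalkwise injective terms. -/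
theorem isIso_unit (K : CochainComplex (FSch.ModF 𝔛 h𝔛.1) ℤ) (hK : ∀ n, Good.StInj h𝔛 (K.X n)) :
    IsIso ((unit (FTors.openIdealFam 𝔛 h𝔛.1)).app (quot.obj K)) := by
  let I := FTors.openIdealFam 𝔛 h𝔛.1
  haveI := DerivedOX.Grothendieck.isGrothendieckAbelian_sheafOfModules
    (ModSite.ringSh (𝔛.Osh h𝔛.1))
  haveI := DerivedOX.RightDerived.isLeftAdjoint_Qh
    (DerCat.KInjExists.hasKInjRes (A := FSch.ModF 𝔛 h𝔛.1))
  obtain ⟨L, r, hL, hr, hinj⟩ := exists_res h𝔛 K
  haveI := hL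
  haveI := Good.quasiIso_Γc_map h𝔛 r hK hinj
  haveI : IsIso ((FTors.gammaKh I).map (quot.map r)) :=
    (NatIso.isIso_map_iff (khIso I) r).2
      (inferInstanceAs (IsIso (DerivedCategory.Q.map ((Good.Γc h𝔛).map r))))
  haveI : IsIso (DerivedCategory.Qh.map (quot.map r)) :=
    (NatIso.isIso_map_iff (DerivedCategory.quotientCompQhIso _) r).2
      (inferInstanceAs (IsIso (DerivedCategory.Q.map r)))
  haveI : IsIso ((FTors.Rgamma I).map (DerivedCategory.Qh.map (quot.map r))) := inferInstance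
  haveI : IsIso ((unit I).app (quot.obj L)) :=
    DerivedOX.RightDerived.isIso_totalRightDerivedUnit_app_of_isKInjective (FTors.gammaKh I) L
  haveI : IsIso ((unit I).app (quot.obj K) ≫
      (FTors.Rgamma I).map (DerivedCategory.Qh.map (quot.map r))) := by
    rw [show (unit I).app (quot.obj K) ≫ (FTors.Rgamma I).map
      (DerivedCategory.Qh.map (quot.map r)) = (FTors.gammaKh I).map (quot.map r) ≫
        (unit I).app (quot.obj L) from ((unit I).naturality (quot.map r)).symm]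
    infer_instance
  exact IsIso.of_isIso_comp_right _ ((FTors.Rgamma I).map (DerivedCategory.Qh.map (quot.map r)))

theorem isTors_homology_Γc (K : CochainComplex (FSch.ModF 𝔛 h𝔛.1) ℤ) (i : ℤ) :
    FTors.IsTorsF 𝔛 h𝔛.1 (((Good.Γc h𝔛).obj K).homology i) :=
  TorsClosure.isTors_of_epi (((Good.Γc h𝔛).obj K).homologyπ i)
    (TorsClosure.isTors_of_mono (((Good.Γc h𝔛).obj K).iCycles i) (TorsClosure.isTors_gammaT _))

theorem isTorsF_of_iso {M N : FSch.ModF 𝔛 h𝔛.1} (e : M ≅ N) (hM : FTors.IsTorsF 𝔛 h𝔛.1 M) :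
    FTors.IsTorsF 𝔛 h𝔛.1 N :=
  TorsClosure.isTors_of_epi e.hom hM

theorem isDTorsF_of_iso {E F : DerivedCategory (FSch.ModF 𝔛 h𝔛.1)} (e : E ≅ F)
    (hE : FTors.IsDTorsF 𝔛 h𝔛.1 E) : FTors.IsDTorsF 𝔛 h𝔛.1 F :=
  fun i => isTorsF_of_iso h𝔛 ((DerivedCategory.homologyFunctor _ i).mapIso e) (hE i)

theorem isTors_homology_of_isDTorsF {K : CochainComplex (FSch.ModF 𝔛 h𝔛.1) ℤ}
    (h : FTors.IsDTorsF 𝔛 h𝔛.1 (DerivedCategory.Q.obj K)) (i : ℤ) :
    FTors.IsTorsF 𝔛 h𝔛.1 (K.homology i) :=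
  isTorsF_of_iso h𝔛 ((DerivedCategory.homologyFunctorFactors _ i).app K) (h i)

/-- `RΓ'` has torsion cohomology. -/
theorem isDTorsF_RgammaT (E : DerivedCategory (FSch.ModF 𝔛 h𝔛.1)) :
    FTors.IsDTorsF 𝔛 h𝔛.1 ((FTors.RgammaT 𝔛 h𝔛.1).obj E) := by
  obtain ⟨L, hL, ⟨e⟩⟩ := exists_rep h𝔛 E
  haveI := isIso_unit h𝔛 L hL
  refine isDTorsF_of_iso h𝔛 ((FTors.RgammaT 𝔛 h𝔛.1).mapIso e ≪≫
    objIso (FTors.openIdealFam 𝔛 h𝔛.1) L).symm fun i => ?_
  exact isTorsF_of_iso h𝔛 ((DerivedCategory.homologyFunctorFactors _ i).app _).symm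
    (isTors_homology_Γc h𝔛 L i)

/-- Torsion cohomology characterises the fixed objects of `RΓ'`. -/
theorem isDTorsF_iff (E : DerivedCategory (FSch.ModF 𝔛 h𝔛.1)) :
    FTors.IsDTorsF 𝔛 h𝔛.1 E ↔ IsIso ((FTors.RgammaTε 𝔛 h𝔛.1).app E) := by
  refine ⟨fun hE => ?_, fun _ => isDTorsF_of_iso h𝔛 (asIso ((FTors.RgammaTε 𝔛 h𝔛.1).app E))
    (isDTorsF_RgammaT h𝔛 E)⟩
  obtain ⟨L, hL, ⟨e⟩⟩ := exists_rep h𝔛 E
  haveI := isIso_unit h𝔛 L hL
  rw [NatTrans.isIso_app_iff_of_iso _ e]
  exact (isIso_ε_iff (FTors.openIdealFam 𝔛 h𝔛.1) L).2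
    (Good.quasiIso_γι h𝔛 L hL (isTors_homology_of_isDTorsF h𝔛 (isDTorsF_of_iso h𝔛 e hE)))

/-- `RΓ'` inverts `RΓ' E ⟶ E`. -/
theorem isIso_map_ε (E : DerivedCategory (FSch.ModF 𝔛 h𝔛.1)) :
    IsIso ((FTors.RgammaT 𝔛 h𝔛.1).map ((FTors.RgammaTε 𝔛 h𝔛.1).app E)) := by
  let I := FTors.openIdealFam 𝔛 h𝔛.1
  let R := FTors.RgammaT 𝔛 h𝔛.1
  obtain ⟨L, hL, ⟨e⟩⟩ := exists_rep h𝔛 E
  haveI := isIso_unit h𝔛 L hL
  haveI := isIso_unit h𝔛 ((Good.Γc h𝔛).obj L) fun n => Good.stInj_gammaT h𝔛 (hL n)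
  haveI : IsIso ((gamC I).map (gamι I L)) := by
    haveI : ∀ i, IsIso (((gamC I).map (gamι I L)).f i) := fun i => by
      haveI := TorsLevel.mono_gammaι I (L.X i)
      haveI := TorsClosure.isIso_gammaTι (TorsClosure.isTors_gammaT (L.X i))
      have h := (FTors.gammaι I).naturality ((FTors.gammaι I).app (L.X i))
      exact (show ((gamC I).map (gamι I L)).f i = (FTors.gammaι I).app ((FTors.gamma _ I).obj (L.X i))
        from (cancel_mono ((FTors.gammaι I).app (L.X i))).1 h) ▸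
        TorsClosure.isIso_gammaTι (TorsClosure.isTors_gammaT (L.X i))
    exact HomologicalComplex.Hom.isIso_of_components _
  haveI : IsIso ((FTors.gammaKh I).map (quot.map (gamι I L))) :=
    (NatIso.isIso_map_iff (khIso I) (gamι I L)).2
      (inferInstanceAs (IsIso (DerivedCategory.Q.map ((gamC I).map (gamι I L)))))
  haveI : IsIso (R.map (DerivedCategory.Qh.map (quot.map (gamι I L)))) := by
    have hn : (FTors.gammaKh I).map (quot.map (gamι I L)) ≫ (unit I).app (quot.obj L) =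
        (unit I).app (quot.obj ((gamC I).obj L)) ≫
          R.map (DerivedCategory.Qh.map (quot.map (gamι I L))) :=
      (unit I).naturality (quot.map (gamι I L))
    haveI : IsIso ((unit I).app (quot.obj ((gamC I).obj L)) ≫
        R.map (DerivedCategory.Qh.map (quot.map (gamι I L)))) := by
      rw [← hn]; infer_instance
    exact IsIso.of_isIso_comp_left ((unit I).app (quot.obj ((gamC I).obj L))) _
  haveI : IsIso (R.map (DerivedCategory.Q.map (gamι I L))) :=
    (NatIso.isIso_map_iff (Functor.isoWhiskerRight (DerivedCategory.quotientCompQhIso _) R)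
      (gamι I L)).1 ‹_›
  haveI : IsIso (R.map ((FTors.RgammaTε 𝔛 h𝔛.1).app (DerivedCategory.Q.obj L))) := by
    rw [show (FTors.RgammaTε 𝔛 h𝔛.1).app (DerivedCategory.Q.obj L) = _ from ε_app_eq I L,
      R.map_comp]
    infer_instance
  have hn := congrArg R.map ((FTors.RgammaTε 𝔛 h𝔛.1).naturality e.hom)
  rw [R.map_comp, R.map_comp] at hn
  haveI : IsIso (R.map ((FTors.RgammaTε 𝔛 h𝔛.1).app E) ≫ R.map e.hom) := hn ▸ inferInstance
  exact IsIso.of_isIso_comp_right _ (R.map e.hom)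

/-- Maps out of torsion objects factor uniquely through `RΓ'`. -/
theorem bijective_comp (E F : DerivedCategory (FSch.ModF 𝔛 h𝔛.1)) (hE : FTors.IsDTorsF 𝔛 h𝔛.1 E) :
    Function.Bijective (fun φ : E ⟶ (FTors.RgammaT 𝔛 h𝔛.1).obj F =>
      φ ≫ (FTors.RgammaTε 𝔛 h𝔛.1).app F) := by
  let R := FTors.RgammaT 𝔛 h𝔛.1
  let ε := FTors.RgammaTε 𝔛 h𝔛.1
  haveI := (isDTorsF_iff h𝔛 E).1 hE
  haveI := (isDTorsF_iff h𝔛 (R.obj F)).1 (isDTorsF_RgammaT h𝔛 F)
  haveI := isIso_map_ε h𝔛 F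
  refine ⟨fun φ φ' h => ?_, fun ψ => ⟨inv (ε.app E) ≫ R.map ψ, ?_⟩⟩
  · have h1 : R.map φ = R.map φ' := by
      rw [← cancel_mono (R.map (ε.app F)), ← R.map_comp, ← R.map_comp]
      exact congrArg R.map h
    rw [← cancel_epi (ε.app E)]
    exact (ε.naturality φ).symm.trans ((congrArg (· ≫ ε.app (R.obj F)) h1).trans (ε.naturality φ'))
  · show (inv (ε.app E) ≫ R.map ψ) ≫ ε.app F = ψ
    rw [Category.assoc, IsIso.inv_comp_eq]
    exact ε.naturality ψ

end Formal

end Groth.Agent.H22.Gam
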