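import Groth.Agent.H22.Gam.LocalVanish
import Groth.Agent.H30.FSch.CohSerre
import Mathlib.Algebra.Homology.HomotopyCategory.HomComplexShift
import Mathlib.Algebra.Homology.DerivedCategory.KInjective
import Mathlib.Algebra.Homology.HomologySequenceLemmas

/-!
# Greenlees-May duality for coherent cohomology (helper22)
-/

set_option autoImplicit false
set_option maxHeartbeats 1000000
set_option linter.style.haveILetI false

universe u

open CategoryTheory CategoryTheory.Limits AlgebraicGeometry TopologicalSpace Opposite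
open Groth.Agent.H30 Groth.Agent.H30.RealLimSec Groth.Agent.Lib Groth.Agent.H54.FSchQc
open CochainComplex.HomComplex

attribute [local instance] HasDerivedCategory.standard DerivedOX.Exists.isLeftAdjoint_Qh

namespace Groth.Agent.H22.Gam.Dual

theorem exists_lift {C : Type*} [Category C] [Abelian C] [HasDerivedCategory C]
    {A K : CochainComplex C ℤ} [K.IsKInjective]
    (t : DerivedCategory.Q.obj A ⟶ DerivedCategory.Q.obj K) :
    ∃ φ : A ⟶ K, DerivedCategory.Q.map φ = t := by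
  obtain ⟨g, hg⟩ := (CochainComplex.IsKInjective.Qh_map_bijective _ K).2
    ((DerivedCategory.quotientCompQhIso _).hom.app A ≫ t ≫ (DerivedCategory.quotientCompQhIso _).inv.app K)
  obtain ⟨π, rfl⟩ := (HomotopyCategory.quotient _ _).map_surjective g
  refine ⟨π, ?_⟩
  have h1 := (DerivedCategory.quotientCompQhIso C).hom.naturality π
  rw [Functor.comp_map, hg] at h1
  simp only [Category.assoc, Iso.inv_hom_id_app, Category.comp_id] at h1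
  exact ((cancel_epi _).1 h1).symm

theorem exists_homotopy {C : Type*} [Category C] [Abelian C] [HasDerivedCategory C]
    {A K : CochainComplex C ℤ} [K.IsKInjective] (φ : A ⟶ K) (h : DerivedCategory.Q.map φ = 0) :
    ∃ α : Cochain A K (-1), δ (-1) 0 α = Cochain.ofHom φ := by
  have h1 := (DerivedCategory.quotientCompQhIso C).hom.naturality φ
  rw [h, comp_zero, Functor.comp_map] at h1
  have h2 : DerivedCategory.Qh.map ((HomotopyCategory.quotient C (.up ℤ)).map φ) = 0 :=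
    (cancel_mono ((DerivedCategory.quotientCompQhIso C).hom.app K)).1 (h1.trans zero_comp.symm)
  have h3 : (HomotopyCategory.quotient C (.up ℤ)).map φ = (HomotopyCategory.quotient C (.up ℤ)).map 0 :=
    (CochainComplex.IsKInjective.Qh_map_bijective _ K).1 (by rw [h2, Functor.map_zero, Functor.map_zero])
  exact ⟨Cochain.ofHomotopy (HomotopyCategory.homotopyOfEq _ _ h3), by
    rw [δ_ofHomotopy, Cochain.ofHom_zero, sub_zero]⟩

theorem map_eq_zero_of_δ {C : Type*} [Category C] [Abelian C] [HasDerivedCategory C]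
    {A K : CochainComplex C ℤ} (φ : A ⟶ K) (α : Cochain A K (-1))
    (h : δ (-1) 0 α = Cochain.ofHom φ) : DerivedCategory.Q.map φ = 0 := by
  have ho : Homotopy φ 0 := (Cochain.equivHomotopy φ 0).symm
    ⟨α, by rw [h, Cochain.ofHom_zero, add_zero]⟩
  have h1 := (DerivedCategory.quotientCompQhIso C).hom.naturality φ
  rw [Functor.comp_map, HomotopyCategory.eq_of_homotopy _ _ ho, Functor.map_zero, Functor.map_zero,
    zero_comp] at h1
  exact (cancel_epi ((DerivedCategory.quotientCompQhIso C).hom.app A)).1 (h1.symm.trans comp_zero.symm)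

variable {𝔛 : FSch.Sys.{u}} (h𝔛 : 𝔛.IsLocNoethFormal)

/-- Restriction to smaller extensions by zero. -/
noncomputable abbrev leC {O' O : (𝔛.X 0).Opens} (e : O' ≤ O)
    (P : CochainComplex (FSch.ModF 𝔛 h𝔛.1) ℤ) :
    (ZeroExt.JC h𝔛 O').obj P ⟶ (ZeroExt.JC h𝔛 O).obj P :=
  (NatTrans.mapHomologicalComplex (ZeroExt.leN h𝔛 e) (.up ℤ)).app P

theorem leN_trans {O'' O' O : (𝔛.X 0).Opens} (e' : O'' ≤ O') (e : O' ≤ O)
    (M : FSch.ModF 𝔛 h𝔛.1) :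
    (ZeroExt.leN h𝔛 e').app M ≫ (ZeroExt.leN h𝔛 e).app M = (ZeroExt.leN h𝔛 (e'.trans e)).app M :=
  ZeroExt.hom_ext h𝔛 fun U eU s => by
    rw [IndColim.secMap_comp, ZeroExt.leN_mkS, ZeroExt.leN_mkS, ZeroExt.leN_mkS]

theorem leC_trans {O'' O' O : (𝔛.X 0).Opens} (e' : O'' ≤ O') (e : O' ≤ O)
    (P : CochainComplex (FSch.ModF 𝔛 h𝔛.1) ℤ) :
    leC h𝔛 e' P ≫ leC h𝔛 e P = leC h𝔛 (e'.trans e) P :=
  HomologicalComplex.hom_ext _ _ fun i => leN_trans h𝔛 e' e (P.X i)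

theorem leC_ι {O' O : (𝔛.X 0).Opens} (e : O' ≤ O) (P : CochainComplex (FSch.ModF 𝔛 h𝔛.1) ℤ) :
    leC h𝔛 e P ≫ ZeroExt.ιC h𝔛 O P = ZeroExt.ιC h𝔛 O' P :=
  HomologicalComplex.hom_ext _ _ fun i => ZeroExt.leN_ι h𝔛 e (P.X i)

theorem shortExact_JC (O : (𝔛.X 0).Opens) {S : ShortComplex (CochainComplex (FSch.ModF 𝔛 h𝔛.1) ℤ)}
    (hS : S.ShortExact) : (S.map (ZeroExt.JC h𝔛 O)).ShortExact :=
  HomologicalComplex.shortExact_of_degreewise_shortExact _ fun n =>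
    ZeroExt.shortExact_J h𝔛 O (hS.map_of_exact (HomologicalComplex.eval _ _ n))

/-! ## The quotient by the torsion subcomplex -/

section Quot

variable (L : CochainComplex (FSch.ModF 𝔛 h𝔛.1) ℤ)

instance mono_γι : Mono (Good.γι h𝔛 L) :=
  haveI : ∀ i, Mono ((Good.γι h𝔛 L).f i) := fun i =>
    TorsLevel.mono_gammaι (FTors.openIdealFam 𝔛 h𝔛.1) (L.X i)
  HomologicalComplex.mono_of_mono_f _ inferInstance

/-- The quotient by the torsion subcomplex. -/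
noncomputable abbrev Lq : CochainComplex (FSch.ModF 𝔛 h𝔛.1) ℤ := cokernel (Good.γι h𝔛 L)

/-- The sequence of the torsion subcomplex. -/
noncomputable abbrev sq : ShortComplex (CochainComplex (FSch.ModF 𝔛 h𝔛.1) ℤ) :=
  ShortComplex.mk (Good.γι h𝔛 L) (cokernel.π _) (cokernel.condition _)

theorem shortExact_sq : (sq h𝔛 L).ShortExact := QctGamma.shortExact_cokernel (Good.γι h𝔛 L)

variable (hL : ∀ n, Good.StInj h𝔛 (L.X n))

include hL in
theorem exists_splitting {V : (𝔛.X 0).Opens} (hV : IsAffineOpen V) {y : 𝔛.X 0} (hy : y ∈ V) (n : ℤ) :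
    Nonempty (((sq h𝔛 L).map (HomologicalComplex.eval _ _ n)).map (Good.S h𝔛 hy)).Splitting := by
  have hs := ((shortExact_sq h𝔛 L).map_of_exact (HomologicalComplex.eval _ _ n)).map_of_exact
    (Good.S h𝔛 hy)
  haveI : Injective (((sq h𝔛 L).map (HomologicalComplex.eval _ _ n)).map (Good.S h𝔛 hy)).X₁ :=
    @Module.injective_object_of_injective_module (Levels.A 𝔛 h𝔛.1 V)
      ((Good.S h𝔛 hy).obj ((FTors.gammaT 𝔛 h𝔛.1).obj (L.X n))) _ _ _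
      (Good.stInj_gammaT h𝔛 (hL n) V hV y hy)
  exact ⟨hs.splittingOfInjective⟩

include hL in
theorem stInj_Lq (n : ℤ) : Good.StInj h𝔛 ((Lq h𝔛 L).X n) := fun V hV y hy => by
  obtain ⟨sp⟩ := exists_splitting h𝔛 L hL hV hy n
  have h2 : Injective (((sq h𝔛 L).map (HomologicalComplex.eval _ _ n)).map (Good.S h𝔛 hy)).X₂ :=
    @Module.injective_object_of_injective_module (Levels.A 𝔛 h𝔛.1 V)
      ((Good.S h𝔛 hy).obj (L.X n)) _ _ _ (hL n V hV y hy)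
  have h3 : Injective ((Good.S h𝔛 hy).obj ((Lq h𝔛 L).X n)) :=
    @Retract.injective _ _ _ _ ⟨sp.s, _, sp.s_g⟩ h2
  exact @Module.injective_module_of_injective_object (Levels.A 𝔛 h𝔛.1 V)
    ((Good.S h𝔛 hy).obj ((Lq h𝔛 L).X n)) _ _ _ h3

include hL in
theorem eq_zero_of_mem {V : (𝔛.X 0).Opens} (hV : IsAffineOpen V) {y : 𝔛.X 0} (hy : y ∈ V) (n : ℤ)
    (q : ((Good.S h𝔛 hy).obj ((Lq h𝔛 L).X n) : Type u))
    (hq : q ∈ DRing.torsionSub (Levels.J (h := h𝔛.1) V) ((Good.S h𝔛 hy).obj ((Lq h𝔛 L).X n) : Type u)) :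
    q = 0 := by
  obtain ⟨sp⟩ := exists_splitting h𝔛 L hL hV hy n
  obtain ⟨k, hk⟩ := hq
  obtain ⟨z, hz⟩ := Good.exists_preimage h𝔛 hV hy (L.X n) (sp.s q) ⟨k, fun a ha =>
    (map_smul sp.s.hom a q).symm.trans ((congrArg _ (hk a ha)).trans (map_zero _))⟩
  refine (ConcreteCategory.congr_hom sp.s_g q).symm.trans ?_
  refine (congrArg ((((sq h𝔛 L).map (HomologicalComplex.eval _ _ n)).map (Good.S h𝔛 hy)).g) hz.symm).trans ?_
  exact ConcreteCategory.congr_hom (((sq h𝔛 L).map (HomologicalComplex.eval _ _ n)).map (Good.S h𝔛 hy)).zero z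

end Quot

/-! ## Vanishing on affine opens -/

section Local

variable {K : CochainComplex (FSch.ModF 𝔛 h𝔛.1) ℤ} [K.IsKInjective]
  (hK : ∀ j, FSch.IsCohF 𝔛 h𝔛.1 (K.homology j))
  (P : CochainComplex (FSch.ModF 𝔛 h𝔛.1) ℤ) (hP : ∀ n, Good.StInj h𝔛 (P.X n))
  {V : (𝔛.X 0).Opens} (hV : IsAffineOpen V) {O : (𝔛.X 0).Opens} (e : O ≤ V)

/-- Maps vanishing on a torsion subcomplex vanish. -/
def R (l : List (Levels.A 𝔛 h𝔛.1 V)) : Prop :=
  ∀ φ : DerivedCategory.Q.obj ((ZeroExt.JC h𝔛 O).obj P) ⟶ DerivedCategory.Q.obj K,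
    DerivedCategory.Q.map ((ZeroExt.JC h𝔛 O).map (gamι (QctGamma.fam h𝔛 l) P)) ≫ φ = 0 → φ = 0

include hK hP hV e in
theorem all_R : ∀ (l : List (Levels.A 𝔛 h𝔛.1 V)), (∀ f ∈ l, f ∈ Levels.J (h := h𝔛.1) V) →
    R h𝔛 (K := K) P (O := O) l
  | [], _, φ, h => by
    haveI : ∀ n, IsIso ((gamι (QctGamma.fam h𝔛 ([] : List (Levels.A 𝔛 h𝔛.1 V))) P).f n) :=
      fun n => QctGamma.isIso_γ_nil h𝔛 (P.X n)
    haveI : IsIso (gamι (QctGamma.fam h𝔛 ([] : List (Levels.A 𝔛 h𝔛.1 V))) P) :=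
      HomologicalComplex.Hom.isIso_of_components _
    exact (cancel_epi (DerivedCategory.Q.map
      ((ZeroExt.JC h𝔛 O).map (gamι (QctGamma.fam h𝔛 ([] : List (Levels.A 𝔛 h𝔛.1 V))) P)))).1
      (h.trans comp_zero.symm)
  | f :: l, hl, φ, h => by
    refine all_R l (fun g hg => hl g (List.mem_cons_of_mem _ hg)) φ ?_
    let S := (QctGamma.seq h𝔛 l P f).map (ZeroExt.JC h𝔛 O)
    have hS : S.ShortExact := shortExact_JC h𝔛 O (QctGamma.shortExact_seq h𝔛 l P f)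
    have hi : QctGamma.incl h𝔛 l P f ≫ gamι (QctGamma.fam h𝔛 l) P =
        gamι (QctGamma.fam h𝔛 (f :: l)) P :=
      HomologicalComplex.hom_ext _ _ fun n => QctGamma.incl_γ h𝔛 l P f n
    obtain ⟨ω, hω⟩ := Pretriangulated.Triangle.yoneda_exact₂ _
      (DerivedCategory.triangleOfSES_distinguished hS)
      (DerivedCategory.Q.map ((ZeroExt.JC h𝔛 O).map (gamι (QctGamma.fam h𝔛 l) P)) ≫ φ) (by
        refine ((Category.assoc _ _ _).symm.trans ?_).trans h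
        refine congrArg (· ≫ φ) ?_
        show DerivedCategory.Q.map ((ZeroExt.JC h𝔛 O).map (QctGamma.incl h𝔛 l P f)) ≫
          DerivedCategory.Q.map _ = _
        rw [← Functor.map_comp, ← Functor.map_comp, hi])
    obtain ⟨ω', hω'⟩ := exists_lift (A := (ZeroExt.JC h𝔛 O).obj (QctGamma.seq h𝔛 l P f).X₃)
      (K := K) ω
    have h0 := LocalVanish.map_eq_zero h𝔛 hV hK (hl f List.mem_cons_self) e
      (QctGamma.seq h𝔛 l P f).X₃
      (fun y hy _ n => QctGamma.bijective_quot h𝔛 hV hy hP n) ω'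
    exact hω.trans ((congrArg (_ ≫ ·) (hω'.symm.trans h0)).trans comp_zero)

end Local

section Global

variable {K : CochainComplex (FSch.ModF 𝔛 h𝔛.1) ℤ} [K.IsKInjective]
  (hK : ∀ j, FSch.IsCohF 𝔛 h𝔛.1 (K.homology j))
  (L : CochainComplex (FSch.ModF 𝔛 h𝔛.1) ℤ) (hL : ∀ n, Good.StInj h𝔛 (L.X n))

include hL hK in
theorem local_vanish {V : (𝔛.X 0).Opens} (hV : IsAffineOpen V) {O : (𝔛.X 0).Opens} (e : O ≤ V)
    (ψ : (ZeroExt.JC h𝔛 O).obj (Lq h𝔛 L) ⟶ K) :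
    ∃ α : Cochain ((ZeroExt.JC h𝔛 O).obj (Lq h𝔛 L)) K (-1), δ (-1) 0 α = Cochain.ofHom ψ := by
  refine exists_homotopy ψ ?_
  haveI := Levels.isNoetherianRing_A h𝔛 hV
  obtain ⟨l, hl⟩ := RGamma.exists_ide_eq (IsNoetherian.noetherian (Levels.J (h := h𝔛.1) V))
  refine all_R h𝔛 hK (Lq h𝔛 L) (stInj_Lq h𝔛 L hL) hV e l (fun f hf => hl ▸ RGamma.mem_ide hf)
    _ ?_
  have h0 : IsZero ((ZeroExt.JC h𝔛 O).obj ((QctGamma.G h𝔛 (QctGamma.fam h𝔛 l)).obj (Lq h𝔛 L))) := by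
    rw [IsZero.iff_id_eq_zero]
    refine HomologicalComplex.hom_ext _ _ fun n => ?_
    refine IsZero.eq_of_src (Stalk.isZero _ fun y => ?_) _ _
    by_cases hyO : y ∈ O
    · refine ⟨V, e hyO, ?_⟩
      let M := (FTors.gamma _ (QctGamma.fam h𝔛 l)).obj ((Lq h𝔛 L).X n)
      haveI : Subsingleton ((Good.S h𝔛 (e hyO)).obj M : Type u) :=
        subsingleton_of_forall_eq 0 fun z => QctGamma.injective_γ h𝔛 (e hyO) ((Lq h𝔛 L).X n) _
          ((eq_zero_of_mem h𝔛 L hL hV (e hyO) n _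
            (hl ▸ QctGamma.γ_mem h𝔛 l (e hyO) ((Lq h𝔛 L).X n) z)).trans (map_zero _).symm)
      haveI : Subsingleton ((Good.S h𝔛 (e hyO)).obj ((ZeroExt.J h𝔛 O).obj M) : Type u) :=
        ⟨fun a b => (ZeroExt.bijective_St_ι h𝔛 (e hyO) M hyO).1
          (Subsingleton.elim (α := ((Good.S h𝔛 (e hyO)).obj M : Type u)) _ _)⟩
      exact ModuleCat.isZero_of_subsingleton ((Good.S h𝔛 (e hyO)).obj ((ZeroExt.J h𝔛 O).obj M))
    · refine ⟨⊤, trivial, ?_⟩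
      haveI := ZeroExt.subsingleton_St h𝔛 (V := (⊤ : (𝔛.X 0).Opens)) (y := y) trivial
        ((FTors.gamma _ (QctGamma.fam h𝔛 l)).obj ((Lq h𝔛 L).X n)) hyO
      exact ModuleCat.isZero_of_subsingleton ((Good.S h𝔛 (V := (⊤ : (𝔛.X 0).Opens)) (x := y) trivial).obj
        ((ZeroExt.J h𝔛 O).obj ((FTors.gamma _ (QctGamma.fam h𝔛 l)).obj ((Lq h𝔛 L).X n))))
  exact (DerivedCategory.Q.map_isZero h0).eq_of_src _ _

variable (hinj : ∀ n, Injective (K.X n))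

/-- Extend a cochain along a monomorphism of extensions by zero. -/
theorem exists_extend {O' O : (𝔛.X 0).Opens} (e : O' ≤ O) {n : ℤ}
    (P : CochainComplex (FSch.ModF 𝔛 h𝔛.1) ℤ) (hinj : ∀ n, Injective (K.X n))
    (γ : Cochain ((ZeroExt.JC h𝔛 O').obj P) K n) :
    ∃ γ' : Cochain ((ZeroExt.JC h𝔛 O).obj P) K n,
      (Cochain.ofHom (leC h𝔛 e P)).comp γ' (zero_add n) = γ := by
  refine ⟨Cochain.mk fun p q hpq =>
    @Injective.factorThru _ _ _ _ _ (hinj q) (γ.v p q hpq) ((ZeroExt.leN h𝔛 e).app (P.X p))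
      (ZeroExt.mono_leN h𝔛 e (P.X p)), ?_⟩
  refine Cochain.ext _ _ fun p q hpq => ?_
  rw [Cochain.zero_cochain_comp_v, Cochain.ofHom_v, Cochain.mk_v]
  exact @Injective.comp_factorThru _ _ _ _ _ (hinj q) (γ.v p q hpq)
    ((ZeroExt.leN h𝔛 e).app (P.X p)) (ZeroExt.mono_leN h𝔛 e (P.X p))

theorem res_res {O'' O' O : (𝔛.X 0).Opens} (e' : O'' ≤ O') (e : O' ≤ O) {n : ℤ}
    {P : CochainComplex (FSch.ModF 𝔛 h𝔛.1) ℤ}
    (γ : Cochain ((ZeroExt.JC h𝔛 O).obj P) K n) :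
    (Cochain.ofHom (leC h𝔛 e' P)).comp ((Cochain.ofHom (leC h𝔛 e P)).comp γ (zero_add n)) (zero_add n) =
      (Cochain.ofHom (leC h𝔛 (e'.trans e) P)).comp γ (zero_add n) := by
  rw [← leC_trans h𝔛 e' e P]
  refine Cochain.ext _ _ fun p q hpq => ?_
  simp only [Cochain.zero_cochain_comp_v, Cochain.ofHom_v, HomologicalComplex.comp_f, Category.assoc]

variable (ψ : Lq h𝔛 L ⟶ K)

/-- Null homotopies over an open. -/
abbrev Part : Type u :=
  Σ O : (𝔛.X 0).Opens, { α : Cochain ((ZeroExt.JC h𝔛 O).obj (Lq h𝔛 L)) K (-1) //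
    δ (-1) 0 α = Cochain.ofHom (ZeroExt.ιC h𝔛 O _ ≫ ψ) }

/-- Extension of null homotopies. -/
def Ext' (a b : Part h𝔛 L ψ) : Prop :=
  ∃ e : a.1 ≤ b.1, (Cochain.ofHom (leC h𝔛 e (Lq h𝔛 L))).comp b.2.1 (zero_add _) = a.2.1

theorem mkS_eq {O' O : (𝔛.X 0).Opens} (e : O' ≤ O) {n : ℤ}
    {α : Cochain ((ZeroExt.JC h𝔛 O).obj (Lq h𝔛 L)) K n}
    {α' : Cochain ((ZeroExt.JC h𝔛 O').obj (Lq h𝔛 L)) K n}
    (h : (Cochain.ofHom (leC h𝔛 e (Lq h𝔛 L))).comp α (zero_add n) = α') {p q : ℤ} (hpq : p + n = q)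
    {U : (𝔛.X 0).Opens} (eU : U ≤ O') (s : sec h𝔛.1 ((Lq h𝔛 L).X p) U) :
    secMap h𝔛.1 (α'.v p q hpq) U (ZeroExt.mkS h𝔛 _ eU s) =
      secMap h𝔛.1 (α.v p q hpq) U (ZeroExt.mkS h𝔛 _ (eU.trans e) s) := by
  subst h
  rw [Cochain.zero_cochain_comp_v, Cochain.ofHom_v]
  refine (IndColim.secMap_comp _ _ U _).trans ?_
  exact congrArg (secMap h𝔛.1 (α.v p q hpq) U) (ZeroExt.leN_mkS h𝔛 e _ eU s)

/-- Glue null homotopies. -/
theorem exists_glue {κ : Type u} (a : κ → Part h𝔛 L ψ)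
    (ha : ∀ i j (p q : ℤ) (hpq : p + (-1) = q) (U : (𝔛.X 0).Opens) (ei : U ≤ (a i).1) (ej : U ≤ (a j).1)
      (s : sec h𝔛.1 ((Lq h𝔛 L).X p) U),
      secMap h𝔛.1 ((a i).2.1.v p q hpq) U (ZeroExt.mkS h𝔛 _ ei s) =
        secMap h𝔛.1 ((a j).2.1.v p q hpq) U (ZeroExt.mkS h𝔛 _ ej s)) :
    ∃ b : Part h𝔛 L ψ, b.1 = ⨆ i, (a i).1 ∧ ∀ i, Ext' h𝔛 L ψ (a i) b := by
  let O := ⨆ i, (a i).1
  have hle : ∀ i, (a i).1 ≤ O := fun i => le_iSup (fun i => (a i).1) i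
  have hcov : ∀ x ∈ O, ∃ i, x ∈ (a i).1 := fun x hx => Opens.mem_iSup.1 hx
  let α : Cochain ((ZeroExt.JC h𝔛 O).obj (Lq h𝔛 L)) K (-1) := Cochain.mk fun p q hpq =>
    ZeroExt.glueHom h𝔛 (fun i => (a i).1) hcov (fun i => (a i).2.1.v p q hpq)
      (fun i j => ha i j p q hpq)
  have hres : ∀ i, (Cochain.ofHom (leC h𝔛 (hle i) (Lq h𝔛 L))).comp α (zero_add _) = (a i).2.1 :=
    fun i => by
      refine Cochain.ext _ _ fun p q hpq => ?_
      rw [Cochain.zero_cochain_comp_v, Cochain.ofHom_v, Cochain.mk_v]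
      exact ZeroExt.leN_glueHom h𝔛 (fun i => (a i).1) hle hcov _ _ i
  refine ⟨⟨O, α, ?_⟩, rfl, fun i => ⟨hle i, hres i⟩⟩
  refine Cochain.ext₀ _ _ fun p => ?_
  refine ZeroExt.hom_ext_cover h𝔛 (fun i => (a i).1) hle hcov fun i => ?_
  have h1 : (Cochain.ofHom (leC h𝔛 (hle i) (Lq h𝔛 L))).comp (δ (-1) 0 α) (zero_add 0) =
      (Cochain.ofHom (leC h𝔛 (hle i) (Lq h𝔛 L))).comp
        (Cochain.ofHom (ZeroExt.ιC h𝔛 O (Lq h𝔛 L) ≫ ψ)) (zero_add 0) := by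
    rw [← δ_ofHom_comp, hres i, (a i).2.2, ← Cochain.ofHom_comp, ← Category.assoc, leC_ι]
  have h2 := Cochain.congr_v h1 p p (add_zero p)
  rw [Cochain.zero_cochain_comp_v, Cochain.zero_cochain_comp_v, Cochain.ofHom_v] at h2
  exact h2

include hK hL hinj in
theorem exists_correct {W V : (𝔛.X 0).Opens} (hV : IsAffineOpen V) (e : W ≤ V)
    (β : Cochain ((ZeroExt.JC h𝔛 W).obj (Lq h𝔛 L)) K (-1)) (hβ : δ (-1) 0 β = 0) :
    ∃ γ : Cochain ((ZeroExt.JC h𝔛 V).obj (Lq h𝔛 L)) K (-2),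
      (Cochain.ofHom (leC h𝔛 e (Lq h𝔛 L))).comp (δ (-2) (-1) γ) (zero_add _) = β := by
  let b := (Cocycle.mk β 0 (by norm_num) hβ).rightShift (-1) 0 (by norm_num)
  have hKs : ∀ j, FSch.IsCohF 𝔛 h𝔛.1 ((K⟦(-1 : ℤ)⟧).homology j) := fun j =>
    CohSerre.isCohF_of_iso h𝔛
      (((HomologicalComplex.homologyFunctor (FSch.ModF 𝔛 h𝔛.1) (.up ℤ) 0).shiftIso
        (-1 : ℤ) j (j + (-1)) (by lia)).app K).symm (hK (j + (-1)))
  obtain ⟨γ₀, hγ₀⟩ := local_vanish h𝔛 (K := K⟦(-1 : ℤ)⟧) hKs L hL hV e (Cocycle.homOf b)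
  rw [Cocycle.cochain_ofHom_homOf_eq_coe] at hγ₀
  obtain ⟨γ, hγ⟩ := exists_extend h𝔛 (K := K) e (Lq h𝔛 L) hinj
    ((-1 : ℤ).negOnePow • γ₀.rightUnshift (-2) (by norm_num))
  refine ⟨γ, ?_⟩
  rw [← δ_ofHom_comp, hγ, δ_units_smul,
    Cochain.δ_rightUnshift γ₀ (-2) (by norm_num) (-1) 0 (by norm_num), hγ₀, smul_smul,
    Int.units_mul_self, one_smul]
  exact Cochain.rightUnshift_rightShift β (-1) 0 (by norm_num)

include hK hL hinj in
theorem map_eq_zero : DerivedCategory.Q.map ψ = 0 := by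
  obtain ⟨⟨O, α, hα⟩, hmax⟩ := exists_maximal_of_chains_bounded (r := Ext' h𝔛 L ψ) (fun c hc => by
    obtain ⟨b, -, hb⟩ := exists_glue h𝔛 L ψ (fun i : c => i.1) (fun i j p q hpq U ei ej s => by
      by_cases hij : i.1 = j.1
      · obtain rfl : i = j := Subtype.ext hij
        rfl
      · rcases hc i.2 j.2 hij with ⟨e, he⟩ | ⟨e, he⟩
        · exact mkS_eq h𝔛 L e he hpq ei s
        · exact (mkS_eq h𝔛 L e he hpq ej s).symm)
    exact ⟨b, fun a ha => hb ⟨a, ha⟩⟩)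
    (fun {a b c} hab hbc => by
      obtain ⟨e, he⟩ := hab
      obtain ⟨e', he'⟩ := hbc
      refine ⟨e.trans e', ?_⟩
      rw [← res_res h𝔛 e e', he', he])
  have hO : ∀ x : 𝔛.X 0, x ∈ O := fun x => by
    obtain ⟨V, hV, hx⟩ := CohCons.exists_affine (𝔛 := 𝔛) x
    obtain ⟨αV, hαV⟩ := local_vanish h𝔛 hK L hL hV le_rfl (ZeroExt.ιC h𝔛 V _ ≫ ψ)
    let W := O ⊓ V
    obtain ⟨γ, hγ⟩ := exists_correct h𝔛 hK L hL hinj hV (inf_le_right : W ≤ V)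
      ((Cochain.ofHom (leC h𝔛 (inf_le_left : W ≤ O) (Lq h𝔛 L))).comp α (zero_add _) -
        (Cochain.ofHom (leC h𝔛 (inf_le_right : W ≤ V) (Lq h𝔛 L))).comp αV (zero_add _)) (by
        rw [δ_sub, δ_ofHom_comp, δ_ofHom_comp, hα, hαV, ← Cochain.ofHom_comp, ← Cochain.ofHom_comp,
          ← Category.assoc, ← Category.assoc, leC_ι, leC_ι, sub_self])
    have hr : (Cochain.ofHom (leC h𝔛 (inf_le_right : W ≤ V) (Lq h𝔛 L))).comp
        (αV + δ (-2) (-1) γ) (zero_add _) =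
        (Cochain.ofHom (leC h𝔛 (inf_le_left : W ≤ O) (Lq h𝔛 L))).comp α (zero_add _) := by
      rw [Cochain.comp_add, hγ]
      abel
    let a : ULift.{u} Bool → Part h𝔛 L ψ := fun i => if i.down then ⟨O, α, hα⟩ else
      ⟨V, αV + δ (-2) (-1) γ, by rw [δ_add, δ_δ, add_zero, hαV]⟩
    obtain ⟨b, hb, hb'⟩ := exists_glue h𝔛 L ψ a (by
      rintro ⟨_ | _⟩ ⟨_ | _⟩ p q hpq U ei ej s
      · rfl
      · exact (mkS_eq h𝔛 L (inf_le_right : W ≤ V) hr hpq (le_inf ej ei) s).symm.trans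
          (mkS_eq h𝔛 L (inf_le_left : W ≤ O) rfl hpq (le_inf ej ei) s)
      · exact (mkS_eq h𝔛 L (inf_le_left : W ≤ O) rfl hpq (le_inf ei ej) s).symm.trans
          (mkS_eq h𝔛 L (inf_le_right : W ≤ V) hr hpq (le_inf ei ej) s)
      · rfl)
    obtain ⟨e, -⟩ := hmax b (hb' ⟨true⟩)
    exact e (hb ▸ le_iSup (fun i => (a i).1) ⟨false⟩ hx)
  obtain rfl : O = ⊤ := eq_top_iff.2 fun x _ => hO x
  haveI : ∀ n, IsIso ((ZeroExt.ιC h𝔛 ⊤ (Lq h𝔛 L)).f n) := fun n => Stalk.isIso _ fun y =>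
    ⟨⊤, trivial, (ConcreteCategory.isIso_iff_bijective _).2
      (ZeroExt.bijective_St_ι h𝔛 _ ((Lq h𝔛 L).X n) (Set.mem_univ y))⟩
  haveI : IsIso (ZeroExt.ιC h𝔛 ⊤ (Lq h𝔛 L)) := HomologicalComplex.Hom.isIso_of_components _
  have h1 := map_eq_zero_of_δ _ α hα
  rw [Functor.map_comp] at h1
  exact (cancel_epi (DerivedCategory.Q.map (ZeroExt.ιC h𝔛 ⊤ (Lq h𝔛 L)))).1 (h1.trans comp_zero.symm)

end Global

/-! ## The duality -/

section Final

variable (L : CochainComplex (FSch.ModF 𝔛 h𝔛.1) ℤ) (hL : ∀ n, Good.StInj h𝔛 (L.X n))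

include hL in
theorem hom_Lq_eq_zero (F : DerivedCategory (FSch.ModF 𝔛 h𝔛.1))
    (hF : ∀ i : ℤ, FSch.IsCohF 𝔛 h𝔛.1 (SiteCmp.HMod F i))
    (φ : DerivedCategory.Q.obj (Lq h𝔛 L) ⟶ F) : φ = 0 := by
  haveI := DerivedOX.Grothendieck.isGrothendieckAbelian_sheafOfModules
    (ModSite.ringSh (𝔛.Osh h𝔛.1))
  obtain ⟨K, r, hKI, hr, -, hinj⟩ :=
    DerCat.KInjExists.exists_kInjective_resolution (DerivedCategory.Q.objPreimage F)
  haveI := hKI
  haveI := hr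
  let e : F ≅ DerivedCategory.Q.obj K :=
    (DerivedCategory.Q.objObjPreimageIso F).symm ≪≫ asIso (DerivedCategory.Q.map r)
  obtain ⟨ψ, hψ⟩ := exists_lift (φ ≫ e.hom)
  rw [← cancel_mono e.hom, zero_comp, ← hψ]
  exact map_eq_zero h𝔛 (fun j => CohSerre.isCohF_of_iso h𝔛
    ((DerivedCategory.homologyFunctor _ j).mapIso e ≪≫
      (DerivedCategory.homologyFunctorFactors _ j).app K) (hF j)) L hL hinj ψ

/-- Greenlees-May duality. -/
theorem bijective_γι (F : DerivedCategory (FSch.ModF 𝔛 h𝔛.1))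
    (hF : ∀ i : ℤ, FSch.IsCohF 𝔛 h𝔛.1 (SiteCmp.HMod F i)) (hL : ∀ n, Good.StInj h𝔛 (L.X n)) :
    Function.Bijective fun φ : DerivedCategory.Q.obj L ⟶ F =>
      DerivedCategory.Q.map (Good.γι h𝔛 L) ≫ φ := by
  let T := DerivedCategory.triangleOfSES (shortExact_sq h𝔛 L)
  have hT := DerivedCategory.triangleOfSES_distinguished (shortExact_sq h𝔛 L)
  refine ⟨fun φ φ' h => ?_, fun g => ?_⟩
  · obtain ⟨ω, hω⟩ := Pretriangulated.Triangle.yoneda_exact₂ T hT (φ - φ')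
      ((Preadditive.comp_sub _ _ _).trans (sub_eq_zero.2 h))
    exact sub_eq_zero.1 (hω.trans ((congrArg (T.mor₂ ≫ ·) (hom_Lq_eq_zero h𝔛 L hL F hF ω)).trans comp_zero))
  · have hF1 : ∀ i : ℤ, FSch.IsCohF 𝔛 h𝔛.1 (SiteCmp.HMod (F⟦(1 : ℤ)⟧) i) := fun i =>
      CohSerre.isCohF_of_iso h𝔛
        (((DerivedCategory.homologyFunctor (FSch.ModF 𝔛 h𝔛.1) 0).shiftIso (1 : ℤ) i (1 + i) rfl).app F).symm
        (hF (1 + i))
    obtain ⟨φ, hφ⟩ := Pretriangulated.Triangle.yoneda_exact₂ T.invRotate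
      (Pretriangulated.inv_rot_of_distTriang T hT) g (by
        refine (shiftFunctor (DerivedCategory (FSch.ModF 𝔛 h𝔛.1)) (1 : ℤ)).map_injective ?_
        rw [Functor.map_zero]
        refine (cancel_epi ((shiftFunctorCompIsoId (DerivedCategory (FSch.ModF 𝔛 h𝔛.1))
          (-1 : ℤ) 1 (neg_add_cancel 1)).inv.app T.obj₃)).1 ?_
        refine Eq.trans ?_ comp_zero.symm
        exact hom_Lq_eq_zero h𝔛 L hL _ hF1 _)
    exact ⟨φ, hφ.symm⟩

theorem result [FTors.HasRgammaT 𝔛 h𝔛.1] (E F : DerivedCategory (FSch.ModF 𝔛 h𝔛.1))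
    (hF : ∀ i : ℤ, FSch.IsCohF 𝔛 h𝔛.1 (SiteCmp.HMod F i)) :
    Function.Bijective (fun φ : E ⟶ F => (FTors.RgammaTε 𝔛 h𝔛.1).app E ≫ φ) := by
  obtain ⟨L, hL, ⟨e⟩⟩ := exists_rep h𝔛 E
  haveI := isIso_unit h𝔛 L hL
  let a := (FTors.RgammaT 𝔛 h𝔛.1).mapIso e ≪≫ objIso (FTors.openIdealFam 𝔛 h𝔛.1) L
  have hn : (FTors.RgammaTε 𝔛 h𝔛.1).app E ≫ e.hom =
      a.hom ≫ DerivedCategory.Q.map (Good.γι h𝔛 L) := by
    refine ((FTors.RgammaTε 𝔛 h𝔛.1).naturality e.hom).symm.trans ?_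
    refine (congrArg ((FTors.RgammaT 𝔛 h𝔛.1).map e.hom ≫ ·)
      (ε_app_eq (FTors.openIdealFam 𝔛 h𝔛.1) L)).trans ?_
    exact (Category.assoc _ _ _).symm
  have hb := bijective_γι h𝔛 L F hF hL
  have hk : ∀ χ : E ⟶ F, a.hom ≫ DerivedCategory.Q.map (Good.γι h𝔛 L) ≫ e.inv ≫ χ =
      (FTors.RgammaTε 𝔛 h𝔛.1).app E ≫ χ := fun χ =>
    (Category.assoc _ _ _).symm.trans ((congrArg (· ≫ (e.inv ≫ χ)) hn.symm).trans
      ((Category.assoc _ _ _).trans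
        (congrArg ((FTors.RgammaTε 𝔛 h𝔛.1).app E ≫ ·) (e.hom_inv_id_assoc χ))))
  refine ⟨fun φ φ' h => ?_, fun g => ?_⟩
  · exact (cancel_epi e.inv).1 (hb.1 ((cancel_epi a.hom).1
      ((hk φ).trans (h.trans (hk φ').symm))))
  · obtain ⟨φ, hφ⟩ := hb.2 (a.inv ≫ g)
    refine ⟨e.hom ≫ φ, ?_⟩
    show (FTors.RgammaTε 𝔛 h𝔛.1).app E ≫ e.hom ≫ φ = g
    exact (Category.assoc _ _ _).symm.trans ((congrArg (· ≫ φ) hn).trans
      ((Category.assoc _ _ _).trans ((congrArg (a.hom ≫ ·) hφ).trans (a.hom_inv_id_assoc g))))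

end Final

end Groth.Agent.H22.Gam.Dual
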