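import Groth.Agent.Lib.DerivedAdj.Exact
import Mathlib.Algebra.Homology.DerivedCategory.ExactFunctor
import Mathlib.CategoryTheory.Localization.Adjunction
import Mathlib.CategoryTheory.Adjunction.FullyFaithful

/-!
# Exact adjoint functors on derived categories (helper22)
-/

set_option autoImplicit false
set_option maxHeartbeats 1000000
set_option linter.style.haveILetI false
set_option linter.unusedSectionVars false

open CategoryTheory Limits

namespace Groth.Agent.H22.Gam.ExactAdj

universe w₁ w₂ v₁ v₂ u₁ u₂

variable {C : Type u₁} [Category.{v₁} C] [Abelian C] {D : Type u₂} [Category.{v₂} D] [Abelian D]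
  [HasDerivedCategory.{w₁} C] [HasDerivedCategory.{w₂} D]

/-- Homology of the image of a complex under an exact functor. -/
noncomputable def homologyIso (F : C ⥤ D) [F.Additive] [PreservesFiniteLimits F]
    [PreservesFiniteColimits F] (T : DerivedCategory C ⥤ DerivedCategory D)
    (e : DerivedCategory.Q ⋙ T ≅ F.mapHomologicalComplex (ComplexShape.up ℤ) ⋙ DerivedCategory.Q)
    (K : CochainComplex C ℤ) (i : ℤ) :
    (DerivedCategory.homologyFunctor D i).obj (T.obj (DerivedCategory.Q.obj K)) ≅
      F.obj ((DerivedCategory.homologyFunctor C i).obj (DerivedCategory.Q.obj K)) :=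
  (DerivedCategory.homologyFunctor D i).mapIso (e.app K) ≪≫
    (DerivedCategory.homologyFunctorFactors D i).app _ ≪≫
    (K.sc i).mapHomologyIso F ≪≫ F.mapIso ((DerivedCategory.homologyFunctorFactors C i).app K).symm

/-- An exact functor computes the cohomology of its derived functor. -/
theorem nonempty_homologyIso (F : C ⥤ D) [F.Additive] [PreservesFiniteLimits F]
    [PreservesFiniteColimits F] (T : DerivedCategory C ⥤ DerivedCategory D)
    (e : DerivedCategory.Q ⋙ T ≅ F.mapHomologicalComplex (ComplexShape.up ℤ) ⋙ DerivedCategory.Q)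
    (E : DerivedCategory C) (i : ℤ) :
    Nonempty ((DerivedCategory.homologyFunctor D i).obj (T.obj E) ≅
      F.obj ((DerivedCategory.homologyFunctor C i).obj E)) :=
  ⟨(DerivedCategory.homologyFunctor D i).mapIso
      (T.mapIso (DerivedCategory.Q.objObjPreimageIso E).symm) ≪≫
    homologyIso F T e _ i ≪≫
    F.mapIso ((DerivedCategory.homologyFunctor C i).mapIso (DerivedCategory.Q.objObjPreimageIso E))⟩

variable {F : C ⥤ D} {G : D ⥤ C} (adj : F ⊣ G) [F.Additive] [G.Additive]
  [PreservesFiniteLimits F] [PreservesFiniteColimits F]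
  [PreservesFiniteLimits G] [PreservesFiniteColimits G]

/-- The adjunction on derived categories. -/
noncomputable def derived : F.mapDerivedCategory ⊣ G.mapDerivedCategory :=
  haveI : CatCommSq (F.mapHomologicalComplex (ComplexShape.up ℤ)) DerivedCategory.Q DerivedCategory.Q
      F.mapDerivedCategory := ⟨F.mapDerivedCategoryFactors.symm⟩
  haveI : CatCommSq (G.mapHomologicalComplex (ComplexShape.up ℤ)) DerivedCategory.Q DerivedCategory.Q
      G.mapDerivedCategory := ⟨G.mapDerivedCategoryFactors.symm⟩
  (Groth.Agent.Lib.DerivedAdj.Exact.adjCx adj).localization DerivedCategory.Q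
    (HomologicalComplex.quasiIso C (ComplexShape.up ℤ)) DerivedCategory.Q
    (HomologicalComplex.quasiIso D (ComplexShape.up ℤ)) F.mapDerivedCategory G.mapDerivedCategory

theorem derived_counit_app (K : CochainComplex D ℤ) :
    (derived adj).counit.app (DerivedCategory.Q.obj K) =
      F.mapDerivedCategory.map (G.mapDerivedCategoryFactors.hom.app K) ≫
        F.mapDerivedCategoryFactors.hom.app ((G.mapHomologicalComplex (ComplexShape.up ℤ)).obj K) ≫
        DerivedCategory.Q.map
          ((Groth.Agent.Lib.DerivedAdj.Exact.adjCx adj).counit.app K) := by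
  letI : CatCommSq (F.mapHomologicalComplex (ComplexShape.up ℤ)) DerivedCategory.Q DerivedCategory.Q
      F.mapDerivedCategory := ⟨F.mapDerivedCategoryFactors.symm⟩
  letI : CatCommSq (G.mapHomologicalComplex (ComplexShape.up ℤ)) DerivedCategory.Q DerivedCategory.Q
      G.mapDerivedCategory := ⟨G.mapDerivedCategoryFactors.symm⟩
  exact Adjunction.Localization.η_app (Groth.Agent.Lib.DerivedAdj.Exact.adjCx adj)
    DerivedCategory.Q DerivedCategory.Q (HomologicalComplex.quasiIso D (ComplexShape.up ℤ))
    F.mapDerivedCategory G.mapDerivedCategory K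

theorem derived_unit_app (K : CochainComplex C ℤ) :
    (derived adj).unit.app (DerivedCategory.Q.obj K) =
      DerivedCategory.Q.map ((Groth.Agent.Lib.DerivedAdj.Exact.adjCx adj).unit.app K) ≫
        G.mapDerivedCategoryFactors.inv.app ((F.mapHomologicalComplex (ComplexShape.up ℤ)).obj K) ≫
        G.mapDerivedCategory.map (F.mapDerivedCategoryFactors.inv.app K) := by
  letI : CatCommSq (F.mapHomologicalComplex (ComplexShape.up ℤ)) DerivedCategory.Q DerivedCategory.Q
      F.mapDerivedCategory := ⟨F.mapDerivedCategoryFactors.symm⟩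
  letI : CatCommSq (G.mapHomologicalComplex (ComplexShape.up ℤ)) DerivedCategory.Q DerivedCategory.Q
      G.mapDerivedCategory := ⟨G.mapDerivedCategoryFactors.symm⟩
  exact Adjunction.Localization.ε_app (Groth.Agent.Lib.DerivedAdj.Exact.adjCx adj)
    DerivedCategory.Q (HomologicalComplex.quasiIso C (ComplexShape.up ℤ)) DerivedCategory.Q
    F.mapDerivedCategory G.mapDerivedCategory K

theorem quasiIso_counit (K : CochainComplex D ℤ) (h : ∀ i, IsIso (adj.counit.app (K.homology i))) :
    QuasiIso ((Groth.Agent.Lib.DerivedAdj.Exact.adjCx adj).counit.app K) := by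
  refine ⟨fun i => ?_⟩
  rw [quasiIsoAt_iff_isIso_homologyMap]
  haveI : PreservesFiniteLimits (G ⋙ F) := comp_preservesFiniteLimits _ _
  haveI : PreservesFiniteColimits (G ⋙ F) := comp_preservesFiniteColimits _ _
  have e := ShortComplex.homologyMap_mapNatTrans (K.sc i) adj.counit
  refine @Eq.mpr _ _ (congrArg (fun t => IsIso t) e) ?_
  exact @IsIso.comp_isIso _ _ _ _ _ _ _ (Iso.isIso_hom _)
    (@IsIso.comp_isIso _ _ _ _ _ _ _ (h i) (Iso.isIso_inv _))

theorem quasiIso_unit (K : CochainComplex C ℤ) (h : ∀ i, IsIso (adj.unit.app (K.homology i))) :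
    QuasiIso ((Groth.Agent.Lib.DerivedAdj.Exact.adjCx adj).unit.app K) := by
  refine ⟨fun i => ?_⟩
  rw [quasiIsoAt_iff_isIso_homologyMap]
  haveI : PreservesFiniteLimits (F ⋙ G) := comp_preservesFiniteLimits _ _
  haveI : PreservesFiniteColimits (F ⋙ G) := comp_preservesFiniteColimits _ _
  have e := ShortComplex.homologyMap_mapNatTrans (K.sc i) adj.unit
  refine @Eq.mpr _ _ (congrArg (fun t => IsIso t) e) ?_
  exact @IsIso.comp_isIso _ _ _ _ _ _ _ (Iso.isIso_hom _)
    (@IsIso.comp_isIso _ _ _ _ _ _ _ (h i) (Iso.isIso_inv _))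

/-- The derived counit at an object with fixed cohomology. -/
theorem isIso_counit (E : DerivedCategory D)
    (h : ∀ i, IsIso (adj.counit.app ((DerivedCategory.homologyFunctor D i).obj E))) :
    IsIso ((derived adj).counit.app E) := by
  rw [← NatTrans.isIso_app_iff_of_iso _ (DerivedCategory.Q.objObjPreimageIso E), derived_counit_app]
  haveI := quasiIso_counit adj (DerivedCategory.Q.objPreimage E) fun i =>
    (NatTrans.isIso_app_iff_of_iso _
      (((DerivedCategory.homologyFunctorFactors D i).app _).symm ≪≫
        (DerivedCategory.homologyFunctor D i).mapIso (DerivedCategory.Q.objObjPreimageIso E))).2 (h i)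
  infer_instance

/-- The derived unit at an object with fixed cohomology. -/
theorem isIso_unit (E : DerivedCategory C)
    (h : ∀ i, IsIso (adj.unit.app ((DerivedCategory.homologyFunctor C i).obj E))) :
    IsIso ((derived adj).unit.app E) := by
  rw [← NatTrans.isIso_app_iff_of_iso _ (DerivedCategory.Q.objObjPreimageIso E), derived_unit_app]
  haveI := quasiIso_unit adj (DerivedCategory.Q.objPreimage E) fun i =>
    (NatTrans.isIso_app_iff_of_iso _
      (((DerivedCategory.homologyFunctorFactors C i).app _).symm ≪≫
        (DerivedCategory.homologyFunctor C i).mapIso (DerivedCategory.Q.objObjPreimageIso E))).2 (h i)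
  infer_instance

/-- The right adjoint is fully faithful out of objects with invertible counit. -/
theorem bijective_map_right (T : DerivedCategory D ⥤ DerivedCategory C)
    (e : DerivedCategory.Q ⋙ T ≅ G.mapHomologicalComplex (ComplexShape.up ℤ) ⋙ DerivedCategory.Q)
    (E E' : DerivedCategory D)
    (h : ∀ i, IsIso (adj.counit.app ((DerivedCategory.homologyFunctor D i).obj E))) :
    Function.Bijective (fun φ : E ⟶ E' => T.map φ) := by
  haveI := isIso_counit adj E h
  haveI : Localization.Lifting DerivedCategory.Q (HomologicalComplex.quasiIso D (ComplexShape.up ℤ))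
      (G.mapHomologicalComplex (ComplexShape.up ℤ) ⋙ DerivedCategory.Q) T := ⟨e⟩
  let t : T ≅ G.mapDerivedCategory :=
    Localization.liftNatIso DerivedCategory.Q (HomologicalComplex.quasiIso D (ComplexShape.up ℤ))
      (G.mapHomologicalComplex (ComplexShape.up ℤ) ⋙ DerivedCategory.Q)
      (G.mapHomologicalComplex (ComplexShape.up ℤ) ⋙ DerivedCategory.Q) T G.mapDerivedCategory
      (Iso.refl _)
  have hb : Function.Bijective (fun φ : E ⟶ E' => G.mapDerivedCategory.map φ) := by
    have : (fun φ : E ⟶ E' => G.mapDerivedCategory.map φ) =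
        ((derived adj).homEquiv _ _) ∘ (fun φ => (derived adj).counit.app E ≫ φ) := by
      funext φ
      simp [Adjunction.homEquiv_unit]
    rw [this]
    exact ((derived adj).homEquiv _ _).bijective.comp
      ⟨fun a b hab => (cancel_epi _).1 hab,
        fun c => ⟨inv ((derived adj).counit.app E) ≫ c, IsIso.hom_inv_id_assoc _ c⟩⟩
  have : (fun φ : E ⟶ E' => T.map φ) =
      (fun ψ => (t.app E).hom ≫ ψ ≫ (t.app E').inv) ∘ (fun φ => G.mapDerivedCategory.map φ) := by
    funext φ
    simp [← t.hom.naturality_assoc]
  rw [this]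
  refine Function.Bijective.comp ⟨fun a b hab => ?_, fun c => ⟨(t.app E).inv ≫ c ≫ (t.app E').hom, by simp⟩⟩ hb
  simpa using hab

/-- The left adjoint is fully faithful into objects with invertible unit. -/
theorem bijective_map_left (E E' : DerivedCategory C)
    (h : ∀ i, IsIso (adj.unit.app ((DerivedCategory.homologyFunctor C i).obj E'))) :
    Function.Bijective (fun φ : E ⟶ E' => F.mapDerivedCategory.map φ) := by
  haveI := isIso_unit adj E' h
  have : (fun φ : E ⟶ E' => F.mapDerivedCategory.map φ) =
      ((derived adj).homEquiv _ _).symm ∘ (fun φ => φ ≫ (derived adj).unit.app E') := by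
    funext φ
    simp [Adjunction.homEquiv_counit]
  rw [this]
  exact ((derived adj).homEquiv _ _).symm.bijective.comp
    ⟨fun a b hab => (cancel_mono _).1 hab,
      fun c => ⟨c ≫ inv ((derived adj).unit.app E'), by simp⟩⟩

end Groth.Agent.H22.Gam.ExactAdj
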