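import Groth.Prelude.Def_ModSite2
import Mathlib.Algebra.Category.ModuleCat.Presheaf.Generator
import Mathlib.Algebra.Category.ModuleCat.Sheaf.Abelian
import Mathlib.Algebra.Category.ModuleCat.Presheaf.Abelian
import Mathlib.CategoryTheory.Preadditive.Injective.Basic
import Mathlib.CategoryTheory.Abelian.Images

/-!
# Solving linear systems in injective sheaves of modules (helper22)
-/

set_option autoImplicit false
set_option maxHeartbeats 1000000
set_option linter.style.haveILetI false

universe u

open CategoryTheory CategoryTheory.Limits Opposite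

namespace Groth.Agent.H22.Gam.Extend

variable {C : Type u} [SmallCategory C] {J : GrothendieckTopology C} {O : Sheaf J CommRingCat.{u}}
  [HasSheafify J AddCommGrpCat.{u}] [J.WEqualsLocallyBijective AddCommGrpCat.{u}]

/-- An injective sheaf of modules is injective as a presheaf of modules. -/
theorem injective_forget (I : ModSite.Mod O) [Injective I] :
    Injective ((SheafOfModules.forget (ModSite.ringSh O)).obj I) := by
  haveI := Injective.injective_of_adjoint
    (PresheafOfModules.sheafificationAdjunction.{u} (𝟙 (ModSite.ringSh O).obj)) I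
  exact Injective.of_iso (Iso.refl _) this

variable (O)

/-- `n` copies of a representable presheaf. -/
def idx (X : C) (n : ℕ) : Cᵒᵖ ⥤ Type u where
  obj W := (W.unop ⟶ X) × ULift.{u} (Fin n)
  map f := ↾fun p => (f.unop ≫ p.1, p.2)

variable {O}

/-- The morphism given by a family of sections. -/
noncomputable def desc {X : C} {n : ℕ} (M : PresheafOfModules.{u} (ModSite.ringSh O).obj)
    (t : Fin n → M.obj (op X)) : PresheafOfModules.freeObj (idx X n) ⟶ M :=
  PresheafOfModules.freeObjDesc
    { app := fun W => ↾fun p => M.map p.1.op (t p.2.down)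
      naturality := fun W W' f => by
        ext p
        exact congrArg (fun φ => φ (t p.2.down)) (M.presheaf.map_comp p.1.op f) }

theorem desc_freeMk {X : C} {n : ℕ} (M : PresheafOfModules.{u} (ModSite.ringSh O).obj)
    (t : Fin n → M.obj (op X)) {W : C} (g : W ⟶ X) (i : Fin n) :
    (desc M t).app (op W) (ModuleCat.freeMk (show (idx X n).obj (op W) from (g, ⟨i⟩))) =
      M.map g.op (t i) := ModuleCat.freeDesc_apply _ _

/-- A linear system over `X` whose relations over every object over `X` are respected has a solution
in an injective sheaf. -/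
theorem exists_solution (I : ModSite.Mod O) [Injective I] {X : C} (hX : ∀ W, Subsingleton (W ⟶ X))
    {n : ℕ} (r : Fin n → O.obj.obj (op X)) (t : Fin n → ModSite.sect I X)
    (h : ∀ {W : C} (g : W ⟶ X) (c : Fin n → O.obj.obj (op W)),
      ∑ i, c i * (O.obj.map g.op).hom (r i) = 0 →
        ∑ i, c i • (show ModSite.sect I W from I.val.presheaf.map g.op (t i)) = (0 : ModSite.sect I W)) :
    ∃ s : ModSite.sect I X, ∀ i, r i • s = t i := by
  haveI := injective_forget I
  let R := (ModSite.ringSh O).obj
  let P := (PresheafOfModules.free R).obj (yoneda.obj X)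
  let gen : P.obj (op X) := ModuleCat.freeMk (𝟙 X)
  let Φ : PresheafOfModules.freeObj (idx X n) ⟶ P :=
    desc (O := O) P fun i => (show R.obj (op X) from r i) • gen
  let ψ : PresheafOfModules.freeObj (idx X n) ⟶ (SheafOfModules.forget _).obj I := desc I.val t
  have hk : kernel.ι Φ ≫ ψ = 0 := by
    refine PresheafOfModules.hom_ext fun W => ModuleCat.hom_ext (LinearMap.ext fun z => ?_)
    have h0 : Φ.app W ((kernel.ι Φ).app W z) = 0 :=
      congrArg (fun α : kernel Φ ⟶ P => α.app W z) (kernel.condition Φ)
    show ψ.app W ((kernel.ι Φ).app W z) = 0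
    generalize (kernel.ι Φ).app W z = c at h0 ⊢
    by_cases hW : Nonempty (W.unop ⟶ X)
    · obtain ⟨g⟩ := hW
      haveI := hX W.unop
      let f : Fin n → (idx X n).obj W := fun i => (g, ⟨i⟩)
      let a : Fin n → R.obj W := fun i => (show (idx X n).obj W →₀ R.obj W from c) (f i)
      have hc : c = ∑ i, a i • ModuleCat.freeMk (f i) := by
        classical
        show (show (idx X n).obj W →₀ R.obj W from c) = ∑ i, a i • Finsupp.single (f i) (1 : R.obj W)
        refine Finsupp.ext fun p => ?_
        have hp : p = f p.2.down := Prod.ext (Subsingleton.elim _ _) rfl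
        rw [Finsupp.finsetSum_apply, Finset.sum_eq_single p.2.down]
        · rw [hp, Finsupp.smul_apply, Finsupp.single_eq_same, smul_eq_mul, mul_one]
        · intro j _ hj
          rw [Finsupp.smul_apply, Finsupp.single_eq_of_ne, smul_zero]
          intro e
          exact hj (congrArg (fun q => q.2.down) e).symm
        · intro hn; exact absurd (Finset.mem_univ _) hn
      have e1 : ∀ i, Φ.app W (ModuleCat.freeMk (f i)) =
          (R.map g.op (r i)) • (ModuleCat.freeMk g : P.obj W) := fun i => by
        refine (desc_freeMk (O := O) P _ g i).trans ((P.map_smul g.op _ _).trans ?_)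
        refine congrArg (fun q : P.obj W => (R.map g.op (r i)) • q) ?_
        refine (ModuleCat.freeDesc_apply _ _).trans ?_
        exact congrArg ModuleCat.freeMk (Category.comp_id g)
      replace h0 : ∑ i, (a i * R.map g.op (r i)) • (ModuleCat.freeMk g : P.obj W) = 0 := by
        refine Eq.trans ?_ ((congrArg (Φ.app W) hc).symm.trans h0)
        refine Eq.trans ?_ (map_sum (Φ.app W).hom _ _).symm
        refine Finset.sum_congr rfl fun i _ => ?_
        refine Eq.trans ?_ ((map_smul (Φ.app W).hom (a i) _).trans (congrArg (a i • ·) (e1 i))).symm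
        exact mul_smul _ _ _
      have h1 : ∑ i, a i * R.map g.op (r i) = 0 := by
        have := congrArg (fun q : P.obj W => (show (yoneda.obj X).obj W →₀ R.obj W from q) g)
          ((Finset.sum_smul (f := fun i => a i * R.map g.op (r i)) (s := Finset.univ)
            (x := (ModuleCat.freeMk g : P.obj W))).trans h0)
        exact ((Finsupp.smul_apply _ _ _).trans ((congrArg (_ • ·) Finsupp.single_eq_same).trans
          (mul_one _))).symm.trans this
      refine (congrArg (ψ.app W) hc).trans ((map_sum (ψ.app W).hom _ _).trans
        (Eq.trans ?_ (h g a h1)))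
      exact Finset.sum_congr rfl fun i _ => (map_smul (ψ.app W).hom (a i) _).trans
        (congrArg (a i • ·) (desc_freeMk I.val t g i))
    · haveI : IsEmpty ((idx X n).obj W) := ⟨fun p => hW ⟨p.1⟩⟩
      rw [show c = 0 from Finsupp.ext (α := (idx X n).obj W) fun p => isEmptyElim p]
      exact map_zero _
  let e : Abelian.coimage Φ ⟶ (SheafOfModules.forget _).obj I := cokernel.desc _ ψ hk
  let χ := Injective.factorThru e (Abelian.factorThruCoimage Φ)
  have hχ : Φ ≫ χ = ψ :=
    (congrArg (· ≫ χ) (Abelian.coimage.fac Φ).symm).trans ((Category.assoc _ _ _).trans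
      ((congrArg (Abelian.coimage.π Φ ≫ ·) (Injective.comp_factorThru e _)).trans
        (cokernel.π_desc _ _ _)))
  refine ⟨χ.app (op X) gen, fun i => ?_⟩
  have := congrArg (fun α : PresheafOfModules.freeObj (idx X n) ⟶ (SheafOfModules.forget _).obj I =>
    α.app (op X) (ModuleCat.freeMk (show (idx X n).obj (op X) from (𝟙 X, ⟨i⟩)))) hχ
  refine Eq.trans ?_ (this.trans ((desc_freeMk I.val t (𝟙 X) i).trans ?_))
  · show _ = χ.app (op X) (Φ.app (op X) _)
    rw [desc_freeMk]
    refine (map_smul (χ.app (op X)).hom _ _).symm.trans (congrArg _ ?_)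
    exact (ConcreteCategory.congr_hom (P.presheaf.map_id (op X)) _).symm
  · exact congrArg (fun φ => φ (t i)) (I.val.presheaf.map_id (op X))

end Groth.Agent.H22.Gam.Extend
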