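import Groth.Agent.H22.Gam.InjStalk
import Groth.Agent.H30.FSch.TorsClosure
import Groth.Agent.Lib.RGamma.Good

/-!
# The torsion functor on stalks of complexes with stalkwise injective terms (helper22)
-/

set_option autoImplicit false
set_option maxHeartbeats 1000000
set_option linter.style.haveILetI false

universe u

open CategoryTheory CategoryTheory.Limits AlgebraicGeometry TopologicalSpace Opposite
open Groth.Agent.H30 Groth.Agent.H30.RealLimSec Groth.Agent.Lib.ModSiteLoc.Basic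
open Groth.Agent.Lib

namespace Groth.Agent.H22.Gam.Good

variable {𝔛 : FSch.Sys.{u}} (h𝔛 : 𝔛.IsLocNoethFormal) {V : (𝔛.X 0).Opens} (hV : IsAffineOpen V)
  {x : 𝔛.X 0} (hx : x ∈ V)

/-- The stalk functor. -/
noncomputable abbrev S : FSch.ModF 𝔛 h𝔛.1 ⥤ ModuleCat.{u} (Levels.A 𝔛 h𝔛.1 V) :=
  Stalk.St (𝔛.Osh h𝔛.1) hx

/-- The ideal of definition on `V`. -/
noncomputable abbrev JV (V : (𝔛.X 0).Opens) : Ideal (Levels.A 𝔛 h𝔛.1 V) := Levels.J (h := h𝔛.1) V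

/-- Stalks are injective over affine sections. -/
def StInj (M : FSch.ModF 𝔛 h𝔛.1) : Prop :=
  ∀ (V : (𝔛.X 0).Opens), IsAffineOpen V → ∀ (x : 𝔛.X 0) (hx : x ∈ V),
    Module.Injective (Levels.A 𝔛 h𝔛.1 V) ((S h𝔛 hx).obj M)

theorem stInj_of_injective (M : FSch.ModF 𝔛 h𝔛.1) [Injective M] : StInj h𝔛 M :=
  fun _ hV _ hx => InjStalk.injective_St h𝔛 hV M hx

include hV in
theorem map_gammaι_mem (M : FSch.ModF 𝔛 h𝔛.1) (z : ((S h𝔛 hx).obj ((FTors.gammaT 𝔛 h𝔛.1).obj M) : Type u)) :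
    (S h𝔛 hx).map ((FTors.gammaTι 𝔛 h𝔛.1).app M) z ∈
      DRing.torsionSub (JV h𝔛 V) ((S h𝔛 hx).obj M : Type u) := by
  obtain ⟨W, e, hW, s, rfl⟩ := Stalk.exists_gS hx z
  obtain ⟨W', e', n, hW', hn⟩ :=
    TorsCoh.exists_killed_of_isTorsSect (h := h𝔛.1) (M := M) s.1 s.2 x hW
  refine ⟨n + 1, fun a ha => ?_⟩
  have ha0 : Levels.proj 𝔛 h𝔛.1 n V a = 0 :=
    RingHom.mem_ker.1 (((Levels.adic h𝔛 hV).2.1 n).2.symm ▸ ha)
  have h1 := hn W' le_rfl (CohPres.resA h𝔛.1 (e'.trans e) a)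
    ((CohPres.proj_resA h𝔛.1 n (e'.trans e) a).trans ((congrArg _ ha0).trans (map_zero _)))
  rw [TorsCoh.resF_resF] at h1
  refine (congrArg (a • ·) ((Stalk.map_gS hx _ hW s).trans
    (Stalk.gS_rs hx e' hW' hW s.1).symm)).trans ?_
  refine (Stalk.gS_smul hx (e'.trans e) hW' a _).trans ?_
  exact (congrArg (Stalk.gS hx M hW') h1).trans (map_zero _)

include hV in
theorem exists_preimage (M : FSch.ModF 𝔛 h𝔛.1) (m : ((S h𝔛 hx).obj M : Type u))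
    (hm : m ∈ DRing.torsionSub (JV h𝔛 V) ((S h𝔛 hx).obj M : Type u)) :
    ∃ z, (S h𝔛 hx).map ((FTors.gammaTι 𝔛 h𝔛.1).app M) z = m := by
  obtain ⟨n, hn⟩ := hm
  obtain ⟨W, e, hW, s, rfl⟩ := Stalk.exists_gS hx m
  haveI := Levels.isNoetherianRing_A h𝔛 hV
  obtain ⟨l, g, hg⟩ := Submodule.fg_iff_exists_fin_generating_family.1
    (IsNoetherian.noetherian (JV h𝔛 V ^ (n + 1)))
  have h0 : ∀ i, Stalk.gS hx M hW (CohPres.resA h𝔛.1 e (g i) • s) = 0 := fun i =>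
    (Stalk.gS_smul hx e hW (g i) s).symm.trans
      (hn _ (Ideal.pow_le_pow_right (Nat.le_succ n) (hg ▸ Submodule.subset_span ⟨i, rfl⟩)))
  choose Wi ei hxi hi using fun i => Stalk.exists_eq_zero hx hW _ (h0 i)
  obtain ⟨W', hW', hxW', eW'⟩ := Opens.isBasis_iff_nbhd.1 (CohPres.isBasis_affine (𝔛.X 0))
    (show x ∈ W ⊓ Finset.univ.inf Wi from ⟨hW, InjStalk.mem_inf _ _ x fun i _ => hxi i⟩)
  have e1 : W' ≤ W := eW'.trans inf_le_left
  have hgi : ∀ i, CohPres.resA h𝔛.1 (e1.trans e) (g i) • CohPres.resF h𝔛.1 M e1 s = 0 := fun i => by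
    have e2 : W' ≤ Wi i := eW'.trans (inf_le_right.trans (Finset.inf_le (Finset.mem_univ i)))
    have h1 : CohPres.resF h𝔛.1 M e1 (CohPres.resA h𝔛.1 e (g i) • s) = 0 :=
      (TorsCoh.resF_resF M (ei i) e2 _).symm.trans
        ((congrArg (CohPres.resF h𝔛.1 M e2) (hi i)).trans (map_zero _))
    rw [CohPres.resF_smul] at h1
    exact (congrArg (· • CohPres.resF h𝔛.1 M e1 s) (rr_rr (homOfLE e) (homOfLE e1) (g i))).symm.trans h1
  have hk : TorsCoh.Killed n M (CohPres.resF h𝔛.1 M e1 s) := fun U eU a ha => by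
    refine TorsCoh.eq_zero_of_locally M _ fun z hz => ?_
    obtain ⟨U', hU', hzU', eU'⟩ := Opens.isBasis_iff_nbhd.1 (CohPres.isBasis_affine (𝔛.X 0)) hz
    refine ⟨U', eU', hzU', ?_⟩
    rw [CohPres.resF_smul, TorsCoh.resF_resF]
    have hmem : CohPres.resA h𝔛.1 eU' a ∈ Ideal.span
        (Set.range fun i => CohPres.resA h𝔛.1 ((eU'.trans eU).trans (e1.trans e)) (g i)) := by
      have h2 : CohPres.resA h𝔛.1 eU' a ∈ Levels.J (h := h𝔛.1) U' ^ (n + 1) := by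
        rw [← ((Levels.adic h𝔛 hU').2.1 n).2, RingHom.mem_ker]
        exact (CohPres.proj_resA h𝔛.1 n eU' a).trans ((congrArg _ ha).trans (map_zero _))
      rw [← CohExact.J_map h𝔛 hV hU' ((eU'.trans eU).trans (e1.trans e)), ← Ideal.map_pow, ← hg,
        ← Ideal.span, Ideal.map_span, ← Set.range_comp] at h2
      exact h2
    obtain ⟨c, hc⟩ := (Submodule.mem_span_range_iff_exists_fun _).1 hmem
    rw [← hc, Finset.sum_smul]
    refine Finset.sum_eq_zero fun i _ => ?_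
    rw [smul_eq_mul, mul_smul]
    have h3 := congrArg (CohPres.resF h𝔛.1 M (eU'.trans eU)) (hgi i)
    rw [CohPres.resF_smul, map_zero] at h3
    refine (congrArg (c i • ·) ?_).trans (smul_zero _)
    exact (congrArg (· • CohPres.resF h𝔛.1 M (eU'.trans eU) (CohPres.resF h𝔛.1 M e1 s))
      (rr_rr (homOfLE (e1.trans e)) (homOfLE (eU'.trans eU)) (g i)).symm).trans h3
  refine ⟨Stalk.gS hx ((FTors.gammaT 𝔛 h𝔛.1).obj M) hxW'
    ⟨CohPres.resF h𝔛.1 M e1 s,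
      FTors.IsTorsSect.of_killedBy ((TorsCoh.killed_iff n M _).2 hk)⟩, ?_⟩
  exact (Stalk.map_gS hx _ hxW' _).trans (Stalk.gS_rs hx e1 hxW' hW s)

/-- The comparison of `Γ'` on stalks. -/
noncomputable def gammaStEquiv (M : FSch.ModF 𝔛 h𝔛.1) :
    ((S h𝔛 hx).obj ((FTors.gammaT 𝔛 h𝔛.1).obj M) : Type u) ≃ₗ[Levels.A 𝔛 h𝔛.1 V]
      DRing.torsionSub (JV h𝔛 V) ((S h𝔛 hx).obj M : Type u) :=
  LinearEquiv.ofBijective
    (LinearMap.codRestrict _ ((S h𝔛 hx).map ((FTors.gammaTι 𝔛 h𝔛.1).app M)).hom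
      (map_gammaι_mem h𝔛 hV hx M))
    ⟨fun a b hab => by
      haveI := TorsLevel.mono_gammaι (FTors.openIdealFam 𝔛 h𝔛.1) M
      exact (ModuleCat.mono_iff_injective _).1
        (inferInstanceAs (Mono ((S h𝔛 hx).map ((FTors.gammaTι 𝔛 h𝔛.1).app M))))
        (congrArg Subtype.val hab),
    fun m => by
      obtain ⟨z, hz⟩ := exists_preimage h𝔛 hV hx M m.1 m.2
      exact ⟨z, Subtype.ext hz⟩⟩

/-- `Γ'` on stalks is the torsion functor. -/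
noncomputable def gammaStIso :
    FTors.gammaT 𝔛 h𝔛.1 ⋙ S h𝔛 hx ≅ S h𝔛 hx ⋙ DRing.gammaI (JV h𝔛 V) :=
  NatIso.ofComponents (fun M => (gammaStEquiv h𝔛 hV hx M).toModuleIso) fun {M N} f =>
    ModuleCat.hom_ext (LinearMap.ext fun z => Subtype.ext (ConcreteCategory.congr_hom
      (((S h𝔛 hx).map_comp _ _).symm.trans ((congrArg (S h𝔛 hx).map
        ((FTors.gammaTι 𝔛 h𝔛.1).naturality f)).trans ((S h𝔛 hx).map_comp _ _))) z))

theorem gammaStIso_ι (M : FSch.ModF 𝔛 h𝔛.1) :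
    (gammaStIso h𝔛 hV hx).hom.app M ≫ (DRing.gammaIι (JV h𝔛 V)).app ((S h𝔛 hx).obj M) =
      (S h𝔛 hx).map ((FTors.gammaTι 𝔛 h𝔛.1).app M) :=
  rfl

theorem stInj_gammaT {M : FSch.ModF 𝔛 h𝔛.1} (hM : StInj h𝔛 M) :
    StInj h𝔛 ((FTors.gammaT 𝔛 h𝔛.1).obj M) := fun V hV x hx => by
  haveI := Levels.isNoetherianRing_A h𝔛 hV
  haveI := hM V hV x hx
  haveI := LocalCoh.injective_torsionSub (JV h𝔛 V) ((S h𝔛 hx).obj M : Type u)
  exact (Module.Baer.of_equiv (gammaStEquiv h𝔛 hV hx M).symm (Module.Baer.of_injective ‹_›)).injective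

/-- `Γ'` on complexes. -/
noncomputable abbrev Γc : CochainComplex (FSch.ModF 𝔛 h𝔛.1) ℤ ⥤ CochainComplex (FSch.ModF 𝔛 h𝔛.1) ℤ :=
  (FTors.gammaT 𝔛 h𝔛.1).mapHomologicalComplex (.up ℤ)

/-- The inclusion `Γ' K ⟶ K`. -/
noncomputable def γι (K : CochainComplex (FSch.ModF 𝔛 h𝔛.1) ℤ) : (Γc h𝔛).obj K ⟶ K where
  f i := (FTors.gammaTι 𝔛 h𝔛.1).app (K.X i)
  comm' i j _ := ((FTors.gammaTι 𝔛 h𝔛.1).naturality (K.d i j)).symm

include hV in
theorem exists_pow (K : CochainComplex (FSch.ModF 𝔛 h𝔛.1) ℤ)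
    (hH : ∀ i, FTors.IsTorsF 𝔛 h𝔛.1 (K.homology i)) {f : Levels.A 𝔛 h𝔛.1 V} (hf : f ∈ JV h𝔛 V) :
    RGamma.HTors f (((S h𝔛 hx).mapHomologicalComplex (.up ℤ)).obj K) := by
  intro i a
  haveI := TorsClosure.isIso_gammaTι (hH i)
  let e := ((K.sc i).mapHomologyIso (S h𝔛 hx))
  let b : ((S h𝔛 hx).obj (K.homology i) : Type u) := e.hom a
  have hb : b ∈ DRing.torsionSub (JV h𝔛 V) ((S h𝔛 hx).obj (K.homology i) : Type u) := by
    obtain ⟨z, hz⟩ := (ConcreteCategory.bijective_of_isIso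
      ((S h𝔛 hx).map ((FTors.gammaTι 𝔛 h𝔛.1).app (K.homology i)))).2 b
    exact hz ▸ map_gammaι_mem h𝔛 hV hx _ z
  obtain ⟨n, hn⟩ := hb
  refine ⟨n, (ConcreteCategory.bijective_of_isIso e.hom).1 ?_⟩
  refine (map_smul e.hom.hom (f ^ n) a).trans ?_
  exact (hn _ (Ideal.pow_mem_pow hf n)).trans (map_zero e.hom.hom).symm

theorem good (l : List (Levels.A 𝔛 h𝔛.1 V)) (hV : IsAffineOpen V) {M : FSch.ModF 𝔛 h𝔛.1}
    (hM : StInj h𝔛 M) : RGamma.Good l ((S h𝔛 hx).obj M) :=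
  haveI := Levels.isNoetherianRing_A h𝔛 hV
  RGamma.good_of_injective l _ (hM V hV x hx)

/-- Torsion cohomology is computed by the torsion subcomplex. -/
theorem quasiIso_γι (K : CochainComplex (FSch.ModF 𝔛 h𝔛.1) ℤ) (hK : ∀ i, StInj h𝔛 (K.X i))
    (hH : ∀ i, FTors.IsTorsF 𝔛 h𝔛.1 (K.homology i)) : QuasiIso (γι h𝔛 K) := by
  refine Stalk.quasiIso _ fun y => ?_
  obtain ⟨V, hV, hy⟩ := CohCons.exists_affine (𝔛 := 𝔛) y
  refine ⟨V, hy, ?_⟩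
  haveI := Levels.isNoetherianRing_A h𝔛 hV
  obtain ⟨l, hl⟩ := RGamma.exists_ide_eq (IsNoetherian.noetherian (JV h𝔛 V))
  have h1 := RGamma.quasiIso_gamι l (((S h𝔛 hy).mapHomologicalComplex (.up ℤ)).obj K)
    (fun i => good h𝔛 hy l hV (hK i)) fun f hf => exists_pow h𝔛 hV hy K hH (hl ▸ RGamma.mem_ide hf)
  rw [hl] at h1
  let e := ((NatIso.mapHomologicalComplex (gammaStIso h𝔛 hV hy) (.up ℤ)).app K)
  have he : ((S h𝔛 hy).mapHomologicalComplex (.up ℤ)).map (γι h𝔛 K) =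
      e.hom ≫ RGamma.gamι (JV h𝔛 V) (((S h𝔛 hy).mapHomologicalComplex (.up ℤ)).obj K) :=
    HomologicalComplex.hom_ext _ _ fun i => (gammaStIso_ι h𝔛 hV hy (K.X i)).symm
  rw [he]
  haveI := h1
  exact (quasiIso_iff_comp_left e.hom _).2 h1

/-- `Γ'` preserves quasi-isomorphisms of complexes with stalkwise injective terms. -/
theorem quasiIso_Γc_map {K L : CochainComplex (FSch.ModF 𝔛 h𝔛.1) ℤ} (φ : K ⟶ L) [QuasiIso φ]
    (hK : ∀ i, StInj h𝔛 (K.X i)) (hL : ∀ i, StInj h𝔛 (L.X i)) : QuasiIso ((Γc h𝔛).map φ) := by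
  refine Stalk.quasiIso _ fun y => ?_
  obtain ⟨V, hV, hy⟩ := CohCons.exists_affine (𝔛 := 𝔛) y
  refine ⟨V, hy, ?_⟩
  haveI := Levels.isNoetherianRing_A h𝔛 hV
  obtain ⟨l, hl⟩ := RGamma.exists_ide_eq (IsNoetherian.noetherian (JV h𝔛 V))
  haveI : QuasiIso (((S h𝔛 hy).mapHomologicalComplex (.up ℤ)).map φ) := inferInstance
  have h1 := RGamma.quasiIso_gam_map l hl (((S h𝔛 hy).mapHomologicalComplex (.up ℤ)).map φ)
    (fun i => good h𝔛 hy l hV (hK i)) (fun i => good h𝔛 hy l hV (hL i))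
  let e := NatIso.mapHomologicalComplex (gammaStIso h𝔛 hV hy) (ComplexShape.up ℤ)
  have he : ((S h𝔛 hy).mapHomologicalComplex (.up ℤ)).map ((Γc h𝔛).map φ) ≫ (e.app L).hom =
      (e.app K).hom ≫ (RGamma.gam (JV h𝔛 V)).map (((S h𝔛 hy).mapHomologicalComplex (.up ℤ)).map φ) :=
    HomologicalComplex.hom_ext _ _ fun i => (gammaStIso h𝔛 hV hy).hom.naturality (φ.f i)
  refine (quasiIso_iff_comp_right _ (e.app L).hom).1 ?_
  exact he ▸ (quasiIso_iff_comp_left (e.app K).hom _).2 h1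

end Groth.Agent.H22.Gam.Good
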