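import Groth.Agent.Lib.ModSiteLoc.Top
import Mathlib.Algebra.Category.ModuleCat.ChangeOfRings
import Mathlib.Algebra.Category.ModuleCat.Abelian
import Mathlib.Algebra.Category.ModuleCat.Sheaf.Abelian
import Mathlib.Algebra.Category.Grp.AB
import Mathlib.Algebra.Homology.QuasiIso
import Mathlib.Algebra.Homology.Additive
import Groth.Agent.Lib.Modules.ToSheaf

/-!
# Stalks of modules on a ringed space, as modules over sections on a neighbourhood (helper22)
-/

set_option autoImplicit false
set_option maxHeartbeats 1000000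
set_option linter.style.haveILetI false

universe u

open CategoryTheory CategoryTheory.Limits Opposite TopologicalSpace

namespace Groth.Agent.H22.Gam.Stalk

open Groth.Agent.Lib.ModSiteLoc.Basic Groth.Agent.Lib.ModSiteLoc.Top

variable {X : TopCat.{u}} (O : CategoryTheory.Sheaf (Opens.grothendieckTopology X) CommRingCat.{u})
  {U : Opens X} {x : X} (hx : x ∈ U)

/-- The stalk at `x`, as a module over the sections on `U`. -/
noncomputable def St : _root_.ModSite.Mod O ⥤ ModuleCat.{u} (O.obj.obj (op U)) where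
  obj M := (ModuleCat.restrictScalars (gr O hx)).obj (_root_.ModSite.stalkMod (pt x) M)
  map φ := (ModuleCat.restrictScalars (gr O hx)).map (_root_.ModSite.stalkMap (pt x) φ)
  map_id M := ModuleCat.hom_ext (LinearMap.ext fun z => ConcreteCategory.congr_hom
    ((SheafOfModules.toSheaf (_root_.ModSite.ringSh O) ⋙ (pt x).sheafFiber).map_id M) z)
  map_comp φ ψ := ModuleCat.hom_ext (LinearMap.ext fun z => ConcreteCategory.congr_hom
    ((SheafOfModules.toSheaf (_root_.ModSite.ringSh O) ⋙ (pt x).sheafFiber).map_comp φ ψ) z)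

variable {O}

/-- The underlying groups are Mathlib's stalks. -/
noncomputable def forgetIso : St O hx ⋙ forget₂ (ModuleCat.{u} (O.obj.obj (op U))) AddCommGrpCat.{u} ≅
    SheafOfModules.toSheaf (_root_.ModSite.ringSh O) ⋙ (pt x).sheafFiber :=
  NatIso.ofComponents (fun _ => Iso.refl _) (fun _ => rfl)

instance : PreservesFiniteLimits (St O hx) := by
  haveI : PreservesFiniteLimits (St O hx ⋙ forget₂ _ AddCommGrpCat.{u}) :=
    preservesFiniteLimits_of_natIso (forgetIso hx).symm
  exact preservesFiniteLimits_of_reflects_of_preserves _ (forget₂ _ AddCommGrpCat.{u})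

instance : PreservesFiniteColimits (St O hx) := by
  haveI : PreservesFiniteColimits (St O hx ⋙ forget₂ _ AddCommGrpCat.{u}) :=
    preservesFiniteColimits_of_natIso (forgetIso hx).symm
  exact preservesFiniteColimits_of_reflects_of_preserves _ (forget₂ _ AddCommGrpCat.{u})

instance : (St O hx).Additive := Functor.additive_of_preserves_binary_products _

variable {M N : _root_.ModSite.Mod O}

/-- The germ of a section. -/
noncomputable def gS (M : _root_.ModSite.Mod O) {V : Opens X} (hV : x ∈ V) :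
    _root_.ModSite.sect M V →+ ((St O hx).obj M : Type u) := gm M hV

theorem gS_smul {V : Opens X} (e : V ≤ U) (hV : x ∈ V) (a : O.obj.obj (op U))
    (s : _root_.ModSite.sect M V) :
    a • gS hx M hV s = gS hx M hV (rr O (homOfLE e) a • s) := by
  refine Eq.trans ?_ (gm_smul hV _ s).symm
  exact congrArg (· • gm M hV s) (gr_rr (homOfLE e) hV hx a).symm

theorem map_gS (φ : M ⟶ N) {V : Opens X} (hV : x ∈ V) (s : _root_.ModSite.sect M V) :
    (St O hx).map φ (gS hx M hV s) = gS hx N hV (ap φ s) :=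
  gm_ap φ hV s

theorem exists_gS (z : ((St O hx).obj M : Type u)) :
    ∃ (V : Opens X) (_ : V ≤ U) (hV : x ∈ V) (s : _root_.ModSite.sect M V), gS hx M hV s = z := by
  obtain ⟨V, e, hV, s, hs⟩ := exists_gm (M := M) hx (fun _ : Unit => z)
  exact ⟨V, e, hV, s (), hs ()⟩

theorem gS_rs {V W : Opens X} (e : W ≤ V) (hW : x ∈ W) (hV : x ∈ V) (s : _root_.ModSite.sect M V) :
    gS hx M hW (rs M (homOfLE e) s) = gS hx M hV s :=
  gm_rs _ hW hV s

theorem exists_eq_zero {V : Opens X} (hV : x ∈ V) (s : _root_.ModSite.sect M V)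
    (h : gS hx M hV s = 0) : ∃ (W : Opens X) (e : W ≤ V), x ∈ W ∧ rs M (homOfLE e) s = 0 := by
  obtain ⟨W, e, hW, he⟩ := exists_rs_eq hV (fun _ : Unit => s) (fun _ => 0)
    (fun _ => h.trans (map_zero (gm M hV)).symm)
  exact ⟨W, e, hW, (he ()).trans (map_zero _)⟩

/-- A module whose stalks vanish is zero. -/
theorem isZero (M : _root_.ModSite.Mod O)
    (h : ∀ y : X, ∃ (V : Opens X) (hy : y ∈ V), IsZero ((St O hy).obj M)) : IsZero M := by
  rw [IsZero.iff_id_eq_zero]
  apply SheafOfModules.hom_ext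
  refine PresheafOfModules.hom_ext fun W => ModuleCat.hom_ext (LinearMap.ext fun s => ?_)
  show (s : _root_.ModSite.sect M W.unop) = 0
  refine TopCat.Presheaf.section_ext (C := AddCommGrpCat.{u}) (X := X)
    ((SheafOfModules.toSheaf (_root_.ModSite.ringSh O)).obj M) W.unop s 0 fun z hz => ?_
  obtain ⟨V, hy, h0⟩ := h z
  haveI := ModuleCat.subsingleton_of_isZero h0
  obtain ⟨W', e, hW', he⟩ := exists_eq_zero hy hz s (Subsingleton.elim _ _)
  exact TopCat.Presheaf.germ_ext (C := AddCommGrpCat.{u}) (X := X)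
    ((SheafOfModules.toSheaf (_root_.ModSite.ringSh O)).obj M).obj W' hW' (homOfLE e) (homOfLE e)
    (he.trans (map_zero _).symm)

/-- Isomorphisms are detected on stalks. -/
theorem isIso (φ : M ⟶ N)
    (h : ∀ y : X, ∃ (V : Opens X) (hy : y ∈ V), IsIso ((St O hy).map φ)) : IsIso φ := by
  haveI : Mono φ := Preadditive.mono_of_isZero_kernel φ (isZero _ fun y => by
    obtain ⟨V, hy, hi⟩ := h y
    exact ⟨V, hy, (isZero_kernel_of_mono ((St O hy).map φ)).of_iso (PreservesKernel.iso (St O hy) φ)⟩)
  haveI : Epi φ := Preadditive.epi_of_isZero_cokernel φ (isZero _ fun y => by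
    obtain ⟨V, hy, hi⟩ := h y
    exact ⟨V, hy, (isZero_cokernel_of_epi ((St O hy).map φ)).of_iso (PreservesCokernel.iso (St O hy) φ)⟩)
  exact isIso_of_mono_of_epi φ

/-- Quasi-isomorphisms are detected on stalks. -/
theorem quasiIso {K L : CochainComplex (_root_.ModSite.Mod O) ℤ} (φ : K ⟶ L)
    (h : ∀ y : X, ∃ (V : Opens X) (hy : y ∈ V),
      QuasiIso (((St O hy).mapHomologicalComplex (.up ℤ)).map φ)) : QuasiIso φ := by
  refine ⟨fun i => ?_⟩
  rw [quasiIsoAt_iff' φ (i - 1) i (i + 1) (by simp) (by simp), ShortComplex.quasiIso_iff]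
  refine isIso _ fun y => ?_
  obtain ⟨V, hy, hq⟩ := h y
  refine ⟨V, hy, ?_⟩
  let f := (HomologicalComplex.shortComplexFunctor' (_root_.ModSite.Mod O) (ComplexShape.up ℤ)
    (i - 1) i (i + 1)).map φ
  haveI : IsIso (ShortComplex.homologyMap ((St O hy).mapShortComplex.map f)) :=
    (ShortComplex.quasiIso_iff _).1
      ((quasiIsoAt_iff' _ (i - 1) i (i + 1) (by simp) (by simp)).1 (hq.quasiIsoAt i))
  have e := ShortComplex.mapHomologyIso_hom_naturality f (St O hy)
  change IsIso ((St O hy).map (ShortComplex.homologyMap f))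
  rw [← cancel_epi (ShortComplex.mapHomologyIso _ (St O hy)).inv, Iso.inv_hom_id_assoc] at e
  rw [← e]
  exact IsIso.comp_isIso' inferInstance (IsIso.comp_isIso' ‹_› inferInstance)

end Groth.Agent.H22.Gam.Stalk
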