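import Groth.Agent.H22.Gam.Extend
import Groth.Agent.H22.Gam.Stalk
import Groth.Agent.H30.FSch.CohExact
import Groth.Agent.H30.FSch.TorsCoh
import Mathlib.RingTheory.Noetherian.Basic
import Mathlib.Algebra.Module.Injective

/-!
# Stalks of injective modules on formal schemes are injective over affine sections (helper22)
-/

set_option autoImplicit false
set_option maxHeartbeats 1000000
set_option linter.style.haveILetI false

universe u

open CategoryTheory CategoryTheory.Limits AlgebraicGeometry TopologicalSpace Opposite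
open Groth.Agent.H30 Groth.Agent.H30.RealLimSec Groth.Agent.Lib.ModSiteLoc.Basic

namespace Groth.Agent.H22.Gam.InjStalk

theorem mem_inf {Z : Type u} [TopologicalSpace Z] {ι : Type*} (s : Finset ι) (V : ι → Opens Z) (z : Z)
    (h : ∀ i ∈ s, z ∈ V i) : z ∈ s.inf V := by
  classical
  induction s using Finset.induction with
  | empty => exact trivial
  | insert i s hi ih =>
    rw [Finset.inf_insert]
    exact ⟨h i (Finset.mem_insert_self i s), ih fun j hj => h j (Finset.mem_insert_of_mem hj)⟩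

variable {𝔛 : FSch.Sys.{u}} (h𝔛 : 𝔛.IsLocNoethFormal) {V : (𝔛.X 0).Opens} (hV : IsAffineOpen V)

include hV in
/-- Relations on an affine open respected by a family of sections are respected on smaller opens. -/
theorem sum_eq_zero (M : FSch.ModF 𝔛 h𝔛.1) {n : ℕ} (r : Fin n → Levels.A 𝔛 h𝔛.1 V)
    (t : Fin n → sec h𝔛.1 M V)
    (hrt : ∀ a : Fin n → Levels.A 𝔛 h𝔛.1 V, ∑ i, a i * r i = 0 → ∑ i, a i • t i = 0)
    {W : (𝔛.X 0).Opens} (e : W ≤ V) (c : Fin n → Levels.A 𝔛 h𝔛.1 W)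
    (hc : ∑ i, c i * CohPres.resA h𝔛.1 e (r i) = 0) :
    ∑ i, c i • CohPres.resF h𝔛.1 M e (t i) = 0 := by
  refine TorsCoh.eq_zero_of_locally M _ fun z hz => ?_
  obtain ⟨W', hW', hzW', e'⟩ := Opens.isBasis_iff_nbhd.1 (CohPres.isBasis_affine (𝔛.X 0)) hz
  refine ⟨W', e', hzW', ?_⟩
  haveI := Levels.isNoetherianRing_A h𝔛 hV
  let φ : (Fin n → Levels.A 𝔛 h𝔛.1 V) →ₗ[Levels.A 𝔛 h𝔛.1 V] Levels.A 𝔛 h𝔛.1 V :=
    Fintype.linearCombination _ r
  obtain ⟨m, R, hR⟩ := Submodule.fg_iff_exists_fin_generating_family.1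
    (IsNoetherian.noetherian (LinearMap.ker φ))
  have hR0 : ∀ j, ∑ i, R j i * r i = 0 := fun j =>
    (Fintype.linearCombination_apply _ r (R j)).symm.trans
      (LinearMap.mem_ker.1 (hR ▸ Submodule.subset_span ⟨j, rfl⟩))
  obtain ⟨d, hd⟩ := CohExact.rel_of_le h𝔛 (CohCons.isCohF_unit (h := h𝔛.1)) hV
    (F := FSch.unitF 𝔛 h𝔛.1) r R (fun a ha => by
      have : a ∈ LinearMap.ker φ :=
        LinearMap.mem_ker.2 ((Fintype.linearCombination_apply _ r a).trans ha)
      rw [← hR, Submodule.mem_span_range_iff_exists_fun] at this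
      obtain ⟨d, hd⟩ := this
      exact ⟨d, fun i => by rw [← hd]; simp⟩)
    hW' (e'.trans e) (fun i => CohPres.resA h𝔛.1 e' (c i)) (by
      have h1 := congrArg (CohPres.resA h𝔛.1 e') hc
      rw [map_zero, map_sum] at h1
      refine Eq.trans ?_ h1
      exact Finset.sum_congr rfl fun i _ => ((map_mul _ _ _).trans
        (congrArg (CohPres.resA h𝔛.1 e' (c i) * ·)
        (rr_rr (homOfLE e) (homOfLE e') (r i)))).symm)
  have h2 : ∀ j, ∑ i, CohPres.resA h𝔛.1 (e'.trans e) (R j i) •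
      CohPres.resF h𝔛.1 M (e'.trans e) (t i) = 0 := fun j => by
    have h1 := congrArg (CohPres.resF h𝔛.1 M (e'.trans e)) (hrt (R j) (hR0 j))
    rw [map_zero, map_sum] at h1
    simpa only [CohPres.resF_smul] using h1
  rw [map_sum]
  simp only [CohPres.resF_smul, TorsCoh.resF_resF, hd, Finset.sum_smul]
  rw [Finset.sum_comm]
  refine Finset.sum_eq_zero fun j _ => ?_
  simp only [mul_smul, ← Finset.smul_sum, h2, smul_zero]

include hV in
/-- Consistent linear systems on an affine open can be solved in injective modules. -/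
theorem exists_solution (I : FSch.ModF 𝔛 h𝔛.1) [Injective I] {n : ℕ}
    (r : Fin n → Levels.A 𝔛 h𝔛.1 V) (t : Fin n → sec h𝔛.1 I V)
    (hrt : ∀ a : Fin n → Levels.A 𝔛 h𝔛.1 V, ∑ i, a i * r i = 0 → ∑ i, a i • t i = 0) :
    ∃ s : sec h𝔛.1 I V, ∀ i, r i • s = t i :=
  Extend.exists_solution (O := 𝔛.Osh h𝔛.1) I (X := V) (fun _ => inferInstance) r t
    fun {W} g c hc => sum_eq_zero h𝔛 hV I r t hrt (leOfHom g) c hc

include hV in
/-- Stalks of injective modules are injective. -/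
theorem injective_St (I : FSch.ModF 𝔛 h𝔛.1) [Injective I] {x : 𝔛.X 0} (hx : x ∈ V) :
    Module.Injective (Levels.A 𝔛 h𝔛.1 V) ((Stalk.St (𝔛.Osh h𝔛.1) hx).obj I) := by
  haveI := Levels.isNoetherianRing_A h𝔛 hV
  refine Module.Baer.injective fun 𝔞 g => ?_
  obtain ⟨n, a, ha⟩ := Submodule.fg_iff_exists_fin_generating_family.1 (IsNoetherian.noetherian 𝔞)
  have ham : ∀ i, a i ∈ 𝔞 := fun i => ha ▸ Submodule.subset_span ⟨i, rfl⟩
  choose Vi ei hxi si hsi using fun i => Stalk.exists_gS hx (g ⟨a i, ham i⟩)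
  let W0 := V ⊓ Finset.univ.inf Vi
  have hxW0 : x ∈ W0 := ⟨hx, mem_inf _ _ x fun i _ => hxi i⟩
  have hW0i : ∀ i, W0 ≤ Vi i := fun i => inf_le_right.trans (Finset.inf_le (Finset.mem_univ i))
  let s0 : Fin n → sec h𝔛.1 I W0 := fun i => rs I (homOfLE (hW0i i)) (si i)
  let φ : (Fin n → Levels.A 𝔛 h𝔛.1 V) →ₗ[Levels.A 𝔛 h𝔛.1 V] Levels.A 𝔛 h𝔛.1 V :=
    Fintype.linearCombination _ a
  obtain ⟨m, R, hR⟩ := Submodule.fg_iff_exists_fin_generating_family.1
    (IsNoetherian.noetherian (LinearMap.ker φ))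
  let ρ : Fin m → sec h𝔛.1 I W0 := fun j =>
    ∑ i, CohPres.resA h𝔛.1 (inf_le_left (b := Finset.univ.inf Vi)) (R j i) • s0 i
  have hρ : ∀ j, Stalk.gS hx I hxW0 (ρ j) = 0 := fun j => by
    refine (map_sum _ _ _).trans ?_
    have h0 : ∑ i, R j i • (⟨a i, ham i⟩ : 𝔞) = 0 := Subtype.ext (by
      rw [Submodule.coe_sum]
      exact (Fintype.linearCombination_apply _ a (R j)).symm.trans
        (LinearMap.mem_ker.1 (hR ▸ Submodule.subset_span ⟨j, rfl⟩)))
    have h1 := congrArg g h0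
    rw [map_sum, map_zero] at h1
    refine Eq.trans (Finset.sum_congr rfl fun i _ => ?_) h1
    refine Eq.trans ?_ (map_smul g (R j i) _).symm
    refine (Stalk.gS_smul hx inf_le_left hxW0 (R j i) (s0 i)).symm.trans ?_
    exact congrArg (R j i • ·) ((Stalk.gS_rs hx (hW0i i) hxW0 (hxi i) (si i)).trans (hsi i))
  choose Wj eWj hxWj hρj using fun j => Stalk.exists_eq_zero hx hxW0 (ρ j) (hρ j)
  obtain ⟨W, hW, hxW, eW⟩ := Opens.isBasis_iff_nbhd.1 (CohPres.isBasis_affine (𝔛.X 0))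
    (show x ∈ W0 ⊓ Finset.univ.inf Wj from
      ⟨hxW0, mem_inf _ _ x fun j _ => hxWj j⟩)
  have eW0 : W ≤ W0 := eW.trans inf_le_left
  have eWV : W ≤ V := eW0.trans inf_le_left
  let r : Fin n → Levels.A 𝔛 h𝔛.1 W := fun i => CohPres.resA h𝔛.1 eWV (a i)
  let t : Fin n → sec h𝔛.1 I W := fun i => CohPres.resF h𝔛.1 I eW0 (s0 i)
  obtain ⟨s, hs⟩ := exists_solution h𝔛 hW I r t fun c hc => by
    obtain ⟨d, hd⟩ := CohExact.rel_of_le h𝔛 (CohCons.isCohF_unit (h := h𝔛.1)) hV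
      (F := FSch.unitF 𝔛 h𝔛.1) a R (fun b hb => by
        have : b ∈ LinearMap.ker φ :=
          LinearMap.mem_ker.2 ((Fintype.linearCombination_apply _ a b).trans hb)
        rw [← hR, Submodule.mem_span_range_iff_exists_fun] at this
        obtain ⟨d, hd⟩ := this
        exact ⟨d, fun i => by rw [← hd]; simp⟩)
      hW eWV c hc
    have h2 : ∀ j, ∑ i, CohPres.resA h𝔛.1 eWV (R j i) • t i = 0 := fun j => by
      have e : W ≤ Wj j := eW.trans (inf_le_right.trans (Finset.inf_le (Finset.mem_univ j)))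
      have h1 : CohPres.resF h𝔛.1 I eW0 (ρ j) = 0 :=
        (TorsCoh.resF_resF I (eWj j) e (ρ j)).symm.trans
          ((congrArg (CohPres.resF h𝔛.1 I e) (hρj j)).trans (map_zero _))
      rw [map_sum] at h1
      refine Eq.trans (Finset.sum_congr rfl fun i _ => ?_) h1
      rw [CohPres.resF_smul]
      exact congrArg (· • t i) (rr_rr (homOfLE inf_le_left) (homOfLE eW0) (R j i)).symm
    simp only [hd, Finset.sum_smul]
    rw [Finset.sum_comm]
    refine Finset.sum_eq_zero fun j _ => ?_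
    simp only [mul_smul, ← Finset.smul_sum, h2, smul_zero]
  let σ := Stalk.gS hx I hxW s
  refine ⟨LinearMap.toSpanSingleton _ _ σ, fun b hb => ?_⟩
  show b • σ = g ⟨b, hb⟩
  obtain ⟨c, hc⟩ := Submodule.mem_span_range_iff_exists_fun _ |>.1 (ha.ge hb)
  have hb' : (⟨b, hb⟩ : 𝔞) = ∑ i, c i • ⟨a i, ham i⟩ := Subtype.ext (by
    rw [Submodule.coe_sum]; exact hc.symm)
  rw [hb', map_sum, ← hc, Finset.sum_smul]
  refine Finset.sum_congr rfl fun i _ => ?_
  rw [map_smul, smul_eq_mul, mul_smul]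
  refine congrArg (c i • ·) ?_
  rw [← hsi i]
  refine (Stalk.gS_smul hx eWV hxW (a i) s).trans ?_
  refine (congrArg (Stalk.gS hx I hxW) (hs i)).trans ?_
  exact (Stalk.gS_rs hx eW0 hxW hxW0 _).trans (Stalk.gS_rs hx (hW0i i) hxW0 (hxi i) (si i))

end Groth.Agent.H22.Gam.InjStalk
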