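import Groth.Agent.H30.FSch.AcycPush
import Groth.Agent.H22.Gam.Stalk
import Groth.Prelude.Def_FTors
import Groth.Agent.Lib.WayOut.Scheme
import Groth.Agent.H30.FSch.HTower
import Groth.Agent.Lib.RlimTrunc.ModPush

/-!
# Sections of K-injective complexes with acyclic cohomology sheaves (helper22)
-/

set_option autoImplicit false
set_option maxHeartbeats 1000000
set_option linter.style.haveILetI false

universe u

open CategoryTheory CategoryTheory.Limits TopologicalSpace Opposite CategoryTheory.Abelian
open Groth.Agent.Lib Groth.Agent.Lib.ZarCoh.Basic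
open Groth.Agent.Lib.SpecSeq.RightHom Groth.Agent.Lib.SpecSeq.AcyclicComplex
open Groth.Agent.Lib.WayOut.Bounded Groth.Agent.Lib.WayOut.Holim
open Groth.Agent.H30

attribute [local instance] HasDerivedCategory.standard DerivedOX.Exists.isLeftAdjoint_Qh

namespace Groth.Agent.H22.Gam.SectH

variable {T : TopCat.{u}} {O : Sheaf (Opens.grothendieckTopology T) CommRingCat.{u}}

/-- Sections over an open, as abelian groups. -/
noncomputable abbrev sect (W : Opens T) : _root_.ModSite.Mod O ⥤ AddCommGrpCat.{u} :=
  SheafOfModules.evaluation (_root_.ModSite.ringSh O) (op W) ⋙ forget₂ _ AddCommGrpCat.{u}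

instance sect_additive (W : Opens T) : (sect (O := O) W).Additive where
  map_add := by
    intros
    rfl

instance sect_preservesLimits {D : Type} [SmallCategory D] (W : Opens T) :
    PreservesLimitsOfShape D (sect (O := O) W) :=
  @comp_preservesLimitsOfShape _ _ _ _ _ _ _ _ (SheafOfModules.evaluation (_root_.ModSite.ringSh O) (op W))
    (forget₂ _ AddCommGrpCat.{u})
    (SheafOfModules.evaluationPreservesLimitsOfShape.{u} D (_root_.ModSite.ringSh O) (op W)) inferInstance

instance sect_preservesFiniteLimits (W : Opens T) : PreservesFiniteLimits (sect (O := O) W) where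
  preservesFiniteLimits _ _ _ := inferInstance

variable (B : Set (Opens T))

/-- Acyclicity on the opens of `B`, as a property of objects. -/
abbrev AcyP : ObjectProperty (_root_.ModSite.Mod O) := AcycPush.Acy B

instance : (AcyP (O := O) B).IsClosedUnderIsomorphisms where
  of_iso {M N} e hM V hV q := by
    haveI := hM V hV q
    exact (HTower.Gen.isoEquiv (Zs.obj V)
      ((SheafOfModules.toSheaf (_root_.ModSite.ringSh O)).mapIso e) (q + 1)).symm.toEquiv.subsingleton

variable [EnoughInjectives (_root_.ModSite.Mod O)]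

theorem acy_injSeq (M : _root_.ModSite.Mod O) (hM : AcycPush.Acy B M) :
    AcycPush.Acy B (cokernel (Injective.ι M)) :=
  AcycPush.acy_X₃ B (ShortComplex.mk (Injective.ι M) (cokernel.π _) (cokernel.condition _))
    { exact := ShortComplex.exact_cokernel (Injective.ι M) } hM
    (AcycPush.acy_injective B (Injective.under M))

instance : (AcyP (O := O) B).ContainsZero := by
  obtain ⟨Z, hZ⟩ := (inferInstance : HasZeroObject (_root_.ModSite.Mod O)).zero
  haveI : Injective Z := hZ.injective
  exact ⟨⟨Z, hZ, AcycPush.acy_injective B Z⟩⟩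

theorem surjective_sect {W : Opens T} (hW : W ∈ B) {S : ShortComplex (_root_.ModSite.Mod O)}
    (hS : S.ShortExact) (h : AcycPush.Acy B S.X₁) : Function.Surjective ((sect W).map S.g) := fun q => by
  obtain ⟨a, ha⟩ := SiteCoh.Acyclic.surjective_app_of_subsingleton
    (hS.map_of_exact (SheafOfModules.toSheaf (_root_.ModSite.ringSh O))) (h W hW 0) q
  exact ⟨a, ha⟩

theorem isZero_RS_one {W : Opens T} (hW : W ∈ B) (M : _root_.ModSite.Mod O) (hM : AcycPush.Acy B M) :
    IsZero (RS (sect W) 1 M) := by
  let S := ShortComplex.mk (Injective.ι M) (cokernel.π _) (cokernel.condition _)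
  have hS : S.ShortExact := { exact := ShortComplex.exact_cokernel (Injective.ι M) }
  haveI : Injective S.X₂ := inferInstanceAs (Injective (Injective.under M))
  have hI : ∀ k : ℤ, 0 < k → IsZero (RS (sect W) k S.X₂) := acyc_injective (sect W) S.X₂
  have hex := (RH0 (sect W)).homologySequence_exact₁ _ hS.singleTriangle_distinguished (1 - 1) 1 (by lia)
  haveI : Epi ((sect W).map S.g) :=
    (AddCommGrpCat.epi_iff_surjective _).2 (surjective_sect B hW hS hM)
  let Φ := (sect (O := O) W).mapHomologicalComplex (.up ℤ) ⋙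
    HomologicalComplex.homologyFunctor AddCommGrpCat.{u} (.up ℤ) 0
  let G : sect (O := O) W ≅ (CochainComplex.singleFunctor (_root_.ModSite.Mod O) 0) ⋙ Φ :=
    (sect W).rightUnitor.symm ≪≫
      Functor.isoWhiskerLeft (sect W) (HomologicalComplex.homologyFunctorSingleIso _ (.up ℤ) 0).symm ≪≫
      (Functor.associator _ _ _).symm ≪≫
      Functor.isoWhiskerRight (HomologicalComplex.singleMapHomologicalComplex (sect W) (.up ℤ) 0).symm _ ≪≫
      Functor.associator _ _ _
  have hΦ : Epi (Φ.map ((CochainComplex.singleFunctor (_root_.ModSite.Mod O) 0).map S.g)) := by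
    rw [show Φ.map ((CochainComplex.singleFunctor (_root_.ModSite.Mod O) 0).map S.g) =
      G.inv.app S.X₂ ≫ (sect W).map S.g ≫ G.hom.app S.X₃ from (NatIso.naturality_1 G S.g).symm]
    infer_instance
  haveI := isIso_cmp_single (sect W) S.X₂
  haveI := isIso_cmp_single (sect W) S.X₃
  have e := (cmp (sect (O := O) W) 0).naturality
    ((CochainComplex.singleFunctor (_root_.ModSite.Mod O) 0).map S.g)
  have hR : Epi ((DerivedCategory.Q ⋙ RH (sect W) 0).map
      ((CochainComplex.singleFunctor (_root_.ModSite.Mod O) 0).map S.g)) := by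
    rw [(IsIso.eq_inv_comp _).2 e.symm]
    haveI := hΦ
    exact epi_comp' inferInstance (epi_comp' hΦ inferInstance)
  have h0 : (RH0 (sect W)).homologySequenceδ hS.singleTriangle (1 - 1) 1 (by lia) = 0 := by
    have hz := (RH0 (sect W)).comp_homologySequenceδ _ hS.singleTriangle_distinguished 0 1 (by lia)
    exact (@cancel_epi _ _ _ _ _ _ hR _ _).1 (hz.trans comp_zero.symm)
  exact hex.isZero_X₂ h0 ((hI 1 one_pos).eq_of_tgt _ _)

theorem van {W : Opens T} (hW : W ∈ B) : Van (sect (O := O) W) (AcyP B) 1 := fun M hM n hn => by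
  obtain ⟨k, rfl⟩ : ∃ k : ℕ, n = k + 1 := ⟨(n - 1).toNat, by lia⟩
  induction k generalizing M with
  | zero => simpa using isZero_RS_one B hW M hM
  | succ k ih =>
    let S := ShortComplex.mk (Injective.ι M) (cokernel.π _) (cokernel.condition _)
    have hS : S.ShortExact := { exact := ShortComplex.exact_cokernel (Injective.ι M) }
    haveI : Injective S.X₂ := inferInstanceAs (Injective (Injective.under M))
    refine ((RH0 (sect W)).homologySequence_exact₁ _ hS.singleTriangle_distinguished
      ((k : ℤ) + 1) _ (by lia)).isZero_X₂ (IsZero.eq_of_src ?_ _ _)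
      ((acyc_injective (sect W) S.X₂ _ (by lia)).eq_of_tgt _ _)
    exact ih S.X₃ (acy_injSeq B M hM) (by lia)

theorem exact_of_sect (hB : Opens.IsBasis B) (S : ShortComplex (_root_.ModSite.Mod O))
    (h : ∀ W : B, (S.map (sect W.1)).Exact) : S.Exact := by
  rw [ShortComplex.exact_iff_isZero_homology]
  refine Stalk.isZero _ fun y => ?_
  refine ⟨⊤, trivial, ((ShortComplex.exact_iff_isZero_homology _).1 ?_).of_iso
    (S.mapHomologyIso (Stalk.St O (U := ⊤) (x := y) trivial)).symm⟩
  rw [ShortComplex.moduleCat_exact_iff]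
  intro z hz
  obtain ⟨V, -, hV, s, rfl⟩ := Stalk.exists_gS (U := (⊤ : Opens T)) (x := y) trivial z
  obtain ⟨V', e, hV', h0⟩ := Stalk.exists_eq_zero (U := (⊤ : Opens T)) (x := y) trivial hV
    (ModSiteLoc.Basic.ap S.g s) ((Stalk.map_gS _ S.g hV s).symm.trans hz)
  obtain ⟨W, hW, hyW, hWV⟩ := Opens.isBasis_iff_nbhd.1 hB hV'
  let s' : _root_.ModSite.sect S.X₂ W := ModSiteLoc.Basic.rs S.X₂ (homOfLE (hWV.trans e)) s
  have hs' : ModSiteLoc.Basic.ap S.g s' = 0 := by
    have h1 : ModSiteLoc.Basic.ap S.g s' =
        FTors.res S.X₃ (homOfLE (hWV.trans e)) (ModSiteLoc.Basic.ap S.g s) :=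
      (FTors.res_hom S.X₂ S.g (homOfLE (hWV.trans e)) s).symm
    rw [h1, show homOfLE (hWV.trans e) = homOfLE hWV ≫ homOfLE e from Subsingleton.elim _ _, FTors.res_comp]
    exact (congrArg (FTors.res S.X₃ (homOfLE hWV)) h0).trans (FTors.res_zero _ _)
  obtain ⟨t, ht⟩ := (ShortComplex.ab_exact_iff _).1 (h ⟨W, hW⟩) s' hs'
  refine ⟨Stalk.gS (U := (⊤ : Opens T)) trivial S.X₁ hyW t, ?_⟩
  refine (Stalk.map_gS _ S.f hyW t).trans ?_
  exact (congrArg (Stalk.gS (U := (⊤ : Opens T)) trivial S.X₂ hyW) (show ModSiteLoc.Basic.ap S.f t = s' from ht)).trans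
    (Stalk.gS_rs _ (hWV.trans e) hyW hV s)

variable {B} (hB : Opens.IsBasis B)

/-- The detecting family. -/
noncomputable def detects : Detects.{u + 1, u, u + 1, u, u} (AcyP (O := O) B) where
  ι := B
  Φ W := sect W.1
  additive _ := inferInstance
  preservesFiniteLimits _ := inferInstance
  preservesProducts _ := inferInstance
  van W := van B W.2
  detect := exact_of_sect B hB

variable (K : CochainComplex (_root_.ModSite.Mod O) ℤ) {W : Opens T}

/-- Cocycles over `W` as sections of the sheaf of cycles. -/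
theorem exists_cycle (i : ℤ) (s : _root_.ModSite.sect (K.X i) W)
    (hs : ModSiteLoc.Basic.ap (K.d i (i + 1)) s = 0) :
    ∃ z : _root_.ModSite.sect (K.cycles i) W, ModSiteLoc.Basic.ap (K.iCycles i) z = s := by
  let S := ShortComplex.mk (K.iCycles i) (K.d i (i + 1)) (K.iCycles_d i (i + 1))
  have hS : S.Exact := ShortComplex.exact_of_f_is_kernel _ (K.cyclesIsKernel i (i + 1) (by simp))
  haveI : Mono S.f := inferInstanceAs (Mono (K.iCycles i))
  haveI : (sect (O := O) W).PreservesZeroMorphisms := inferInstance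
  exact (ShortComplex.ab_exact_iff _).1 (hS.map_of_mono_of_preservesKernel (sect W) inferInstance inferInstance) s hs

include hB in
/-- The truncation map computes sections of cohomology. -/
theorem exists_trunc (hW : W ∈ B) [K.IsKInjective] (hK : ∀ j, AcycPush.Acy B (K.homology j)) (i : ℤ) :
    ∃ (J : CochainComplex (_root_.ModSite.Mod O) ℤ) (π : K ⟶ J),
      (∀ n, n < i → IsZero (J.X n)) ∧ IsIso (HomologicalComplex.homologyMap π i) ∧
        IsIso (HomologicalComplex.homologyMap (((sect W).mapHomologicalComplex (.up ℤ)).map π) i) := by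
  let P := AcyP (O := O) B
  let Y := DerivedCategory.Q.obj K
  have hY : HasP P Y := fun j => (P.prop_iff_of_iso
    ((DerivedCategory.homologyFunctorFactors _ j).app K)).2 (hK j)
  let Z := (DerivedCategory.TStructure.t.truncGE i).obj Y
  haveI : Z.IsGE i := (inferInstance : DerivedCategory.TStructure.t.IsGE Z i)
  obtain ⟨J₀, hJ₀, ⟨e⟩⟩ := Z.exists_iso_Q_obj_of_isGE i
  obtain ⟨J, ρ, hρ, hJ, hJ'⟩ := CochainComplex.Plus.modelCategoryQuillen.exists_quasiIso_injective J₀ i
  haveI := isKInjective_of_isStrictlyGE J i hJ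
  haveI : IsIso (DerivedCategory.Q.map ρ) := inferInstance
  let t : Y ⟶ DerivedCategory.Q.obj J :=
    (DerivedCategory.TStructure.t.truncGEπ i).app Y ≫ e.hom ≫ DerivedCategory.Q.map ρ
  obtain ⟨g, hg⟩ := (CochainComplex.IsKInjective.Qh_map_bijective _ J).2
    ((DerivedCategory.quotientCompQhIso _).hom.app K ≫ t ≫ (DerivedCategory.quotientCompQhIso _).inv.app J)
  obtain ⟨π, rfl⟩ := (HomotopyCategory.quotient _ _).map_surjective g
  have hπ : DerivedCategory.Q.map π = t := by
    have h1 := (DerivedCategory.quotientCompQhIso (_root_.ModSite.Mod O)).hom.naturality π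
    rw [Functor.comp_map, hg] at h1
    simp only [Category.assoc, Iso.inv_hom_id_app, Category.comp_id] at h1
    exact ((cancel_epi _).1 h1).symm
  have hT := DerivedCategory.TStructure.t.triangleLTGE_distinguished i Y
  refine ⟨J, π, fun n hn => CochainComplex.isZero_of_isStrictlyGE J i n hn, ?_, ?_⟩
  · haveI : IsIso ((DerivedCategory.homologyFunctor _ i).map ((DerivedCategory.TStructure.t.truncGEπ i).app Y)) :=
      isIso_homologyMap_truncGEπ Y i i le_rfl
    haveI : IsIso ((DerivedCategory.homologyFunctor _ i).map (DerivedCategory.Q.map π)) := by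
      rw [hπ]
      simp only [t, Functor.map_comp]
      infer_instance
    exact (NatIso.isIso_map_iff (DerivedCategory.homologyFunctorFactors _ i) π).1 this
  · haveI : ((DerivedCategory.TStructure.t.truncLT i).obj Y).IsLE (i - 1) :=
      (inferInstance : DerivedCategory.TStructure.t.IsLE ((DerivedCategory.TStructure.t.truncLT i).obj Y) (i - 1))
    have h1 : HasP P ((DerivedCategory.TStructure.t.truncLT i).obj Y) := fun j => by
      by_cases hj : j < i
      · exact (P.prop_iff_of_iso (@asIso _ _ _ _ _ (@DerCat.TStruct.isIso_homologyMap_mor₁ _ _ _ _ _ hT i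
          (inferInstance : DerivedCategory.TStructure.t.IsGE Z i) j hj))).2 (hY j)
      · exact P.prop_of_isZero (DerivedCategory.isZero_of_isLE _ (i - 1) j (by lia))
    have z0 := isZero_RH (detects hB) (sect (O := O) W) (van B hW) _ h1 (i - 1) i (by lia)
    have z1 := isZero_RH (detects hB) (sect (O := O) W) (van B hW) _ h1 (i - 1) (i + 1) (by lia)
    haveI : IsIso ((RH (sect (O := O) W) i).map ((DerivedCategory.TStructure.t.truncGEπ i).app Y)) := by
      haveI : Mono ((RH (sect (O := O) W) i).map ((DerivedCategory.TStructure.t.truncGEπ i).app Y)) :=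
        ((RH0 (sect (O := O) W)).homologySequence_exact₂ _ hT i).mono_g (z0.eq_of_src _ _)
      haveI : Epi ((RH (sect (O := O) W) i).map ((DerivedCategory.TStructure.t.truncGEπ i).app Y)) :=
        ((RH0 (sect (O := O) W)).homologySequence_exact₃ _ hT i (i + 1) rfl).epi_f (z1.eq_of_tgt _ _)
      exact isIso_of_mono_of_epi _
    haveI : IsIso ((RH (sect (O := O) W) i).map (DerivedCategory.Q.map π)) := by
      rw [hπ]
      simp only [t, Functor.map_comp]
      infer_instance
    haveI := isIso_cmp_of_isKInjective (sect (O := O) W) i K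
    haveI := isIso_cmp_of_isKInjective (sect (O := O) W) i J
    have hn := (cmp (sect (O := O) W) i).naturality π
    haveI : IsIso (((sect (O := O) W).mapHomologicalComplex (.up ℤ) ⋙
        HomologicalComplex.homologyFunctor AddCommGrpCat.{u} (.up ℤ) i).map π ≫ (cmp (sect W) i).app J) := by
      rw [hn]
      exact IsIso.comp_isIso' inferInstance ‹_›
    exact @IsIso.of_isIso_comp_right _ _ _ _ _ _ ((cmp (sect (O := O) W) i).app J)
      (isIso_cmp_of_isKInjective (sect (O := O) W) i J) this

end Groth.Agent.H22.Gam.SectH
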