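import Groth.Agent.H22.Gam.ZeroExtOps
import Groth.Agent.H22.Gam.SectH
import Groth.Agent.H30.FSch.AffAcyclic
import Groth.Agent.Lib.DR.DComp.Module
import Groth.Agent.Lib.Adic.Complete
import Mathlib.Algebra.Homology.ConcreteCategory

/-!
# Complexes on which a topologically nilpotent function is invertible map trivially to complexes
with coherent cohomology (helper22)
-/

set_option autoImplicit false
set_option maxHeartbeats 1000000
set_option linter.style.haveILetI false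

universe u

open CategoryTheory CategoryTheory.Limits AlgebraicGeometry TopologicalSpace Opposite
open Groth.Agent.H30 Groth.Agent.H30.RealLimSec Groth.Agent.Lib

attribute [local instance] HasDerivedCategory.standard DerivedOX.Exists.isLeftAdjoint_Qh

namespace Groth.Agent.H22.Gam.LocalVanish

variable {𝔛 : FSch.Sys.{u}} (h𝔛 : 𝔛.IsLocNoethFormal)

/-- Affine opens. -/
def affB : Set (Opens (𝔛.X 0)) := {W | IsAffineOpen (W : (𝔛.X 0).Opens)}

theorem isBasis_affB : Opens.IsBasis (affB (𝔛 := 𝔛)) := Scheme.isBasis_affineOpens _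

theorem acy_coh {G : FSch.ModF 𝔛 h𝔛.1} (hG : FSch.IsCohF 𝔛 h𝔛.1 G) :
    AcycPush.Acy (affB (𝔛 := 𝔛)) G := fun _ hV q =>
  AffAcyclic.subsingleton_isCohF h𝔛 hV G hG (q + 1) q.succ_pos

/-- Cycles in a complex of abelian groups. -/
theorem exists_cycle_ab (C : CochainComplex AddCommGrpCat.{u} ℤ) (i : ℤ) (x : C.X i)
    (hx : C.d i (i + 1) x = 0) : ∃ c, C.iCycles i c = x :=
  (ShortComplex.ab_exact_iff (ShortComplex.mk (C.iCycles i) (C.d i (i + 1)) (C.iCycles_d i (i + 1)))).1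
    (ShortComplex.exact_of_f_is_kernel _ (C.cyclesIsKernel i (i + 1) (by simp))) x hx

section Gamma

variable (K : CochainComplex (FSch.ModF 𝔛 h𝔛.1) ℤ) (W : (𝔛.X 0).Opens) (i : ℤ)

/-- Cocycles over `W`. -/
noncomputable def Z : Submodule (Levels.A 𝔛 h𝔛.1 W) (sec h𝔛.1 (K.X i) W) :=
  LinearMap.ker (secMap h𝔛.1 (K.d i (i + 1)) W)

theorem exists_lift (s : Z h𝔛 K W i) : ∃ z, secMap h𝔛.1 (K.iCycles i) W z = s.1 :=
  SectH.exists_cycle K i s.1 s.2

/-- The cohomology class of a cocycle, as a section of the cohomology sheaf. -/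
noncomputable def cl : Z h𝔛 K W i →ₗ[Levels.A 𝔛 h𝔛.1 W] sec h𝔛.1 (K.homology i) W where
  toFun s := secMap h𝔛.1 (K.homologyπ i) W (exists_lift h𝔛 K W i s).choose
  map_add' s t := by
    haveI : Mono (K.iCycles i) := inferInstance
    rw [← map_add]
    refine congrArg _ (CohCons.secMap_injective (K.iCycles i) W ?_)
    rw [map_add, (exists_lift h𝔛 K W i s).choose_spec, (exists_lift h𝔛 K W i t).choose_spec,
      (exists_lift h𝔛 K W i (s + t)).choose_spec]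
    rfl
  map_smul' r s := by
    haveI : Mono (K.iCycles i) := inferInstance
    rw [RingHom.id_apply, ← map_smul]
    refine congrArg _ (CohCons.secMap_injective (K.iCycles i) W ?_)
    rw [map_smul, (exists_lift h𝔛 K W i s).choose_spec, (exists_lift h𝔛 K W i (r • s)).choose_spec]
    rfl

theorem cl_eq (s : Z h𝔛 K W i) (z : sec h𝔛.1 (K.cycles i) W)
    (hz : secMap h𝔛.1 (K.iCycles i) W z = s.1) :
    cl h𝔛 K W i s = secMap h𝔛.1 (K.homologyπ i) W z := by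
  haveI : Mono (K.iCycles i) := inferInstance
  exact congrArg (secMap h𝔛.1 (K.homologyπ i) W) (CohCons.secMap_injective (K.iCycles i) W
    ((exists_lift h𝔛 K W i s).choose_spec.trans hz.symm))

theorem cl_boundary (t : sec h𝔛.1 (K.X (i - 1)) W) (s : Z h𝔛 K W i)
    (hs : secMap h𝔛.1 (K.d (i - 1) i) W t = s.1) : cl h𝔛 K W i s = 0 := by
  rw [cl_eq h𝔛 K W i s (secMap h𝔛.1 (K.toCycles (i - 1) i) W t) (by
    rw [← Groth.Agent.H22.IndColim.secMap_comp, HomologicalComplex.toCycles_i, hs]),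
    ← Groth.Agent.H22.IndColim.secMap_comp, HomologicalComplex.toCycles_comp_homologyπ]
  rfl

variable {K W} [K.IsKInjective] (hK : ∀ j, FSch.IsCohF 𝔛 h𝔛.1 (K.homology j)) (hW : IsAffineOpen W)

include hK hW in
theorem surjective_cl : Function.Surjective (cl h𝔛 K W i) := by
  haveI := DerivedOX.Grothendieck.isGrothendieckAbelian_sheafOfModules (ModSite.ringSh (𝔛.Osh h𝔛.1))
  obtain ⟨J, π, hJ, h1, h2⟩ :=
    SectH.exists_trunc isBasis_affB K (show W ∈ affB from hW) (fun j => acy_coh h𝔛 (hK j)) i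
  haveI := h1
  intro σ
  haveI : Mono (J.homologyπ i) := by
    haveI := J.isIso_homologyπ (i - 1) i (by simp) ((hJ (i - 1) (by lia)).eq_of_src _ _)
    infer_instance
  haveI := J.isIso_homologyπ (i - 1) i (by simp) ((hJ (i - 1) (by lia)).eq_of_src _ _)
  let σ' := secMap h𝔛.1 (inv (J.homologyπ i)) W (secMap h𝔛.1 (HomologicalComplex.homologyMap π i) W σ)
  let j : Z h𝔛 J W i := ⟨secMap h𝔛.1 (J.iCycles i) W σ', by
    show secMap h𝔛.1 (J.d i (i + 1)) W _ = 0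
    rw [← Groth.Agent.H22.IndColim.secMap_comp, HomologicalComplex.iCycles_d]
    rfl⟩
  obtain ⟨cj, hcj⟩ := exists_cycle_ab (((SectH.sect W).mapHomologicalComplex (.up ℤ)).obj J) i j.1 j.2
  obtain ⟨c, hc⟩ := (ConcreteCategory.bijective_of_isIso
    (HomologicalComplex.homologyMap (((SectH.sect W).mapHomologicalComplex (.up ℤ)).map π) i)).2
    ((((SectH.sect W).mapHomologicalComplex (.up ℤ)).obj J).homologyπ i cj)
  obtain ⟨c', rfl⟩ := (AddCommGrpCat.epi_iff_surjective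
    ((((SectH.sect W).mapHomologicalComplex (.up ℤ)).obj K).homologyπ i)).1 inferInstance c
  let C := ((SectH.sect W).mapHomologicalComplex (.up ℤ)).obj K
  let D := ((SectH.sect W).mapHomologicalComplex (.up ℤ)).obj J
  let πW : C ⟶ D := ((SectH.sect W).mapHomologicalComplex (.up ℤ)).map π
  let s : Z h𝔛 K W i := ⟨C.iCycles i c', ConcreteCategory.congr_hom (C.iCycles_d i (i + 1)) c'⟩
  refine ⟨s, ?_⟩
  have h3 : D.homologyπ i (HomologicalComplex.cyclesMap πW i c') =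
      D.homologyπ i cj :=
    (ConcreteCategory.congr_hom (HomologicalComplex.homologyπ_naturality πW i) c').symm.trans hc
  haveI : Mono (D.homologyπ i) := by
    haveI := D.isIso_homologyπ (i - 1) i (by simp)
      (((SectH.sect W).map_isZero (hJ (i - 1) (by lia))).eq_of_src _ _)
    infer_instance
  have h4 := congrArg (D.iCycles i) ((AddCommGrpCat.mono_iff_injective (D.homologyπ i)).1 inferInstance h3)
  have h5 : secMap h𝔛.1 (π.f i) W s.1 = j.1 :=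
    (ConcreteCategory.congr_hom (HomologicalComplex.cyclesMap_i πW i) c').symm.trans
      (h4.trans hcj)
  haveI : Mono (HomologicalComplex.homologyMap π i) := inferInstance
  refine CohCons.secMap_injective (HomologicalComplex.homologyMap π i) W ?_
  obtain ⟨z, hz⟩ := exists_lift h𝔛 K W i s
  rw [cl_eq h𝔛 K W i s z hz, ← Groth.Agent.H22.IndColim.secMap_comp,
    HomologicalComplex.homologyπ_naturality, Groth.Agent.H22.IndColim.secMap_comp]
  haveI : Mono (J.iCycles i) := inferInstance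
  have h6 : secMap h𝔛.1 (HomologicalComplex.cyclesMap π i) W z = σ' := by
    refine CohCons.secMap_injective (J.iCycles i) W ?_
    rw [← Groth.Agent.H22.IndColim.secMap_comp, HomologicalComplex.cyclesMap_i,
      Groth.Agent.H22.IndColim.secMap_comp, hz, h5]
  rw [h6]
  show secMap h𝔛.1 (J.homologyπ i) W (secMap h𝔛.1 (inv (J.homologyπ i)) W _) = _
  rw [← Groth.Agent.H22.IndColim.secMap_comp, IsIso.inv_hom_id]
  rfl

include hK hW in
theorem exists_of_cl_eq_zero (s : Z h𝔛 K W i) (hs : cl h𝔛 K W i s = 0) :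
    ∃ t : sec h𝔛.1 (K.X (i - 1)) W, secMap h𝔛.1 (K.d (i - 1) i) W t = s.1 := by
  haveI := DerivedOX.Grothendieck.isGrothendieckAbelian_sheafOfModules (ModSite.ringSh (𝔛.Osh h𝔛.1))
  obtain ⟨J, π, hJ, h1, h2⟩ :=
    SectH.exists_trunc isBasis_affB K (show W ∈ affB from hW) (fun j => acy_coh h𝔛 (hK j)) i
  haveI := h1
  haveI : Mono (J.homologyπ i) := by
    haveI := J.isIso_homologyπ (i - 1) i (by simp) ((hJ (i - 1) (by lia)).eq_of_src _ _)
    infer_instance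
  obtain ⟨z, hz⟩ := exists_lift h𝔛 K W i s
  rw [cl_eq h𝔛 K W i s z hz] at hs
  have h4 : secMap h𝔛.1 (HomologicalComplex.cyclesMap π i) W z = 0 := by
    refine CohCons.secMap_injective (J.homologyπ i) W ?_
    rw [map_zero, ← Groth.Agent.H22.IndColim.secMap_comp, ← HomologicalComplex.homologyπ_naturality,
      Groth.Agent.H22.IndColim.secMap_comp, hs, map_zero]
  have h5 : secMap h𝔛.1 (π.f i) W s.1 = 0 := by
    rw [← hz, ← Groth.Agent.H22.IndColim.secMap_comp, ← HomologicalComplex.cyclesMap_i,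
      Groth.Agent.H22.IndColim.secMap_comp, h4, map_zero]
  let C := ((SectH.sect W).mapHomologicalComplex (.up ℤ)).obj K
  let D := ((SectH.sect W).mapHomologicalComplex (.up ℤ)).obj J
  let πW : C ⟶ D := ((SectH.sect W).mapHomologicalComplex (.up ℤ)).map π
  obtain ⟨c, hcs⟩ := exists_cycle_ab C i s.1 s.2
  have h6 : C.homologyπ i c = 0 := by
    refine (ConcreteCategory.bijective_of_isIso (HomologicalComplex.homologyMap πW i)).1 ?_
    refine Eq.trans ?_ (map_zero _).symm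
    refine (ConcreteCategory.congr_hom (HomologicalComplex.homologyπ_naturality πW i) c).trans ?_
    have h7 : HomologicalComplex.cyclesMap πW i c = 0 := by
      refine (AddCommGrpCat.mono_iff_injective (D.iCycles i)).1 inferInstance ?_
      refine (ConcreteCategory.congr_hom (HomologicalComplex.cyclesMap_i πW i) c).trans ?_
      refine (congrArg (πW.f i) hcs).trans ?_
      exact h5.trans (map_zero _).symm
    exact (congrArg (D.homologyπ i) h7).trans (map_zero _)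
  have he : (ShortComplex.mk (C.toCycles (i - 1) i) (C.homologyπ i)
      (HomologicalComplex.toCycles_comp_homologyπ C _ _)).Exact :=
    ShortComplex.exact_of_g_is_cokernel _ (C.homologyIsCokernel (i - 1) i (by simp))
  obtain ⟨t, ht⟩ := (ShortComplex.ab_exact_iff _).1 he c h6
  refine ⟨t, ?_⟩
  have := congrArg (C.iCycles i) ht
  rw [← ConcreteCategory.comp_apply, HomologicalComplex.toCycles_i] at this
  exact this.trans hcs

end Gamma

section Vanish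

variable {V : (𝔛.X 0).Opens} (hV : IsAffineOpen V) (K : CochainComplex (FSch.ModF 𝔛 h𝔛.1) ℤ)
  (f : Levels.A 𝔛 h𝔛.1 V)

/-- Multiplication by `f`. -/
noncomputable abbrev μ {O : (𝔛.X 0).Opens} (e : O ≤ V) (L : CochainComplex (FSch.ModF 𝔛 h𝔛.1) ℤ) :
    (ZeroExt.JC h𝔛 O).obj L ⟶ (ZeroExt.JC h𝔛 O).obj L :=
  (NatTrans.mapHomologicalComplex (ZeroExt.mulN h𝔛 e f) (.up ℤ)).app L

/-- The product of copies of the restriction to `V`. -/
noncomputable abbrev Pr : CochainComplex (FSch.ModF 𝔛 h𝔛.1) ℤ :=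
  ∏ᶜ fun _ : ℕ => (ZeroExt.JC h𝔛 V).obj K

/-- `1 - f · shift`. -/
noncomputable def θ : Pr h𝔛 (V := V) K ⟶ Pr h𝔛 (V := V) K :=
  Pi.lift fun n => Pi.π (fun _ : ℕ => (ZeroExt.JC h𝔛 V).obj K) n -
    Pi.π (fun _ : ℕ => (ZeroExt.JC h𝔛 V).obj K) (n + 1) ≫ μ h𝔛 f le_rfl K

/-- The components of a section of the product. -/
noncomputable def cmpt (j : ℤ) (U : (𝔛.X 0).Opens) (s : sec h𝔛.1 ((Pr h𝔛 (V := V) K).X j) U) (n : ℕ) :
    sec h𝔛.1 (K.X j) U :=
  (secMap h𝔛.1 ((Pi.π (fun _ : ℕ => (ZeroExt.JC h𝔛 V).obj K) n).f j) U s).1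

theorem bijective_cmpt (j : ℤ) {U : (𝔛.X 0).Opens} (eU : U ≤ V) :
    Function.Bijective (cmpt h𝔛 K j U (V := V)) := by
  haveI : PreservesLimitsOfShape (Discrete ℕ) (SectH.sect (O := 𝔛.Osh h𝔛.1) U) :=
    SectH.sect_preservesLimits U
  let F := HomologicalComplex.eval (FSch.ModF 𝔛 h𝔛.1) (ComplexShape.up ℤ) j ⋙
    SectH.sect (O := 𝔛.Osh h𝔛.1) U ⋙ forget AddCommGrpCat.{u}
  let Ki := fun _ : ℕ => (ZeroExt.JC h𝔛 V).obj K
  let e := (PreservesProduct.iso F Ki ≪≫ Types.productIso.{0, u} fun n => F.obj (Ki n)).toEquiv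
  have he : ∀ s n, (e s n).1 = cmpt h𝔛 K j U s n := fun s n => by
    have h1 := ConcreteCategory.congr_hom (piComparison_comp_π F Ki n) s
    exact congrArg Subtype.val h1
  refine ⟨fun a b h => e.injective (funext fun n => Subtype.ext ?_), fun t => ?_⟩
  · rw [he, he, h]
  · refine ⟨e.symm fun n => ZeroExt.mkS h𝔛 (K.X j) eU (t n), funext fun n => ?_⟩
    rw [← he, Equiv.apply_symm_apply]
    rfl

theorem cmpt_d (j : ℤ) (U : (𝔛.X 0).Opens) (s : sec h𝔛.1 ((Pr h𝔛 (V := V) K).X j) U) (j' : ℤ) (n : ℕ) :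
    cmpt h𝔛 K j' U (secMap h𝔛.1 ((Pr h𝔛 (V := V) K).d j j') U s) n =
      secMap h𝔛.1 (K.d j j') U (cmpt h𝔛 K j U s n) := by
  have h1 := congrArg (fun φ : (Pr h𝔛 (V := V) K).X j ⟶ (ZeroExt.J h𝔛 V).obj (K.X j') =>
    (secMap h𝔛.1 φ U s).1)
    ((Pi.π (fun _ : ℕ => (ZeroExt.JC h𝔛 V).obj K) n).comm j j')
  simp only [Groth.Agent.H22.IndColim.secMap_comp] at h1
  exact h1.symm

theorem cmpt_θ (j : ℤ) {U : (𝔛.X 0).Opens} (eU : U ≤ V) (s : sec h𝔛.1 ((Pr h𝔛 (V := V) K).X j) U) (n : ℕ) :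
    cmpt h𝔛 K j U (secMap h𝔛.1 ((θ h𝔛 K f).f j) U s) n =
      cmpt h𝔛 K j U s n - CohPres.resA h𝔛.1 eU f • cmpt h𝔛 K j U s (n + 1) := by
  have hπ : θ h𝔛 K f ≫ Pi.π (fun _ : ℕ => (ZeroExt.JC h𝔛 V).obj K) n = _ := Pi.lift_π _ n
  have h1 := congrArg (fun φ : Pr h𝔛 (V := V) K ⟶ (ZeroExt.JC h𝔛 V).obj K =>
    (secMap h𝔛.1 (φ.f j) U s).1) hπ
  simp only [HomologicalComplex.comp_f, HomologicalComplex.sub_f_apply, Groth.Agent.H22.IndColim.secMap_comp] at h1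
  refine h1.trans ?_
  refine congrArg (cmpt h𝔛 K j U s n - ·) ?_
  exact congrArg Subtype.val (ZeroExt.mulN_mkS h𝔛 le_rfl f (K.X j) eU (cmpt h𝔛 K j U s (n + 1)))

theorem cmpt_res (j : ℤ) {U U' : (𝔛.X 0).Opens} (e : U' ≤ U) (s : sec h𝔛.1 ((Pr h𝔛 (V := V) K).X j) U)
    (n : ℕ) : cmpt h𝔛 K j U' (CohPres.resF h𝔛.1 _ e s) n =
      CohPres.resF h𝔛.1 (K.X j) e (cmpt h𝔛 K j U s n) :=
  congrArg Subtype.val (Groth.Agent.H22.IndColim.secMap_res
    ((Pi.π (fun _ : ℕ => (ZeroExt.JC h𝔛 V).obj K) n).f j) e s)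

variable {K f} [K.IsKInjective] (hK : ∀ j, FSch.IsCohF 𝔛 h𝔛.1 (K.homology j))

include hV hK in
theorem quasiIso_stalk_θ (hf : f ∈ Levels.J (h := h𝔛.1) V) {y : 𝔛.X 0} (hy : y ∈ V) :
    QuasiIso (((Good.S h𝔛 hy).mapHomologicalComplex (.up ℤ)).map (θ h𝔛 K f)) := by
  refine ⟨fun i => RGamma.quasiIsoAt_of_cycles i _ (fun x hx => ?_) (fun z hz hw => ?_)⟩
  all_goals skip
  · obtain ⟨U₀, eU₀, hyU₀, s, rfl⟩ := Stalk.exists_gS hy x
    obtain ⟨U₁, e₁, hyU₁, h₁⟩ := Stalk.exists_eq_zero hy hyU₀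
      (ModSiteLoc.Basic.ap ((Pr h𝔛 (V := V) K).d i (i + 1)) s) ((Stalk.map_gS hy _ hyU₀ s).symm.trans hx)
    obtain ⟨U, hU, hyU, eU⟩ := Opens.isBasis_iff_nbhd.1 (CohPres.isBasis_affine (𝔛.X 0)) hyU₁
    have eV : U ≤ V := (eU.trans e₁).trans eU₀
    let s' := CohPres.resF h𝔛.1 _ (eU.trans e₁) s
    have hs' : secMap h𝔛.1 ((Pr h𝔛 (V := V) K).d i (i + 1)) U s' = 0 := by
      rw [Groth.Agent.H22.IndColim.secMap_res, ← TorsCoh.resF_resF _ e₁ eU]
      exact (congrArg _ h₁).trans (map_zero _)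
    let g := CohPres.resA h𝔛.1 eV f
    have hsn : ∀ n, cmpt h𝔛 K i U s' n ∈ Z h𝔛 K U i := fun n => by
      show secMap h𝔛.1 (K.d i (i + 1)) U _ = 0
      rw [← cmpt_d, hs']
      exact congrArg Subtype.val (map_zero (secMap h𝔛.1
        ((Pi.π (fun _ : ℕ => (ZeroExt.JC h𝔛 V).obj K) n).f (i + 1)) U))
    haveI := Levels.isNoetherianRing_A h𝔛 hU
    haveI := (Levels.adic h𝔛 hU).1
    haveI := CohExact.finite_sec h𝔛 (hK i) hU
    haveI : IsAdicComplete (Levels.J (h := h𝔛.1) U) (sec h𝔛.1 (K.homology i) U) :=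
      Adic.Complete.isAdicComplete_of_finite
    have hg : g ∈ Levels.J (h := h𝔛.1) U := by
      simpa using CohExact.resA_mem_pow h𝔛 hV hU eV 1 (by simpa using hf)
    obtain ⟨a, ha⟩ := (DR.DComp.dc_of_isAdicComplete hg).2
      (fun n => cl h𝔛 K U i ⟨_, hsn n⟩ : ℕ → sec h𝔛.1 (K.homology i) U)
    choose c hc using fun n => surjective_cl h𝔛 i hK hU (a n)
    have h0 : ∀ n, cl h𝔛 K U i (⟨_, hsn n⟩ - (c n - g • c (n + 1))) = 0 := fun n => by
      rw [map_sub, map_sub, map_smul, hc, hc, sub_eq_zero]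
      exact ((DR.DComp.phi_eq_iff _ _ _).1 ha n) ▸ (add_sub_cancel_right _ _).symm
    choose t ht using fun n => exists_of_cl_eq_zero h𝔛 i hK hU _ (h0 n)
    obtain ⟨z, hz⟩ := (bijective_cmpt h𝔛 K i eV).2 fun n => (c n).1
    obtain ⟨w, hw⟩ := (bijective_cmpt h𝔛 K (i - 1) eV).2 t
    refine ⟨Stalk.gS hy _ hyU z, Stalk.gS hy _ hyU w, ?_, ?_⟩
    · refine (Stalk.map_gS hy _ hyU z).trans ((congrArg (Stalk.gS hy _ hyU) ?_).trans (map_zero _))
      refine (bijective_cmpt h𝔛 K (i + 1) eV).1 (funext fun n => ?_)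
      refine (cmpt_d h𝔛 K i U z (i + 1) n).trans ?_
      rw [congrFun hz n, show secMap h𝔛.1 (K.d i (i + 1)) U (c n).1 = 0 from (c n).2]
      exact (congrArg Subtype.val (map_zero (secMap h𝔛.1
        ((Pi.π (fun _ : ℕ => (ZeroExt.JC h𝔛 V).obj K) n).f (i + 1)) U))).symm
    · refine (Stalk.gS_rs hy (eU.trans e₁) hyU hyU₀ s).symm.trans ?_
      refine Eq.trans ?_ (congrArg₂ (· + ·) (Stalk.map_gS hy _ hyU z) (Stalk.map_gS hy _ hyU w)).symm
      refine Eq.trans ?_ (map_add _ _ _)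
      refine congrArg (Stalk.gS hy _ hyU) ((bijective_cmpt h𝔛 K i eV).1 (funext fun n => ?_))
      show _ = cmpt h𝔛 K i U (secMap h𝔛.1 ((θ h𝔛 K f).f i) U z +
        secMap h𝔛.1 ((Pr h𝔛 (V := V) K).d (i - 1) i) U w) n
      refine Eq.trans ?_ (congrArg Subtype.val (map_add (secMap h𝔛.1
        ((Pi.π (fun _ : ℕ => (ZeroExt.JC h𝔛 V).obj K) n).f i) U) _ _)).symm
      show _ = cmpt h𝔛 K i U _ n + cmpt h𝔛 K i U _ n
      rw [cmpt_θ h𝔛 K f i eV, cmpt_d, congrFun hz n, congrFun hz (n + 1), congrFun hw n, ht n]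
      show cmpt h𝔛 K i U s' n = (c n).1 - g • (c (n + 1)).1 +
        (cmpt h𝔛 K i U s' n - ((c n).1 - g • (c (n + 1)).1))
      abel
  · obtain ⟨U₀, eU₀, hyU₀, s, rfl⟩ := Stalk.exists_gS hy z
    obtain ⟨w₀, hw⟩ := hw
    obtain ⟨U₂, eU₂, hyU₂, w, rfl⟩ := Stalk.exists_gS hy w₀
    let U₃ := U₀ ⊓ U₂
    have hy₃ : y ∈ U₃ := ⟨hyU₀, hyU₂⟩
    have h3 : Stalk.gS hy _ hy₃ (secMap h𝔛.1 ((Pr h𝔛 (V := V) K).d (i - 1) i) U₃
        (CohPres.resF h𝔛.1 _ inf_le_right w) - secMap h𝔛.1 ((θ h𝔛 K f).f i) U₃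
        (CohPres.resF h𝔛.1 _ inf_le_left s)) = 0 := by
      refine (map_sub _ _ _).trans (sub_eq_zero.2 ?_)
      refine ((Stalk.map_gS hy _ hy₃ _).symm.trans ?_).trans (Stalk.map_gS hy _ hy₃ _)
      exact ((congrArg _ (Stalk.gS_rs hy inf_le_right hy₃ hyU₂ w)).trans hw).trans
        (congrArg _ (Stalk.gS_rs hy inf_le_left hy₃ hyU₀ s).symm)
    obtain ⟨U₄, e₄, hyU₄, h₄⟩ := Stalk.exists_eq_zero hy hy₃ _ h3
    obtain ⟨U₁, e₁, hyU₁, h₁⟩ := Stalk.exists_eq_zero hy hyU₀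
      (ModSiteLoc.Basic.ap ((Pr h𝔛 (V := V) K).d i (i + 1)) s) ((Stalk.map_gS hy _ hyU₀ s).symm.trans hz)
    obtain ⟨U, hU, hyU, eU⟩ := Opens.isBasis_iff_nbhd.1 (CohPres.isBasis_affine (𝔛.X 0))
      (show y ∈ U₁ ⊓ U₄ from ⟨hyU₁, hyU₄⟩)
    have e0 : U ≤ U₀ := (eU.trans inf_le_left).trans e₁
    have e2 : U ≤ U₂ := ((eU.trans inf_le_right).trans e₄).trans inf_le_right
    have eV : U ≤ V := e0.trans eU₀
    let g := CohPres.resA h𝔛.1 eV f
    let s' := CohPres.resF h𝔛.1 _ e0 s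
    let w' := CohPres.resF h𝔛.1 _ e2 w
    have hs' : secMap h𝔛.1 ((Pr h𝔛 (V := V) K).d i (i + 1)) U s' = 0 := by
      rw [Groth.Agent.H22.IndColim.secMap_res, ← TorsCoh.resF_resF _ e₁ (eU.trans inf_le_left)]
      exact (congrArg _ h₁).trans (map_zero _)
    have hw' : secMap h𝔛.1 ((Pr h𝔛 (V := V) K).d (i - 1) i) U w' = secMap h𝔛.1 ((θ h𝔛 K f).f i) U s' := by
      rw [← sub_eq_zero]
      refine Eq.trans ?_ ((congrArg (CohPres.resF h𝔛.1 _ (eU.trans inf_le_right)) h₄).trans (map_zero _))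
      show _ = CohPres.resF h𝔛.1 _ (eU.trans inf_le_right) (CohPres.resF h𝔛.1 _ e₄ _)
      rw [TorsCoh.resF_resF, map_sub, ← Groth.Agent.H22.IndColim.secMap_res,
        ← Groth.Agent.H22.IndColim.secMap_res, TorsCoh.resF_resF, TorsCoh.resF_resF]
    have hsn : ∀ n, cmpt h𝔛 K i U s' n ∈ Z h𝔛 K U i := fun n => by
      show secMap h𝔛.1 (K.d i (i + 1)) U _ = 0
      rw [← cmpt_d, hs']
      exact congrArg Subtype.val (map_zero (secMap h𝔛.1
        ((Pi.π (fun _ : ℕ => (ZeroExt.JC h𝔛 V).obj K) n).f (i + 1)) U))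
    haveI := Levels.isNoetherianRing_A h𝔛 hU
    haveI := (Levels.adic h𝔛 hU).1
    haveI := CohExact.finite_sec h𝔛 (hK i) hU
    haveI : IsAdicComplete (Levels.J (h := h𝔛.1) U) (sec h𝔛.1 (K.homology i) U) :=
      Adic.Complete.isAdicComplete_of_finite
    have hg : g ∈ Levels.J (h := h𝔛.1) U := by
      simpa using CohExact.resA_mem_pow h𝔛 hV hU eV 1 (by simpa using hf)
    let a : ℕ → sec h𝔛.1 (K.homology i) U := fun n => cl h𝔛 K U i ⟨_, hsn n⟩
    have ha : a = 0 := (DR.DComp.dc_of_isAdicComplete hg).1 (by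
      refine Eq.trans ((DR.DComp.phi_eq_iff _ _ _).2 fun n => ?_) (map_zero _).symm
      show a n = (0 : ℕ → sec h𝔛.1 (K.homology i) U) n + g • a (n + 1)
      rw [Pi.zero_apply, zero_add, ← sub_eq_zero]
      show cl h𝔛 K U i ⟨_, hsn n⟩ - g • cl h𝔛 K U i ⟨_, hsn (n + 1)⟩ = 0
      rw [← map_smul, ← map_sub]
      refine cl_boundary h𝔛 K U i (cmpt h𝔛 K (i - 1) U w' n) _ ?_
      rw [← cmpt_d, hw', cmpt_θ h𝔛 K f i eV]
      rfl)
    choose t ht using fun n => exists_of_cl_eq_zero h𝔛 i hK hU ⟨_, hsn n⟩ (congrFun ha n)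
    obtain ⟨r, hr⟩ := (bijective_cmpt h𝔛 K (i - 1) eV).2 t
    refine ⟨Stalk.gS hy _ hyU r, ?_⟩
    refine (Stalk.map_gS hy _ hyU r).trans (Eq.trans ?_ (Stalk.gS_rs hy e0 hyU hyU₀ s))
    refine congrArg (Stalk.gS hy _ hyU) ((bijective_cmpt h𝔛 K i eV).1 (funext fun n => ?_))
    refine (cmpt_d h𝔛 K (i - 1) U r i n).trans ?_
    rw [congrFun hr n, ht n]
    rfl

/-- Recursively dividing a morphism by an automorphism. -/
noncomputable def divs {A B : CochainComplex (FSch.ModF 𝔛 h𝔛.1) ℤ} (φ : A ⟶ A) [IsIso φ] (ψ : A ⟶ B) :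
    ℕ → (A ⟶ B)
  | 0 => ψ
  | n + 1 => inv φ ≫ divs φ ψ n

include hV hK in
/-- Complexes on which `f` is invertible have no maps to `K`. -/
theorem map_eq_zero (hf : f ∈ Levels.J (h := h𝔛.1) V) {O : (𝔛.X 0).Opens} (e : O ≤ V)
    (Q : CochainComplex (FSch.ModF 𝔛 h𝔛.1) ℤ)
    (hQ : ∀ (y : 𝔛.X 0) (hy : y ∈ V), y ∈ O → ∀ n,
      Function.Bijective fun p : ((Good.S h𝔛 hy).obj (Q.X n) : Type u) => f • p)
    (ψ : (ZeroExt.JC h𝔛 O).obj Q ⟶ K) : DerivedCategory.Q.map ψ = 0 := by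
  let A := (ZeroExt.JC h𝔛 O).obj Q
  let φ : A ⟶ A := μ h𝔛 f e Q
  have hφ : ∀ (n : ℤ) (y : 𝔛.X 0) (hy : y ∈ V) (p : ((Good.S h𝔛 hy).obj (A.X n) : Type u)),
      (Good.S h𝔛 hy).map (φ.f n) p = f • p := fun n y hy p => by
    obtain ⟨W, eW, hW, x, rfl⟩ := Stalk.exists_gS hy p
    rw [show f • Stalk.gS hy _ hW x = _ from Stalk.gS_smul hy eW hW f x]
    refine (Stalk.map_gS hy _ hW x).trans (congrArg (Stalk.gS hy _ hW) ?_)
    refine Subtype.ext (sub_eq_zero.1 (TorsCoh.eq_zero_of_locally _ _ fun z hz => ?_))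
    show ∃ (U : (𝔛.X 0).Opens) (eU : U ≤ W), z ∈ U ∧ CohPres.resF h𝔛.1 (Q.X n) eU
      ((secMap h𝔛.1 (φ.f n) W x).1 - CohPres.resA h𝔛.1 eW f • x.1) = 0
    by_cases hzO : z ∈ O
    · refine ⟨W ⊓ O, inf_le_left, ⟨hz, hzO⟩, ?_⟩
      rw [map_sub, CohPres.resF_smul, IndColim.resA_resA]
      refine sub_eq_zero.2 ((congrArg Subtype.val (IndColim.secMap_res (φ.f n)
        (inf_le_left : W ⊓ O ≤ W) x)).symm.trans ?_)
      exact congrArg Subtype.val (ZeroExt.mulN_mkS h𝔛 e f (Q.X n) inf_le_right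
        (CohPres.resF h𝔛.1 (Q.X n) inf_le_left x.1))
    · obtain ⟨U, eU, hzU, hU⟩ := x.2 z hz hzO
      refine ⟨U, eU, hzU, ?_⟩
      rw [map_sub, CohPres.resF_smul, hU, smul_zero, sub_zero]
      refine (congrArg Subtype.val (IndColim.secMap_res (φ.f n) eU x)).symm.trans ?_
      rw [show CohPres.resF h𝔛.1 _ eU x = 0 from Subtype.ext hU, map_zero]
      rfl
  haveI : ∀ n, IsIso (φ.f n) := fun n => by
    refine Stalk.isIso _ fun y => ?_
    by_cases hyO : y ∈ O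
    · refine ⟨V, e hyO, (ConcreteCategory.isIso_iff_bijective _).2 ?_⟩
      let b := LinearEquiv.ofBijective ((Good.S h𝔛 (e hyO)).map ((ZeroExt.ι h𝔛 O).app (Q.X n))).hom
        (ZeroExt.bijective_St_ι h𝔛 (e hyO) (Q.X n) hyO)
      have h1 : (fun p => (Good.S h𝔛 (e hyO)).map (φ.f n) p) =
          (fun p => b.symm p) ∘ (fun p => f • p) ∘ fun p => b p :=
        funext fun p => (hφ n y (e hyO) p).trans
          ((map_smul b.symm f (b p)).trans (congrArg (f • ·) (b.symm_apply_apply p))).symm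
      show Function.Bijective fun p => (Good.S h𝔛 (e hyO)).map (φ.f n) p
      rw [h1]
      exact b.symm.bijective.comp ((hQ y (e hyO) hyO n).comp b.bijective)
    · refine ⟨⊤, trivial, (ConcreteCategory.isIso_iff_bijective _).2 ?_⟩
      haveI := ZeroExt.subsingleton_St h𝔛 (V := (⊤ : (𝔛.X 0).Opens)) (y := y) trivial (Q.X n) hyO
      exact ⟨fun a b _ => Subsingleton.elim (α := ((Good.S h𝔛 (V := (⊤ : (𝔛.X 0).Opens)) (x := y) trivial).obj
          ((ZeroExt.J h𝔛 O).obj (Q.X n)) : Type u)) a b, fun b => ⟨0, Subsingleton.elim (α := ((Good.S h𝔛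
          (V := (⊤ : (𝔛.X 0).Opens)) (x := y) trivial).obj ((ZeroExt.J h𝔛 O).obj (Q.X n)) : Type u)) _ b⟩⟩
  haveI : IsIso φ := HomologicalComplex.Hom.isIso_of_components _
  let ψV : A ⟶ (ZeroExt.JC h𝔛 V).obj K :=
    { f := fun n => ZeroExt.mkHom h𝔛 (fun U eU =>
        { toFun := fun s => ZeroExt.mkS h𝔛 (K.X n) (eU.trans e)
            (secMap h𝔛.1 (ψ.f n) U (ZeroExt.mkS h𝔛 (Q.X n) eU s))
          map_add' := fun s t => Subtype.ext (map_add (secMap h𝔛.1 (ψ.f n) U)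
            (ZeroExt.mkS h𝔛 (Q.X n) eU s) (ZeroExt.mkS h𝔛 (Q.X n) eU t))
          map_smul' := fun r s => Subtype.ext (map_smul (secMap h𝔛.1 (ψ.f n) U) r
            (ZeroExt.mkS h𝔛 (Q.X n) eU s)) })
        (fun U U' eU e' s => Subtype.ext (IndColim.secMap_res (ψ.f n) e' _).symm)
      comm' := fun n m _ => by
        refine ZeroExt.hom_ext h𝔛 fun U eU s => Subtype.ext ?_
        refine (congrArg Subtype.val (IndColim.secMap_comp _ _ U _)).trans ?_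
        refine Eq.trans ?_ (congrArg Subtype.val (IndColim.secMap_comp _ _ U _)).symm
        refine (congrArg (fun x => (secMap h𝔛.1 (((ZeroExt.JC h𝔛 V).obj K).d n m) U x).1)
          (ZeroExt.mkHom_mkS h𝔛 _ _ eU s)).trans ?_
        refine Eq.trans ?_ (congrArg Subtype.val (ZeroExt.mkHom_mkS h𝔛 _ _ eU (secMap h𝔛.1 (Q.d n m) U s))).symm
        exact (IndColim.secMap_comp (ψ.f n) (K.d n m) U _).symm.trans
          ((congrArg (fun χ => secMap h𝔛.1 χ U (ZeroExt.mkS h𝔛 (Q.X n) eU s)) (ψ.comm n m)).trans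
            (IndColim.secMap_comp ((((ZeroExt.JC h𝔛 O).obj Q)).d n m) (ψ.f m) U _)) }
  have hψ : ψV ≫ ZeroExt.ιC h𝔛 V K = ψ := HomologicalComplex.hom_ext _ _ fun n =>
    ZeroExt.hom_ext h𝔛 fun U eU s => by
      refine (IndColim.secMap_comp (ψV.f n) ((ZeroExt.ιC h𝔛 V K).f n) U _).trans ?_
      exact (congrArg (secMap h𝔛.1 ((ZeroExt.ι h𝔛 V).app (K.X n)) U)
        (ZeroExt.mkHom_mkS h𝔛 _ _ eU s)).trans rfl
  have hc : φ ≫ ψV = ψV ≫ μ h𝔛 f le_rfl K := HomologicalComplex.hom_ext _ _ fun n =>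
    ZeroExt.hom_ext h𝔛 fun U eU s => Subtype.ext (by
      refine (congrArg Subtype.val (IndColim.secMap_comp (φ.f n) (ψV.f n) U _)).trans ?_
      refine Eq.trans ?_ (congrArg Subtype.val (IndColim.secMap_comp (ψV.f n) ((μ h𝔛 f le_rfl K).f n) U _)).symm
      refine (congrArg (fun x => (secMap h𝔛.1 (ψV.f n) U x).1) (ZeroExt.mulN_mkS h𝔛 e f (Q.X n) eU s)).trans ?_
      refine (congrArg Subtype.val (ZeroExt.mkHom_mkS h𝔛 _ _ eU _)).trans ?_
      refine Eq.trans ?_ (congrArg (fun x => (secMap h𝔛.1 ((μ h𝔛 f le_rfl K).f n) U x).1)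
        (ZeroExt.mkHom_mkS h𝔛 _ _ eU s)).symm
      refine Eq.trans ?_ (congrArg Subtype.val (ZeroExt.mulN_mkS h𝔛 le_rfl f (K.X n) (eU.trans e) _)).symm
      exact map_smul (secMap h𝔛.1 (ψ.f n) U) _ (ZeroExt.mkS h𝔛 (Q.X n) eU s))
  have hd : ∀ n, φ ≫ divs h𝔛 φ ψV n = divs h𝔛 φ ψV n ≫ μ h𝔛 f le_rfl K := fun n => by
    induction n with
    | zero => exact hc
    | succ n ih =>
      show φ ≫ inv φ ≫ _ = (inv φ ≫ _) ≫ _
      rw [IsIso.hom_inv_id_assoc, Category.assoc, ← ih, IsIso.inv_hom_id_assoc]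
  let Ψ : A ⟶ Pr h𝔛 (V := V) K := Pi.lift fun n => divs h𝔛 φ ψV n
  have hΨ : Ψ ≫ θ h𝔛 K f = 0 := by
    refine Pi.hom_ext _ _ fun n => ?_
    rw [zero_comp, Category.assoc, θ, Pi.lift_π, Preadditive.comp_sub, Pi.lift_π,
      Pi.lift_π_assoc, ← hd, show φ ≫ divs h𝔛 φ ψV (n + 1) = divs h𝔛 φ ψV n from IsIso.hom_inv_id_assoc φ _,
      sub_self]
  haveI := ZeroExt.quasiIso_JC h𝔛 V (θ h𝔛 K f) fun y hy => ⟨V, hy, quasiIso_stalk_θ h𝔛 hV hK hf hy⟩
  have h1 : DerivedCategory.Q.map ((ZeroExt.JC h𝔛 V).map Ψ) = 0 := by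
    rw [← cancel_mono (DerivedCategory.Q.map ((ZeroExt.JC h𝔛 V).map (θ h𝔛 K f))), ← Functor.map_comp,
      ← Functor.map_comp, hΨ, Functor.map_zero, Functor.map_zero, zero_comp]
  haveI : ∀ n, IsIso ((ZeroExt.ιC h𝔛 V A).f n) := fun n => by
    refine Stalk.isIso _ fun y => ⟨⊤, trivial, (ConcreteCategory.isIso_iff_bijective _).2 ?_⟩
    by_cases hyV : y ∈ V
    · exact ZeroExt.bijective_St_ι h𝔛 _ (A.X n) hyV
    · have hyO : y ∉ O := fun h => hyV (e h)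
      haveI := ZeroExt.subsingleton_St h𝔛 (V := (⊤ : (𝔛.X 0).Opens)) (y := y) trivial (A.X n) hyV
      haveI := ZeroExt.subsingleton_St h𝔛 (V := (⊤ : (𝔛.X 0).Opens)) (y := y) trivial (Q.X n) hyO
      exact ⟨fun a b _ => Subsingleton.elim (α := ((Good.S h𝔛 (V := (⊤ : (𝔛.X 0).Opens)) (x := y) trivial).obj
          ((ZeroExt.J h𝔛 V).obj (A.X n)) : Type u)) a b, fun b => ⟨0, Subsingleton.elim (α := ((Good.S h𝔛
          (V := (⊤ : (𝔛.X 0).Opens)) (x := y) trivial).obj ((ZeroExt.J h𝔛 O).obj (Q.X n)) : Type u)) _ b⟩⟩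
  haveI : IsIso (ZeroExt.ιC h𝔛 V A) := HomologicalComplex.Hom.isIso_of_components _
  have hn : (ZeroExt.JC h𝔛 V).map Ψ ≫ ZeroExt.ιC h𝔛 V _ = ZeroExt.ιC h𝔛 V A ≫ Ψ :=
    HomologicalComplex.hom_ext _ _ fun i => (ZeroExt.ι h𝔛 V).naturality (Ψ.f i)
  have h2 : DerivedCategory.Q.map Ψ = 0 := by
    rw [← cancel_epi (DerivedCategory.Q.map (ZeroExt.ιC h𝔛 V A)), comp_zero, ← Functor.map_comp, ← hn,
      Functor.map_comp, h1, zero_comp]
  have h3 : ψ = Ψ ≫ Pi.π _ 0 ≫ ZeroExt.ιC h𝔛 V K := by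
    rw [Pi.lift_π_assoc]
    exact hψ.symm
  rw [h3, Functor.map_comp, h2, zero_comp]

end Vanish

end Groth.Agent.H22.Gam.LocalVanish
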