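import Groth.Agent.H22.Gam.PullStalk
import Groth.Agent.H22.Gam.ExactAdj
import Groth.Agent.H22.Gam.DCompl

/-!
# The inverse image along a completion and the torsion functors (helper22)
-/

set_option autoImplicit false
set_option maxHeartbeats 1000000
set_option linter.style.haveILetI false
set_option linter.unusedSectionVars false

universe u

open CategoryTheory CategoryTheory.Limits AlgebraicGeometry TopologicalSpace Opposite
open Groth.Agent.H30 Groth.Agent.Lib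
open Groth.Agent.Lib.ModSiteLoc.Basic Groth.Agent.Lib.ModSiteLoc.Top
open TensorProduct

attribute [local instance] HasDerivedCategory.standard

namespace Groth.Agent.H22.Gam

namespace Good

variable {𝔛 : FSch.Sys.{u}} (h𝔛 : 𝔛.IsLocNoethFormal)

/-- Stalks are good near every point, for one affine open and one list per point. -/
def GoodCx (K : CochainComplex (FSch.ModF 𝔛 h𝔛.1) ℤ) : Prop :=
  ∀ y : 𝔛.X 0, ∃ (V : (𝔛.X 0).Opens) (_ : IsAffineOpen V) (hy : y ∈ V)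
    (l : List (Levels.A 𝔛 h𝔛.1 V)),
    RGamma.ide l = JV h𝔛 V ∧ ∀ n, RGamma.Good l ((S h𝔛 hy).obj (K.X n))

theorem quasiIso_Γc_map_of_good {K L : CochainComplex (FSch.ModF 𝔛 h𝔛.1) ℤ} (r : K ⟶ L) [QuasiIso r]
    (hK : GoodCx h𝔛 K) (hL : ∀ i, StInj h𝔛 (L.X i)) : QuasiIso ((Γc h𝔛).map r) := by
  refine Stalk.quasiIso _ fun y => ?_
  obtain ⟨V, hV, hy, l, hl, hg⟩ := hK y
  refine ⟨V, hy, ?_⟩
  haveI : QuasiIso (((S h𝔛 hy).mapHomologicalComplex (.up ℤ)).map r) := inferInstance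
  have h1 := RGamma.quasiIso_gam_map l hl (((S h𝔛 hy).mapHomologicalComplex (.up ℤ)).map r)
    hg (fun i => good h𝔛 hy l hV (hL i))
  let e := NatIso.mapHomologicalComplex (gammaStIso h𝔛 hV hy) (ComplexShape.up ℤ)
  have he : ((S h𝔛 hy).mapHomologicalComplex (.up ℤ)).map ((Γc h𝔛).map r) ≫ (e.app L).hom =
      (e.app K).hom ≫ (RGamma.gam (JV h𝔛 V)).map (((S h𝔛 hy).mapHomologicalComplex (.up ℤ)).map r) :=
    HomologicalComplex.hom_ext _ _ fun i => (gammaStIso h𝔛 hV hy).hom.naturality (r.f i)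
  refine (quasiIso_iff_comp_right _ (e.app L).hom).1 ?_
  exact he ▸ (quasiIso_iff_comp_left (e.app K).hom _).2 h1

theorem isIso_unit_of_good [FTors.HasRgammaT 𝔛 h𝔛.1] (K : CochainComplex (FSch.ModF 𝔛 h𝔛.1) ℤ)
    (hK : GoodCx h𝔛 K) :
    IsIso ((unit (FTors.openIdealFam 𝔛 h𝔛.1)).app (quot.obj K)) := by
  let I := FTors.openIdealFam 𝔛 h𝔛.1
  haveI := DerivedOX.Grothendieck.isGrothendieckAbelian_sheafOfModules
    (ModSite.ringSh (𝔛.Osh h𝔛.1))
  haveI := DerivedOX.RightDerived.isLeftAdjoint_Qh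
    (DerCat.KInjExists.hasKInjRes (A := FSch.ModF 𝔛 h𝔛.1))
  obtain ⟨L, r, hL, hr, hinj⟩ := exists_res h𝔛 K
  haveI := hL
  haveI := quasiIso_Γc_map_of_good h𝔛 r hK hinj
  haveI : IsIso ((FTors.gammaKh I).map (quot.map r)) :=
    (NatIso.isIso_map_iff (khIso I) r).2
      (inferInstanceAs (IsIso (DerivedCategory.Q.map ((Γc h𝔛).map r))))
  haveI : IsIso (DerivedCategory.Qh.map (quot.map r)) :=
    (NatIso.isIso_map_iff (DerivedCategory.quotientCompQhIso _) r).2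
      (inferInstanceAs (IsIso (DerivedCategory.Q.map r)))
  haveI : IsIso ((FTors.Rgamma I).map (DerivedCategory.Qh.map (quot.map r))) := inferInstance
  haveI : IsIso ((unit I).app (quot.obj L)) :=
    DerivedOX.RightDerived.isIso_totalRightDerivedUnit_app_of_isKInjective (FTors.gammaKh I) L
  haveI : IsIso ((unit I).app (quot.obj K) ≫
      (FTors.Rgamma I).map (DerivedCategory.Qh.map (quot.map r))) := by
    rw [show (unit I).app (quot.obj K) ≫ (FTors.Rgamma I).map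
      (DerivedCategory.Qh.map (quot.map r)) = (FTors.gammaKh I).map (quot.map r) ≫
        (unit I).app (quot.obj L) from ((unit I).naturality (quot.map r)).symm]
    infer_instance
  exact IsIso.of_isIso_comp_right _ ((FTors.Rgamma I).map (DerivedCategory.Qh.map (quot.map r)))

end Good

theorem isDTors_Rgamma {X : Scheme.{u}} [IsLocallyNoetherian X] (𝓘 : X.IdealSheafData)
    [FTors.HasRgammaZp X 𝓘] (G : DerivedCategory (ModSite.Mod X.sheaf)) :
    FTors.IsDTorsZp X 𝓘 ((FTors.RgammaZp X 𝓘).obj G) := by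
  let I := FTors.powIdealFam X 𝓘
  haveI := DerivedOX.Grothendieck.isGrothendieckAbelian_sheafOfModules (ModSite.ringSh X.sheaf)
  obtain ⟨L, r, -, hr, -, hinj⟩ :=
    DerCat.KInjExists.exists_kInjective_resolution (DerivedCategory.Q.objPreimage G)
  haveI := hr
  haveI := Scheme'.isIso_unit 𝓘 L fun n => haveI := hinj n; Scheme'.stInj_of_injective _
  let e := (FTors.RgammaZp X 𝓘).mapIso ((DerivedCategory.Q.objObjPreimageIso G).symm ≪≫
    asIso (DerivedCategory.Q.map r)) ≪≫ objIso I L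
  intro i
  refine DCompl.isTors_of_iso I ((DerivedCategory.homologyFunctor _ i).mapIso e ≪≫
    (DerivedCategory.homologyFunctorFactors _ i).app _).symm (fun U s => ?_)
  let K := (gamC I).obj L
  obtain ⟨S, hS, hS'⟩ := ModSiteLoc.Basic.exists_lift (K.homologyπ i) (fun _ : Unit => s)
  refine (Opens.grothendieckTopology _).transitive hS _ fun W g hg => ?_
  obtain ⟨t, ht⟩ := hS' g hg
  let z : ModSite.sect ((FTors.gamma X.sheaf I).obj (L.X i)) W := ap (K.iCycles i) (t ())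
  refine (Opens.grothendieckTopology _).superset_covering ?_ z.2
  rintro W' g' ⟨n, hn⟩
  refine ⟨n, fun W'' g'' a ha => ?_⟩
  have h1 : a • rs (K.X i) g'' (rs (K.X i) g' z) = 0 := Subtype.ext (hn g'' a ha)
  have h2 : a • rs (K.cycles i) g'' (rs (K.cycles i) g' (t ())) = 0 := by
    have hm : Function.Injective (ap (K.iCycles i) (U := W'')) :=
      ModSiteLoc.Basic.injective_ap (K.iCycles i) W''
    refine hm (((map_smul _ a _).trans ?_).trans (map_zero _).symm)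
    rw [ap_rs, ap_rs]
    exact h1
  have h3 := congrArg (ap (K.homologyπ i) (U := W'')) h2
  rw [map_zero, map_smul, ap_rs, ap_rs, ht ()] at h3
  refine Eq.trans (congrArg (a • ·) ?_) h3
  exact congrArg (rs (K.homology i) g'') (rs_rs g g' s).symm

namespace PullGood

variable {X : Scheme.{u}} [IsLocallyNoetherian X] {𝔛 : FSch.Sys.{u}} (h𝔛 : 𝔛.IsLocNoethFormal)
  (p : ∀ n, 𝔛.X n ⟶ X) (hp : ∀ n, 𝔛.ι n ≫ p (n + 1) = p n) [∀ k, IsClosedImmersion (p k)]
  {V : X.Opens} (hV : IsAffineOpen V) {x : 𝔛.X 0} (hy : (p 0).base x ∈ V) (𝓘 : X.IdealSheafData)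
  (hker : ∀ k (U : X.affineOpens), (p k).ker.ideal U = 𝓘.ideal U ^ (k + 1))

theorem Θ_natural {N N' : ModSite.Mod X.sheaf} (g : N ⟶ N')
    (z : PullStalk.Br h𝔛 p hp hy ⊗[Scheme'.secR V] (PullStalk.E p hy N : Type u)) :
    (Stalk.St (𝔛.Osh h𝔛.1) (U := ComplSec.pre p V) hy).map ((Compl.κ h𝔛 p hp).pull.map g)
        (PullStalk.Θ h𝔛 p hp hy N z) =
      PullStalk.Θ h𝔛 p hp hy N' (((Stalk.St X.sheaf hy).map g).hom.baseChange _ z) := by
  let F := (Stalk.St (𝔛.Osh h𝔛.1) (U := ComplSec.pre p V) hy).map ((Compl.κ h𝔛 p hp).pull.map g)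
  induction z with
  | zero => exact (congrArg F (map_zero _)).trans ((map_zero F.hom).trans ((congrArg _ (map_zero _)).trans (map_zero _)).symm)
  | add z z' hz hz' =>
    exact (congrArg F (map_add _ z z')).trans ((map_add F.hom _ _).trans
      ((congrArg₂ (· + ·) hz hz').trans ((congrArg _ (map_add _ z z')).trans (map_add _ _ _)).symm))
  | tmul b e =>
    obtain ⟨W, eW, hW, m, rfl⟩ := Stalk.exists_gS hy e
    rw [LinearMap.baseChange_tmul, PullStalk.Θ, PullStalk.Θ, LinearMap.liftBaseChange_tmul,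
      LinearMap.liftBaseChange_tmul]
    refine ((ModSite.stalkMap (pt x) ((Compl.κ h𝔛 p hp).pull.map g)).hom.map_smul
      (show ModSite.stalkRing (pt x) (𝔛.Osh h𝔛.1) from b) _).trans ?_
    refine congrArg (fun w : PullStalk.Mr h𝔛 p hp hy ((Compl.κ h𝔛 p hp).pull.obj N') => b • w) ?_
    rw [Stalk.map_gS]
    refine Eq.trans ?_ (PullStalk.unitX_gE h𝔛 p hp hy N' hW _).symm
    refine (congrArg _ (PullStalk.unitX_gE h𝔛 p hp hy N hW m)).trans ?_
    refine (gm_ap ((Compl.κ h𝔛 p hp).pull.map g) (U := ComplSec.pre p W) hW _).trans ?_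
    exact congrArg (gm ((Compl.κ h𝔛 p hp).pull.obj N') (U := ComplSec.pre p W) hW)
      (congrArg (fun q => q.val.app (op W) m) ((Compl.κ h𝔛 p hp).adj.unit.naturality g).symm)

include hker hV in
/-- Stalks of inverse images of stalkwise injective modules are good. -/
theorem good_pull (l : List (Scheme'.secR V)) (N : ModSite.Mod X.sheaf) (hN : Scheme'.StInj N) :
    RGamma.Good (l.map (Compl.sh h𝔛 p hp V))
      ((Good.S h𝔛 (V := ComplSec.pre p V) hy).obj ((Compl.κ h𝔛 p hp).pull.obj N)) := by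
  haveI := Scheme'.isNoetherianRing hV
  haveI := PullStalk.flat_Br h𝔛 p hp hy hV 𝓘 hker
  have h1 := RGamma.good_bc (PullStalk.Br h𝔛 p hp hy) l (PullStalk.E p hy N)
    (RGamma.good_of_injective l _ (hN V hV _ hy))
  have h2 := RGamma.good_of_iso _ (N := ModuleCat.of (PullStalk.Br h𝔛 p hp hy)
    (PullStalk.Mr h𝔛 p hp hy ((Compl.κ h𝔛 p hp).pull.obj N)))
    (LinearEquiv.ofBijective _ (PullStalk.Θ_bijective h𝔛 p hp hy hV N)).toModuleIso h1
  letI : Algebra (Levels.A 𝔛 h𝔛.1 (ComplSec.pre p V)) (ModSite.stalkRing (pt x) (𝔛.Osh h𝔛.1)) :=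
    (PullStalk.gB h𝔛 p hy).toAlgebra
  refine RGamma.good_res (ModSite.stalkRing (pt x) (𝔛.Osh h𝔛.1)) (l.map (Compl.sh h𝔛 p hp V))
    (ModSite.stalkMod (pt x) ((Compl.κ h𝔛 p hp).pull.obj N)) ?_
  rw [List.map_map]
  exact h2

include hker hV in
/-- Torsion elements of the stalk of an inverse image come from the torsion submodule. -/
theorem exists_preimage (N : ModSite.Mod X.sheaf)
    (z : ((Good.S h𝔛 (V := ComplSec.pre p V) hy).obj ((Compl.κ h𝔛 p hp).pull.obj N) : Type u))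
    (hz : z ∈ DRing.torsionSub (Good.JV h𝔛 (ComplSec.pre p V))
      ((Good.S h𝔛 (V := ComplSec.pre p V) hy).obj ((Compl.κ h𝔛 p hp).pull.obj N) : Type u)) :
    ∃ v, (Good.S h𝔛 (V := ComplSec.pre p V) hy).map
      ((Compl.κ h𝔛 p hp).pull.map ((FTors.gammaZpι X 𝓘).app N)) v = z := by
  haveI := Scheme'.isNoetherianRing hV
  haveI := PullStalk.flat_Br h𝔛 p hp hy hV 𝓘 hker
  let B := PullStalk.Br h𝔛 p hp hy
  let Θ := LinearEquiv.ofBijective _ (PullStalk.Θ_bijective h𝔛 p hp hy hV N)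
  let t := Θ.symm z
  have ht : t ∈ DRing.torsionSub ((Scheme'.IV 𝓘 hV).map (algebraMap (Scheme'.secR V) B))
      (B ⊗[Scheme'.secR V] (PullStalk.E p hy N : Type u)) := by
    obtain ⟨n, hn⟩ := hz
    refine ⟨n, fun b hb => ?_⟩
    rw [← Ideal.map_pow] at hb
    induction hb using Submodule.span_induction with
    | mem b hb =>
      obtain ⟨a, ha, rfl⟩ := hb
      refine Θ.injective ((Θ.map_smul _ t).trans (Eq.trans ?_ (map_zero Θ).symm))
      rw [Θ.apply_symm_apply]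
      refine hn (Compl.sh h𝔛 p hp V a) ?_
      have hm : Compl.sh h𝔛 p hp V a ∈
          (Scheme'.IV 𝓘 hV ^ n).map (Compl.sh h𝔛 p hp V) := Ideal.mem_map_of_mem _ ha
      rw [Ideal.map_pow] at hm
      exact Compl.map_IV h𝔛 p hp 𝓘 hker hV ▸ hm
    | zero => exact zero_smul _ _
    | add b c _ _ hb hc => exact (add_smul b c _).trans (by rw [hb, hc, add_zero])
    | smul r b _ hb => exact (mul_smul r b _).trans (by rw [hb, smul_zero])
  rw [← LocalCoh.range_baseChange_torsionSub B (Scheme'.IV 𝓘 hV)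
    (PullStalk.E p hy N : Type u)] at ht
  obtain ⟨w, hw⟩ := ht
  let e := Scheme'.gammaStEquiv 𝓘 hV hy N
  refine ⟨PullStalk.Θ h𝔛 p hp hy _ (e.symm.toLinearMap.baseChange B w), ?_⟩
  refine (Θ_natural h𝔛 p hp hy ((FTors.gammaZpι X 𝓘).app N) _).trans ?_
  refine Eq.trans ?_ (Θ.apply_symm_apply z)
  refine congrArg (PullStalk.Θ h𝔛 p hp hy N) (Eq.trans ?_ hw)
  refine (LinearMap.congr_fun (LinearMap.baseChange_comp e.symm.toLinearMap
    ((Stalk.St X.sheaf hy).map ((FTors.gammaZpι X 𝓘).app N)).hom (R := Scheme'.secR V) (A := B)).symm w).trans ?_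
  refine congrArg (fun q => LinearMap.baseChange B q w) (LinearMap.ext fun m => ?_)
  exact congrArg Subtype.val (e.apply_symm_apply m)

variable [PreservesFiniteLimits (Compl.κ h𝔛 p hp).pull]

include hker in
/-- `κ^*` commutes with the torsion functors. -/
theorem exists_gamma_iso (N : ModSite.Mod X.sheaf) :
    ∃ α : (Compl.κ h𝔛 p hp).pull.obj ((FTors.gammaZp X 𝓘).obj N) ≅
        (FTors.gammaT 𝔛 h𝔛.1).obj ((Compl.κ h𝔛 p hp).pull.obj N),
      α.hom ≫ (FTors.gammaTι 𝔛 h𝔛.1).app ((Compl.κ h𝔛 p hp).pull.obj N) =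
        (Compl.κ h𝔛 p hp).pull.map ((FTors.gammaZpι X 𝓘).app N) := by
  let f := Compl.κ h𝔛 p hp
  let M := f.pull.obj ((FTors.gammaZp X 𝓘).obj N)
  have hΓ : FTors.IsTorsZp X 𝓘 ((FTors.gammaZp X 𝓘).obj N) := fun U s => by
    refine (Opens.grothendieckTopology _).superset_covering ?_ s.2
    rintro U' g ⟨n, hn⟩
    exact ⟨n, fun U'' g' a ha => Subtype.ext (hn g' a ha)⟩
  haveI := TorsClosure.isIso_gammaTι (PullTors.isTorsF_pull 𝓘 h𝔛 p hp hker hΓ)
  haveI := Scheme'.mono_gammaι 𝓘 N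
  haveI : Mono (f.pull.map ((FTors.gammaZpι X 𝓘).app N)) := inferInstance
  let a : M ⟶ (FTors.gammaT 𝔛 h𝔛.1).obj (f.pull.obj N) :=
    inv ((FTors.gammaTι 𝔛 h𝔛.1).app M) ≫
      (FTors.gammaT 𝔛 h𝔛.1).map (f.pull.map ((FTors.gammaZpι X 𝓘).app N))
  have ha : a ≫ (FTors.gammaTι 𝔛 h𝔛.1).app (f.pull.obj N) =
      f.pull.map ((FTors.gammaZpι X 𝓘).app N) :=
    (Category.assoc _ _ _).trans ((IsIso.inv_comp_eq _).2
      ((FTors.gammaTι 𝔛 h𝔛.1).naturality (f.pull.map ((FTors.gammaZpι X 𝓘).app N))))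
  haveI : Mono a := mono_of_mono_fac ha
  haveI : IsIso a := by
    refine Stalk.isIso _ fun x => ?_
    obtain ⟨V, hV, hx⟩ := Compl.exists_affine ((p 0).base x)
    have hW := ComplSec.isAffineOpen_pre p hV
    refine ⟨ComplSec.pre p V, hx, (ConcreteCategory.isIso_iff_bijective _).2
      ⟨(ModuleCat.mono_iff_injective _).1 inferInstance, fun w => ?_⟩⟩
    obtain ⟨v, hv⟩ := exists_preimage h𝔛 p hp hV hx 𝓘 hker N _
      (Good.map_gammaι_mem h𝔛 hW hx (f.pull.obj N) w)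
    refine ⟨v, ?_⟩
    haveI := TorsLevel.mono_gammaι (FTors.openIdealFam 𝔛 h𝔛.1) (f.pull.obj N)
    refine (ModuleCat.mono_iff_injective
      ((Good.S h𝔛 (V := ComplSec.pre p V) hx).map ((FTors.gammaTι 𝔛 h𝔛.1).app (f.pull.obj N)))).1
      inferInstance ?_
    refine Eq.trans ?_ hv
    exact (ConcreteCategory.congr_hom (((Good.S h𝔛 (V := ComplSec.pre p V) hx).map_comp _ _).symm.trans
      (congrArg (Good.S h𝔛 (V := ComplSec.pre p V) hx).map ha)) v)
  exact ⟨asIso a, ha⟩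

variable [FTors.HasRgammaT 𝔛 h𝔛.1] [FTors.HasRgammaZp X 𝓘]

/-- `κ^*` on derived categories. -/
noncomputable abbrev P : DerivedCategory (ModSite.Mod X.sheaf) ⥤ DerivedCategory (FSch.ModF 𝔛 h𝔛.1) :=
  SiteCmp.pullD (Compl.κ h𝔛 p hp)

include hker in
theorem exists_iso (F : DerivedCategory (ModSite.Mod X.sheaf)) :
    ∃ e : (P h𝔛 p hp).obj ((FTors.RgammaZp X 𝓘).obj F) ≅
        (FTors.RgammaT 𝔛 h𝔛.1).obj ((P h𝔛 p hp).obj F),
      e.hom ≫ (FTors.RgammaTε 𝔛 h𝔛.1).app ((P h𝔛 p hp).obj F) =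
        (P h𝔛 p hp).map ((FTors.RgammaZpε X 𝓘).app F) := by
  let f := Compl.κ h𝔛 p hp
  let IF := FTors.openIdealFam 𝔛 h𝔛.1
  let IZ := FTors.powIdealFam X 𝓘
  let C := f.pull.mapHomologicalComplex (ComplexShape.up ℤ)
  haveI := DerivedOX.Grothendieck.isGrothendieckAbelian_sheafOfModules (ModSite.ringSh X.sheaf)
  obtain ⟨L, r, hL', hr, -, hinj⟩ :=
    DerCat.KInjExists.exists_kInjective_resolution (DerivedCategory.Q.objPreimage F)
  haveI := hr
  have hL : ∀ n, Scheme'.StInj (L.X n) := fun n => haveI := hinj n; Scheme'.stInj_of_injective _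
  let eF : F ≅ DerivedCategory.Q.obj L :=
    (DerivedCategory.Q.objObjPreimageIso F).symm ≪≫ asIso (DerivedCategory.Q.map r)
  haveI := Scheme'.isIso_unit 𝓘 L hL
  haveI : IsIso ((unit IF).app (quot.obj (C.obj L))) := Good.isIso_unit_of_good h𝔛 _ fun x => by
    obtain ⟨V, hV, hx⟩ := Compl.exists_affine ((p 0).base x)
    haveI := Scheme'.isNoetherianRing hV
    obtain ⟨l, hl⟩ := RGamma.exists_ide_eq (IsNoetherian.noetherian (Scheme'.IV 𝓘 hV))
    refine ⟨ComplSec.pre p V, ComplSec.isAffineOpen_pre p hV, hx, l.map (Compl.sh h𝔛 p hp V), ?_,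
      fun n => good_pull h𝔛 p hp hV hx 𝓘 hker l _ (hL n)⟩
    letI := (Compl.sh h𝔛 p hp V).toAlgebra
    refine (RGamma.ide_map (B := Levels.A 𝔛 h𝔛.1 (ComplSec.pre p V)) l).trans ?_
    rw [hl]
    exact Compl.map_IV h𝔛 p hp 𝓘 hker hV
  choose α hα using fun n => exists_gamma_iso h𝔛 p hp 𝓘 hker (L.X n)
  haveI : ∀ n, Mono ((FTors.gammaι IF).app (f.pull.obj (L.X n))) := fun n =>
    TorsLevel.mono_gammaι IF (f.pull.obj (L.X n))
  let φ : C.obj ((gamC IZ).obj L) ≅ (gamC IF).obj (C.obj L) :=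
    HomologicalComplex.Hom.isoOfComponents α fun i j _ => by
      refine (cancel_mono ((FTors.gammaι IF).app (f.pull.obj (L.X j)))).1 ?_
      refine (Category.assoc _ _ _).trans (Eq.trans ?_ (Category.assoc _ _ _).symm)
      refine ((congrArg ((α i).hom ≫ ·) ((FTors.gammaι IF).naturality (f.pull.map (L.d i j)))).trans
        ((Category.assoc _ _ _).symm.trans ((congrArg (· ≫ f.pull.map (L.d i j)) (hα i)).trans
          ((f.pull.map_comp _ _).symm.trans ?_))))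
      refine Eq.trans ?_ (congrArg (((C.obj ((gamC IZ).obj L)).d i j) ≫ ·) (hα j)).symm
      exact (congrArg f.pull.map ((FTors.gammaι IZ).naturality (L.d i j)).symm).trans
        (f.pull.map_comp _ _)
  have hφ : φ.hom ≫ gamι IF (C.obj L) = C.map (gamι IZ L) :=
    HomologicalComplex.hom_ext _ _ fun n => hα n
  let q := f.pull.mapDerivedCategoryFactors
  let R := FTors.RgammaT 𝔛 h𝔛.1
  refine ⟨(P h𝔛 p hp).mapIso ((FTors.RgammaZp X 𝓘).mapIso eF ≪≫ objIso IZ L) ≪≫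
    q.app ((gamC IZ).obj L) ≪≫ DerivedCategory.Q.mapIso φ ≪≫ (objIso IF (C.obj L)).symm ≪≫
    R.mapIso ((P h𝔛 p hp).mapIso eF ≪≫ q.app L).symm, ?_⟩
  rw [← cancel_mono ((P h𝔛 p hp).map eF.hom ≫ q.hom.app L)]
  have h1 : (FTors.RgammaTε 𝔛 h𝔛.1).app ((P h𝔛 p hp).obj F) ≫ ((P h𝔛 p hp).map eF.hom ≫ q.hom.app L) =
      R.map ((P h𝔛 p hp).map eF.hom ≫ q.hom.app L) ≫
        (objIso IF (C.obj L)).hom ≫ DerivedCategory.Q.map (gamι IF (C.obj L)) :=
    ((FTors.RgammaTε 𝔛 h𝔛.1).naturality _).symm.trans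
      (congrArg (R.map ((P h𝔛 p hp).map eF.hom ≫ q.hom.app L) ≫ ·) (ε_app_eq IF (C.obj L)))
  refine (Category.assoc _ _ _).trans ((congrArg (_ ≫ ·) h1).trans ?_)
  have h2 : (FTors.RgammaZpε X 𝓘).app F ≫ eF.hom =
      (FTors.RgammaZp X 𝓘).map eF.hom ≫ (objIso IZ L).hom ≫ DerivedCategory.Q.map (gamι IZ L) :=
    ((FTors.RgammaZpε X 𝓘).naturality eF.hom).symm.trans
      (congrArg ((FTors.RgammaZp X 𝓘).map eF.hom ≫ ·) (ε_app_eq IZ L))
  refine Eq.trans ?_ ((congrArg (· ≫ q.hom.app L)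
    (((P h𝔛 p hp).map_comp _ _).symm.trans (congrArg (P h𝔛 p hp).map h2))).symm.trans
      (Category.assoc _ _ _))
  simp only [Iso.trans_hom, Functor.mapIso_hom, Iso.symm_hom, Iso.app_hom, Iso.trans_inv,
    Functor.mapIso_inv, Iso.app_inv, Functor.map_comp, Category.assoc]
  rw [f.pull.mapDerivedCategoryFactors_hom_naturality (gamι IZ L), ← hφ]
  simp [R]
  rfl

include hker in
theorem existsUnique_iso (F : DerivedCategory (ModSite.Mod X.sheaf)) :
    ∃! e : (P h𝔛 p hp).obj ((FTors.RgammaZp X 𝓘).obj F) ≅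
        (FTors.RgammaT 𝔛 h𝔛.1).obj ((P h𝔛 p hp).obj F),
      e.hom ≫ (FTors.RgammaTε 𝔛 h𝔛.1).app ((P h𝔛 p hp).obj F) =
        (P h𝔛 p hp).map ((FTors.RgammaZpε X 𝓘).app F) := by
  obtain ⟨e, he⟩ := exists_iso h𝔛 p hp 𝓘 hker F
  refine ⟨e, he, fun e' he' => Iso.ext ?_⟩
  exact (bijective_comp h𝔛 _ ((P h𝔛 p hp).obj F)
    (isDTorsF_of_iso h𝔛 e.symm (isDTorsF_RgammaT h𝔛 _))).1 (he'.trans he.symm)

include hker in
/-- `κ^*` is fully faithful when source or target has torsion cohomology. -/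
theorem bijective_pullD (E F : DerivedCategory (ModSite.Mod X.sheaf))
    (hEF : FTors.IsDTorsZp X 𝓘 E ∨ FTors.IsDTorsZp X 𝓘 F) :
    Function.Bijective (fun φ : E ⟶ F => (P h𝔛 p hp).map φ) := by
  haveI := Compl.preservesFiniteColimits_push h𝔛 p hp
  haveI := Push.preservesFiniteLimits_push (Compl.κ h𝔛 p hp)
  have hleft : ∀ (E' F' : DerivedCategory (ModSite.Mod X.sheaf)), FTors.IsDTorsZp X 𝓘 F' →
      Function.Bijective (fun φ : E' ⟶ F' => (P h𝔛 p hp).map φ) := fun E' F' hF' =>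
    ExactAdj.bijective_map_left (Compl.κ h𝔛 p hp).adj E' F' fun i =>
      PullTors.isIso_unit 𝓘 h𝔛 p hp hker (hF' i)
  rcases hEF with hE | hF
  swap
  · exact hleft E F hF
  let Z := FTors.RgammaZp X 𝓘
  let ε := FTors.RgammaZpε X 𝓘
  let εT := FTors.RgammaTε 𝔛 h𝔛.1
  have htors : ∀ G, FTors.IsDTorsZp X 𝓘 (Z.obj G) := fun G => isDTors_Rgamma 𝓘 G
  obtain ⟨eE, heE⟩ := exists_iso h𝔛 p hp 𝓘 hker E
  obtain ⟨eF, heF⟩ := exists_iso h𝔛 p hp 𝓘 hker F
  have hPE : FTors.IsDTorsF 𝔛 h𝔛.1 ((P h𝔛 p hp).obj E) := fun i => by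
    obtain ⟨e⟩ := DCompl.nonempty_hMod_pullD h𝔛 p hp E i
    exact DCompl.isTors_of_iso _ e.symm (PullTors.isTorsF_pull 𝓘 h𝔛 p hp hker (hE i))
  haveI := (isDTorsF_iff h𝔛 _).1 hPE
  haveI : IsIso ((P h𝔛 p hp).map (ε.app E)) := heE ▸ inferInstance
  obtain ⟨s, hs⟩ := (hleft E (Z.obj E) (htors E)).2 (inv ((P h𝔛 p hp).map (ε.app E)))
  have hs1 : s ≫ ε.app E = 𝟙 E := (hleft E E hE).1
    (((P h𝔛 p hp).map_comp _ _).trans ((congrArg (· ≫ (P h𝔛 p hp).map (ε.app E)) hs).trans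
      ((IsIso.inv_hom_id _).trans ((P h𝔛 p hp).map_id E).symm)))
  have hfac : ∀ φ : E ⟶ F, (s ≫ Z.map φ) ≫ ε.app F = φ := fun φ =>
    (Category.assoc _ _ _).trans ((congrArg (s ≫ ·) (ε.naturality φ)).trans
      ((Category.assoc _ _ _).symm.trans ((congrArg (· ≫ φ) hs1).trans (Category.id_comp φ))))
  have hb := bijective_comp h𝔛 _ ((P h𝔛 p hp).obj F) hPE
  have hcomp : ∀ a : E ⟶ Z.obj F, (P h𝔛 p hp).map (a ≫ ε.app F) =
      ((P h𝔛 p hp).map a ≫ eF.hom) ≫ εT.app ((P h𝔛 p hp).obj F) := fun a =>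
    ((P h𝔛 p hp).map_comp _ _).trans ((congrArg ((P h𝔛 p hp).map a ≫ ·) heF.symm).trans
      (Category.assoc _ _ _).symm)
  refine ⟨fun φ φ' h => ?_, fun ψ => ?_⟩
  · have h1 : (P h𝔛 p hp).map ((s ≫ Z.map φ) ≫ ε.app F) =
        (P h𝔛 p hp).map ((s ≫ Z.map φ') ≫ ε.app F) := by rw [hfac, hfac]; exact h
    have h2 := hb.1 ((hcomp _).symm.trans (h1.trans (hcomp _)))
    rw [← hfac φ, ← hfac φ', (hleft E (Z.obj F) (htors F)).1 ((cancel_mono eF.hom).1 h2)]
  · obtain ⟨c, hc⟩ := hb.2 ψ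
    obtain ⟨a, ha⟩ := (hleft E (Z.obj F) (htors F)).2 (c ≫ eF.inv)
    refine ⟨a ≫ ε.app F, (hcomp a).trans (Eq.trans ?_ hc)⟩
    refine congrArg (· ≫ εT.app ((P h𝔛 p hp).obj F)) ?_
    exact (congrArg (· ≫ eF.hom) ha).trans ((Category.assoc _ _ _).trans
      ((congrArg (c ≫ ·) eF.inv_hom_id).trans (Category.comp_id c)))

end PullGood

end Groth.Agent.H22.Gam
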