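import Groth.Agent.H22.Gam.PullTors
import Groth.Agent.Lib.StalkPullTensor28.Rings
import Groth.Agent.Lib.RGamma.Change

/-!
# Stalks of inverse images along a completion are flat base changes (helper22)
-/

set_option autoImplicit false
set_option maxHeartbeats 1000000
set_option linter.style.haveILetI false
set_option linter.unusedSectionVars false

universe u

open CategoryTheory CategoryTheory.Limits AlgebraicGeometry TopologicalSpace Opposite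
open Groth.Agent.H30 Groth.Agent.Lib
open Groth.Agent.Lib.ModSiteLoc.Basic Groth.Agent.Lib.ModSiteLoc.Top
open TensorProduct

namespace Groth.Agent.H22.Gam.PullStalk

variable {X : Scheme.{u}} [IsLocallyNoetherian X] {𝔛 : FSch.Sys.{u}} (h𝔛 : 𝔛.IsLocNoethFormal)
  (p : ∀ n, 𝔛.X n ⟶ X) (hp : ∀ n, 𝔛.ι n ≫ p (n + 1) = p n) [∀ k, IsClosedImmersion (p k)]
  {V : X.Opens} {x : 𝔛.X 0} (hy : (p 0).base x ∈ V)

/-- The germ map on the formal scheme. -/
noncomputable abbrev gB : Levels.A 𝔛 h𝔛.1 (ComplSec.pre p V) →+* ModSite.stalkRing (pt x) (𝔛.Osh h𝔛.1) :=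
  gr (𝔛.Osh h𝔛.1) (U := ComplSec.pre p V) hy

/-- The map from sections downstairs to the stalk upstairs. -/
noncomputable def φ : Scheme'.secR V →+* ModSite.stalkRing (pt x) (𝔛.Osh h𝔛.1) :=
  (gB h𝔛 p hy).comp (Compl.sh h𝔛 p hp V)

/-- The stalk of the formal scheme, as an algebra over sections of the scheme. -/
def Br : Type u :=
  (fun (_ : ∀ n, 𝔛.ι n ≫ p (n + 1) = p n) (_ : (p 0).base x ∈ V) =>
    (ModSite.stalkRing (pt x) (𝔛.Osh h𝔛.1) : Type u)) hp hy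

noncomputable instance : CommRing (Br h𝔛 p hp hy) :=
  inferInstanceAs (CommRing (ModSite.stalkRing (pt x) (𝔛.Osh h𝔛.1)))

noncomputable instance : Algebra (Scheme'.secR V) (Br h𝔛 p hp hy) := (φ h𝔛 p hp hy).toAlgebra

theorem φ_res {W : X.Opens} (e : W ≤ V) (hW : (p 0).base x ∈ W) (a : Scheme'.secR V) :
    gr (𝔛.Osh h𝔛.1) (U := ComplSec.pre p W) hW (Compl.sh h𝔛 p hp W (rr X.sheaf (homOfLE e) a)) =
      φ h𝔛 p hp hy a :=
  (congrArg (gr (𝔛.Osh h𝔛.1) (U := ComplSec.pre p W) hW) (ComplPull.shA_res h𝔛 p hp e a).symm).trans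
    (gr_rr (homOfLE ((p 0).preimage_mono e)) hW hy _)

variable (hV : IsAffineOpen V) (𝓘 : X.IdealSheafData)
  (hker : ∀ k (U : X.affineOpens), (p k).ker.ideal U = 𝓘.ideal U ^ (k + 1))

include hV hker in
/-- The stalk of the completion is flat. -/
theorem flat_Br : Module.Flat (Scheme'.secR V) (Br h𝔛 p hp hy) := by
  refine Module.Flat.of_forall_isTrivialRelation fun {l} a y hay => ?_
  obtain ⟨W, -, hW, t, ht⟩ := exists_gr (O := 𝔛.Osh h𝔛.1) (U := ComplSec.pre p V) (x := x) hy y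
  obtain ⟨W₁, -, e₁, hxW₁, hW₁⟩ := ComplPull.exists_affine_pre p hW (U := V) hy
  let t₁ : Fin l → Levels.A 𝔛 h𝔛.1 (ComplSec.pre p W₁) := fun j =>
    rr (𝔛.Osh h𝔛.1) (homOfLE hW₁) (t j)
  let r₁ : Fin l → Scheme'.secR W₁ := fun j => rr X.sheaf (homOfLE e₁) (a j)
  have h0 : gr (𝔛.Osh h𝔛.1) (U := ComplSec.pre p W₁) hxW₁
      (∑ j, t₁ j * Compl.sh h𝔛 p hp W₁ (r₁ j)) =
      gr (𝔛.Osh h𝔛.1) (U := ComplSec.pre p W₁) hxW₁ 0 := by
    rw [map_sum, map_zero]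
    refine Eq.trans (Finset.sum_congr rfl fun j _ => ?_) hay
    rw [map_mul, φ_res h𝔛 p hp hy e₁ hxW₁]
    refine Eq.trans (congrArg (· * φ h𝔛 p hp hy (a j)) ((gr_rr _ hxW₁ hW (t j)).trans (ht j))) ?_
    exact mul_comm _ _
  obtain ⟨W', eW', hxW', hW'⟩ :=
    exists_rr_eq (O := 𝔛.Osh h𝔛.1) (U := ComplSec.pre p W₁) (x := x) hxW₁ (fun _ : Unit => _)
      (fun _ : Unit => _) (fun _ => h0)
  obtain ⟨W₂, hW₂, e₂, hxW₂, hW₂'⟩ := ComplPull.exists_affine_pre p hxW' (U := W₁) hxW₁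
  let t₂ : Fin l → Levels.A 𝔛 h𝔛.1 (ComplSec.pre p W₂) := fun j =>
    rr (𝔛.Osh h𝔛.1) (homOfLE ((p 0).preimage_mono e₂)) (t₁ j)
  let r₂ : Fin l → Scheme'.secR W₂ := fun j => rr X.sheaf (homOfLE (e₂.trans e₁)) (a j)
  have hrel : ∑ j, t₂ j * ComplPull.shA h𝔛 p hp W₂ (r₂ j) = 0 := by
    have h1 := congrArg (rr (𝔛.Osh h𝔛.1) (homOfLE hW₂')) (hW' ())
    rw [map_zero, map_zero, rr_rr, map_sum] at h1
    refine Eq.trans (Finset.sum_congr rfl fun j _ => ?_) h1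
    rw [map_mul]
    refine congrArg₂ (· * ·) rfl ?_
    refine (congrArg (ComplPull.shA h𝔛 p hp W₂) (rr_rr (homOfLE e₁) (homOfLE e₂) (a j)).symm).trans ?_
    exact (ComplPull.shA_res h𝔛 p hp e₂ (r₁ j)).symm
  haveI := Scheme'.isNoetherianRing hV
  let ψ : (Fin l → Scheme'.secR V) →ₗ[Scheme'.secR V] Scheme'.secR V :=
    Fintype.linearCombination _ a
  obtain ⟨m, s, hs⟩ := Submodule.fg_iff_exists_fin_generating_family.1
    (IsNoetherian.noetherian (LinearMap.ker ψ))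
  obtain ⟨d, hd⟩ := ComplFlat.exists_ring_rel h𝔛 p hp (Compl.hker₀ p 𝓘 hker) hW₂ r₂
    (fun i j => rr X.sheaf (homOfLE (e₂.trans e₁)) (s i j))
    (fun c hc => Scheme'.exact_of_le hV a s (fun b hb => by
      have hm : b ∈ LinearMap.ker ψ :=
        LinearMap.mem_ker.2 ((Fintype.linearCombination_apply _ a b).trans hb)
      rw [← hs, Submodule.mem_span_range_iff_exists_fun] at hm
      obtain ⟨d, hd⟩ := hm
      exact ⟨d, fun i => by rw [← hd]; simp⟩) hW₂ (e₂.trans e₁) c hc)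
    t₂ hrel
  refine ⟨m, fun j i => s i j,
    fun i => gr (𝔛.Osh h𝔛.1) (U := ComplSec.pre p W₂) hxW₂ (d i), fun j => ?_, fun i => ?_⟩
  · refine ((ht j).symm.trans (gr_rr (homOfLE hW₁) hxW₁ hW (t j)).symm).trans ?_
    refine (gr_rr (homOfLE ((p 0).preimage_mono e₂)) hxW₂ hxW₁ (t₁ j)).symm.trans ?_
    refine ((congrArg _ (hd j)).trans (map_sum _ _ _)).trans (Finset.sum_congr rfl fun i _ => ?_)
    refine (map_mul _ _ _).trans ((mul_comm _ _).trans ?_)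
    exact congrArg (· * gr (𝔛.Osh h𝔛.1) (U := ComplSec.pre p W₂) hxW₂ (d i))
      (φ_res h𝔛 p hp hy (e₂.trans e₁) hxW₂ (s i j))
  · have := LinearMap.mem_ker.1 (hs ▸ Submodule.subset_span ⟨i, rfl⟩ : s i ∈ LinearMap.ker ψ)
    simpa [ψ, Fintype.linearCombination_apply, mul_comm] using this

/-- The stalk map. -/
noncomputable abbrev σx : ModSite.stalkRing (pt ((p 0).base x)) X.sheaf →+*
    ModSite.stalkRing (pt x) (𝔛.Osh h𝔛.1) :=
  StalkPullTensor28.Rings.σ (f := (p 0).base) (O_X := 𝔛.Osh h𝔛.1) (O_Y := X.sheaf)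
    (FSch.schSharp 𝔛 h𝔛.1 p hp) x

theorem σx_gr {W : X.Opens} (hW : (p 0).base x ∈ W) (r : Scheme'.secR W) :
    σx h𝔛 p hp (gr X.sheaf hW r) =
      gr (𝔛.Osh h𝔛.1) (U := ComplSec.pre p W) hW (Compl.sh h𝔛 p hp W r) :=
  StalkPullTensor28.Rings.σ_gr (f := (p 0).base) (O_X := 𝔛.Osh h𝔛.1) (O_Y := X.sheaf)
    (FSch.schSharp 𝔛 h𝔛.1 p hp) x hW r

include hV in
theorem exists_frac {W : X.Opens} (e : W ≤ V) (hW : (p 0).base x ∈ W) (g : Scheme'.secR W) :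
    ∃ a s : Scheme'.secR V, IsUnit (gr X.sheaf hy s) ∧
      gr X.sheaf hW g * gr X.sheaf hy s = gr X.sheaf hy a := by
  obtain ⟨f, hfW, hyf⟩ := hV.exists_basicOpen_le (V := W) ⟨(p 0).base x, hW⟩ hy
  haveI := hV.isLocalization_basicOpen f
  obtain ⟨⟨a, s⟩, has⟩ := IsLocalization.surj (Submonoid.powers f)
    (show Γ(X, X.basicOpen f) from rr X.sheaf (homOfLE hfW) g)
  refine ⟨a, s.1, ?_, ?_⟩
  · have hu : IsUnit (rr X.sheaf (homOfLE (X.basicOpen_le f)) s.1) :=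
      IsLocalization.map_units (Γ(X, X.basicOpen f)) s
    have h2 := hu.map (gr X.sheaf (U := X.basicOpen f) (x := (p 0).base x) hyf)
    exact (gr_rr (O := X.sheaf) (homOfLE (X.basicOpen_le f)) hyf hy s.1) ▸ h2
  · have h1 := congrArg (gr X.sheaf (U := X.basicOpen f) (x := (p 0).base x) hyf) has
    replace h1 := (map_mul _ _ _).symm.trans h1
    refine Eq.trans ?_ (Eq.trans (b := gr X.sheaf hyf (rr X.sheaf (homOfLE (X.basicOpen_le f)) a)) h1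
      (gr_rr (O := X.sheaf) (homOfLE (X.basicOpen_le f)) hyf hy a))
    exact congrArg₂ (· * ·) (gr_rr (homOfLE hfW) hyf hW g).symm
      (gr_rr (O := X.sheaf) (homOfLE (X.basicOpen_le f)) hyf hy s.1).symm

/-- The stalk downstairs. -/
noncomputable abbrev E (N : ModSite.Mod X.sheaf) : ModuleCat.{u} (Scheme'.secR V) :=
  (Stalk.St X.sheaf hy).obj N

/-- A germ downstairs. -/
noncomputable abbrev gE (N : ModSite.Mod X.sheaf) {W : X.Opens} (hW : (p 0).base x ∈ W) :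
    ModSite.sect N W →+ (E p hy N : Type u) := Stalk.gS hy N hW

include hV in
/-- The tensor product is balanced over the stalk. -/
theorem balance (N : ModSite.Mod X.sheaf) (b : Br h𝔛 p hp hy) {d : X.Opens}
    (hd : (p 0).base x ∈ d) (r : Scheme'.secR d) (m : ModSite.sect N d) :
    b ⊗ₜ[Scheme'.secR V] gE p hy N hd (r • m) =
      ((show Br h𝔛 p hp hy from σx h𝔛 p hp (gr X.sheaf hd r)) * b) ⊗ₜ[Scheme'.secR V]
        gE p hy N hd m := by
  let d' : X.Opens := V ⊓ d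
  have hd' : (p 0).base x ∈ d' := ⟨hy, hd⟩
  obtain ⟨a, s, hs, has⟩ := exists_frac p hy hV (inf_le_left : d' ≤ V) hd' (rr X.sheaf (homOfLE inf_le_right) r)
  rw [gr_rr (homOfLE (inf_le_right : d' ≤ d)) hd' hd r] at has
  let P : ModSite.stalkRing (pt ((p 0).base x)) X.sheaf →+* Br h𝔛 p hp hy := σx h𝔛 p hp
  have hP : ∀ c : Scheme'.secR V, algebraMap (Scheme'.secR V) (Br h𝔛 p hp hy) c = P (gr X.sheaf hy c) :=
    fun c => (σx_gr h𝔛 p hp hy c).symm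
  have he : s • gE p hy N hd (r • m) = a • gE p hy N hd m := by
    show gr X.sheaf hy s • gm N hd (r • m) = gr X.sheaf hy a • gm N hd m
    rw [gm_smul, ← mul_smul, mul_comm, has]
  obtain ⟨b', hb'⟩ : ∃ b', P (gr X.sheaf hy s) * b' = b := by
    obtain ⟨w, hw⟩ := hs.map P
    exact ⟨(↑w⁻¹ : Br h𝔛 p hp hy) * b, by rw [← hw, ← mul_assoc, Units.mul_inv, one_mul]⟩
  calc b ⊗ₜ[Scheme'.secR V] gE p hy N hd (r • m)
      = (s • b') ⊗ₜ[Scheme'.secR V] gE p hy N hd (r • m) := by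
        rw [Algebra.smul_def, hP, hb']
    _ = b' ⊗ₜ[Scheme'.secR V] (a • gE p hy N hd m) := by
        rw [TensorProduct.smul_tmul, he]
    _ = (a • b') ⊗ₜ[Scheme'.secR V] gE p hy N hd m := (TensorProduct.smul_tmul _ _ _).symm
    _ = _ := by
      congr 1
      rw [Algebra.smul_def, hP, ← has, map_mul, mul_assoc, hb']
      rfl

variable (N : ModSite.Mod X.sheaf)

/-- The value of a formal combination of pulled back sections. -/
noncomputable def ev {U : (𝔛.X 0).Opens} (h : x ∈ U) :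
    (RMorLocal.Pull.Fr (Compl.κ h𝔛 p hp) N).obj (op U) →+
      Br h𝔛 p hp hy ⊗[Scheme'.secR V] (E p hy N : Type u) :=
  Finsupp.liftAddHom fun q => AddMonoidHom.mk'
    (fun a : (𝔛.Osh h𝔛.1).obj.obj (op U) =>
      (show Br h𝔛 p hp hy from gr (𝔛.Osh h𝔛.1) h a) ⊗ₜ[Scheme'.secR V]
        gE p hy N (q.1.2.le h) q.2)
    (fun a a' => (congrArg (fun z : Br h𝔛 p hp hy => z ⊗ₜ[Scheme'.secR V] gE p hy N (q.1.2.le h) q.2)
      (map_add (gr (𝔛.Osh h𝔛.1) h) a a')).trans (TensorProduct.add_tmul _ _ _))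

theorem ev_smul_b {U : (𝔛.X 0).Opens} (h : x ∈ U) {d : X.Opens}
    (ψ : U ⟶ (Compl.κ h𝔛 p hp).fn.obj d) (a : (𝔛.Osh h𝔛.1).obj.obj (op U)) (m : ModSite.sect N d) :
    ev h𝔛 p hp hy N h (a • RMorLocal.Pull.b (Compl.κ h𝔛 p hp) N (c := op U) ψ m) =
      (show Br h𝔛 p hp hy from gr (𝔛.Osh h𝔛.1) h a) ⊗ₜ[Scheme'.secR V]
        gE p hy N (ψ.le h) m := by
  have e : a • RMorLocal.Pull.b (Compl.κ h𝔛 p hp) N (c := op U) ψ m =
      (Finsupp.single (RMorLocal.Pull.mkSym (Compl.κ h𝔛 p hp) N (c := op U) ψ m) a :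
        (RMorLocal.Pull.Sym (Compl.κ h𝔛 p hp) N).obj (op U) →₀ (𝔛.Osh h𝔛.1).obj.obj (op U)) :=
    (Finsupp.smul_single a _ (1 : (𝔛.Osh h𝔛.1).obj.obj (op U))).trans (congrArg _ (mul_one a))
  rw [e]
  exact Finsupp.liftAddHom_apply_single _ _ _

theorem ev_b {U : (𝔛.X 0).Opens} (h : x ∈ U) {d : X.Opens}
    (ψ : U ⟶ (Compl.κ h𝔛 p hp).fn.obj d) (m : ModSite.sect N d) :
    ev h𝔛 p hp hy N h (RMorLocal.Pull.b (Compl.κ h𝔛 p hp) N (c := op U) ψ m) =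
      (1 : Br h𝔛 p hp hy) ⊗ₜ[Scheme'.secR V] gE p hy N (ψ.le h) m := by
  have e := ev_smul_b h𝔛 p hp hy N h ψ 1 m
  rw [one_smul, map_one] at e
  exact e

theorem induction_Fr {U : (𝔛.X 0).Opens}
    {P : (RMorLocal.Pull.Fr (Compl.κ h𝔛 p hp) N).obj (op U) → Prop} (h0 : P 0)
    (hadd : ∀ z z', P z → P z' → P (z + z'))
    (hb : ∀ (a : (𝔛.Osh h𝔛.1).obj.obj (op U)) (d : X.Opens) (ψ : U ⟶ (Compl.κ h𝔛 p hp).fn.obj d)
      (m : ModSite.sect N d), P (a • RMorLocal.Pull.b (Compl.κ h𝔛 p hp) N (c := op U) ψ m))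
    (z : (RMorLocal.Pull.Fr (Compl.κ h𝔛 p hp) N).obj (op U)) : P z := by
  refine Finsupp.induction_linear (motive := P) z h0 hadd fun q a => ?_
  rw [show (Finsupp.single q a : (RMorLocal.Pull.Sym (Compl.κ h𝔛 p hp) N).obj (op U) →₀
      (𝔛.Osh h𝔛.1).obj.obj (op U)) =
    a • RMorLocal.Pull.b (Compl.κ h𝔛 p hp) N (c := op U) q.1.2 q.2 from
    ((Finsupp.smul_single (M := (𝔛.Osh h𝔛.1).obj.obj (op U)) (R := (𝔛.Osh h𝔛.1).obj.obj (op U)) a q 1).trans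
      (congrArg _ (mul_one a))).symm]
  exact hb a q.1.1 q.1.2 q.2

theorem ev_smul {U : (𝔛.X 0).Opens} (h : x ∈ U) (a : (𝔛.Osh h𝔛.1).obj.obj (op U))
    (z : (RMorLocal.Pull.Fr (Compl.κ h𝔛 p hp) N).obj (op U)) :
    ev h𝔛 p hp hy N h (a • z) =
      (show Br h𝔛 p hp hy from gr (𝔛.Osh h𝔛.1) h a) • ev h𝔛 p hp hy N h z := by
  induction z using induction_Fr h𝔛 p hp N with
  | h0 => rw [smul_zero, map_zero, smul_zero]
  | hadd z z' hz hz' => rw [smul_add, map_add, map_add, smul_add, hz, hz']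
  | hb a' d ψ m =>
    rw [smul_smul, ev_smul_b, ev_smul_b, TensorProduct.smul_tmul']
    congr 1
    exact map_mul _ _ _

theorem ev_res {U W : (𝔛.X 0).Opens} (g : W ⟶ U) (h : x ∈ W)
    (z : (RMorLocal.Pull.Fr (Compl.κ h𝔛 p hp) N).obj (op U)) :
    ev h𝔛 p hp hy N h (ModTensor.Local.res (RMorLocal.Pull.Fr (Compl.κ h𝔛 p hp) N) g.op z) =
      ev h𝔛 p hp hy N (g.le h) z := by
  induction z using induction_Fr h𝔛 p hp N with
  | h0 => rw [map_zero, map_zero, map_zero]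
  | hadd z z' hz hz' => rw [map_add, map_add, map_add, hz, hz']
  | hb a d ψ m =>
    rw [ModTensor.Local.res_smul, RMorLocal.Pull.res_b]
    refine (ev_smul_b h𝔛 p hp hy N h (g ≫ ψ) _ m).trans ?_
    refine Eq.trans ?_ (ev_smul_b h𝔛 p hp hy N (g.le h) ψ a m).symm
    congr 1
    exact gr_rr g h _ a

include hV in
theorem ev_rel {U : (𝔛.X 0).Opens} (h : x ∈ U)
    {z : (RMorLocal.Pull.Fr (Compl.κ h𝔛 p hp) N).obj (op U)}
    (hz : RMorLocal.Pull.IsRel (Compl.κ h𝔛 p hp) N (op U) z) : ev h𝔛 p hp hy N h z = 0 := by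
  cases hz with
  | @add d ψ m m' =>
    rw [map_sub, map_sub, ev_b, ev_b, ev_b, map_add, TensorProduct.tmul_add]
    abel
  | @smul d ψ r m =>
    rw [map_sub, ev_b, ev_smul_b, sub_eq_zero]
    refine (balance h𝔛 p hp hy hV N 1 (ψ.le h) r m).trans ?_
    congr 1
    refine (mul_one _).trans ((σx_gr h𝔛 p hp (ψ.le h) r).trans ?_)
    exact (gr_rr ψ h (ψ.le h) _).symm
  | @map d d' ψ g m =>
    rw [map_sub, ev_b, ev_b, sub_eq_zero]
    exact congrArg ((1 : Br h𝔛 p hp hy) ⊗ₜ[Scheme'.secR V] ·) (Stalk.gS_rs hy g.le (ψ.le h) _ m)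

include hV in
theorem ev_span {U : (𝔛.X 0).Opens} (h : x ∈ U)
    {z : (RMorLocal.Pull.Fr (Compl.κ h𝔛 p hp) N).obj (op U)}
    (hz : z ∈ Submodule.span ((𝔛.Osh h𝔛.1).obj.obj (op U))
      {y | RMorLocal.Pull.IsRel (Compl.κ h𝔛 p hp) N (op U) y}) : ev h𝔛 p hp hy N h z = 0 := by
  induction hz using Submodule.span_induction with
  | mem y hy' => exact ev_rel h𝔛 p hp hy hV N h hy'
  | zero => exact map_zero _
  | add y y' _ _ hy₁ hy₂ => rw [map_add, hy₁, hy₂, add_zero]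
  | smul a y _ hy' => rw [ev_smul, hy', smul_zero]

theorem exists_lift {U : (𝔛.X 0).Opens} (h : x ∈ U)
    (g : (RMorLocal.Pull.PMod (Compl.κ h𝔛 p hp) N).obj (op U)) :
    ∃ (W : (𝔛.X 0).Opens) (i : W ⟶ U) (_ : x ∈ W)
      (z : (RMorLocal.Pull.Fr (Compl.κ h𝔛 p hp) N).obj (op W)),
      (RMorLocal.Pull.eps (Compl.κ h𝔛 p hp) N).app (op W) z =
        ModTensor.Local.res (RMorLocal.Pull.PMod (Compl.κ h𝔛 p hp) N) i.op g := by
  obtain ⟨S, hS, hz⟩ := RMorLocal.Pull.exists_cover_eps (Compl.κ h𝔛 p hp) N (c := U) (fun _ : Fin 1 => g)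
  obtain ⟨W, i, hi, hxW⟩ := hS x h
  obtain ⟨z, hz⟩ := hz i hi
  exact ⟨W, i, hxW, z 0, hz 0⟩

/-- The value of a section of the inverse image. -/
noncomputable def β {U : (𝔛.X 0).Opens} (h : x ∈ U)
    (g : (RMorLocal.Pull.PMod (Compl.κ h𝔛 p hp) N).obj (op U)) :
    Br h𝔛 p hp hy ⊗[Scheme'.secR V] (E p hy N : Type u) :=
  ev h𝔛 p hp hy N (exists_lift h𝔛 p hp N h g).choose_spec.choose_spec.choose
    (exists_lift h𝔛 p hp N h g).choose_spec.choose_spec.choose_spec.choose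

include hV in
theorem β_eq {U : (𝔛.X 0).Opens} (h : x ∈ U)
    (g : (RMorLocal.Pull.PMod (Compl.κ h𝔛 p hp) N).obj (op U))
    {W : (𝔛.X 0).Opens} (i : W ⟶ U) (hW : x ∈ W)
    (z : (RMorLocal.Pull.Fr (Compl.κ h𝔛 p hp) N).obj (op W))
    (hz : (RMorLocal.Pull.eps (Compl.κ h𝔛 p hp) N).app (op W) z =
      ModTensor.Local.res (RMorLocal.Pull.PMod (Compl.κ h𝔛 p hp) N) i.op g) :
    β h𝔛 p hp hy N h g = ev h𝔛 p hp hy N hW z := by
  have hz₀ := (exists_lift h𝔛 p hp N h g).choose_spec.choose_spec.choose_spec.choose_spec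
  let W₀ := (exists_lift h𝔛 p hp N h g).choose
  let i₀ : W₀ ⟶ U := (exists_lift h𝔛 p hp N h g).choose_spec.choose
  let hW₀ : x ∈ W₀ := (exists_lift h𝔛 p hp N h g).choose_spec.choose_spec.choose
  let z₀ := (exists_lift h𝔛 p hp N h g).choose_spec.choose_spec.choose_spec.choose
  let j₀ : W₀ ⊓ W ⟶ W₀ := homOfLE inf_le_left
  let j : W₀ ⊓ W ⟶ W := homOfLE inf_le_right
  let d := ModTensor.Local.res (RMorLocal.Pull.Fr (Compl.κ h𝔛 p hp) N) j₀.op z₀ -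
    ModTensor.Local.res (RMorLocal.Pull.Fr (Compl.κ h𝔛 p hp) N) j.op z
  have hd : (RMorLocal.Pull.eps (Compl.κ h𝔛 p hp) N).app (op (W₀ ⊓ W)) d = 0 := by
    rw [map_sub, ModTensor.Local.res_app, ModTensor.Local.res_app, hz₀, hz, sub_eq_zero,
      ← ModTensor.Local.res_comp, ← ModTensor.Local.res_comp]
    rfl
  obtain ⟨S, hS, hsp⟩ := RMorLocal.Pull.exists_cover_span (Compl.κ h𝔛 p hp) N hd
  obtain ⟨W', k, hk, hxW'⟩ := hS x ⟨hW₀, hW⟩
  have e := ev_span h𝔛 p hp hy hV N hxW' (hsp k hk)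
  rw [map_sub, map_sub, ev_res, ev_res, ev_res, ev_res, sub_eq_zero] at e
  exact e

include hV in
theorem β_res {U W : (𝔛.X 0).Opens} (i : W ⟶ U) (h : x ∈ W)
    (g : (RMorLocal.Pull.PMod (Compl.κ h𝔛 p hp) N).obj (op U)) :
    β h𝔛 p hp hy N h (ModTensor.Local.res (RMorLocal.Pull.PMod (Compl.κ h𝔛 p hp) N) i.op g) =
      β h𝔛 p hp hy N (i.le h) g := by
  obtain ⟨W', j, hW', z, hz⟩ := exists_lift h𝔛 p hp N h
    (ModTensor.Local.res (RMorLocal.Pull.PMod (Compl.κ h𝔛 p hp) N) i.op g)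
  rw [β_eq h𝔛 p hp hy hV N h _ j hW' z hz,
    β_eq h𝔛 p hp hy hV N (i.le h) g (j ≫ i) hW' z
      (hz.trans (ModTensor.Local.res_comp _ i.op j.op g).symm)]

include hV in
theorem β_add {U : (𝔛.X 0).Opens} (h : x ∈ U)
    (g g' : (RMorLocal.Pull.PMod (Compl.κ h𝔛 p hp) N).obj (op U)) :
    β h𝔛 p hp hy N h (g + g') = β h𝔛 p hp hy N h g + β h𝔛 p hp hy N h g' := by
  obtain ⟨W, i, hW, z, hz⟩ := exists_lift h𝔛 p hp N h g
  obtain ⟨W', i', hW', z', hz'⟩ := exists_lift h𝔛 p hp N hW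
    (ModTensor.Local.res (RMorLocal.Pull.PMod (Compl.κ h𝔛 p hp) N) i.op g')
  rw [β_eq h𝔛 p hp hy hV N h g (i' ≫ i) hW' (ModTensor.Local.res (RMorLocal.Pull.Fr (Compl.κ h𝔛 p hp) N) i'.op z)
      (by rw [ModTensor.Local.res_app, hz, op_comp, ModTensor.Local.res_comp]),
    β_eq h𝔛 p hp hy hV N h g' (i' ≫ i) hW' z' (by rw [hz', op_comp, ModTensor.Local.res_comp]),
    β_eq h𝔛 p hp hy hV N h (g + g') (i' ≫ i) hW'
      (ModTensor.Local.res (RMorLocal.Pull.Fr (Compl.κ h𝔛 p hp) N) i'.op z + z')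
      (by rw [map_add, map_add, ModTensor.Local.res_app, hz, hz', op_comp, ModTensor.Local.res_comp,
        ModTensor.Local.res_comp]),
    map_add]

/-- The underlying abelian presheaf of the inverse image. -/
noncomputable abbrev pullP : (𝔛.X 0).Opensᵒᵖ ⥤ AddCommGrpCat.{u} :=
  (ModSite.toAb ((Compl.κ h𝔛 p hp).pull.obj N)).obj

/-- The inverse of the comparison map. -/
noncomputable def linv : (ModSite.stalkAb (pt x) ((Compl.κ h𝔛 p hp).pull.obj N) : Type u) →+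
    Br h𝔛 p hp hy ⊗[Scheme'.secR V] (E p hy N : Type u) :=
  ((pt x).presheafFiberDesc (P := pullP h𝔛 p hp N)
    (T := AddCommGrpCat.of (Br h𝔛 p hp hy ⊗[Scheme'.secR V] (E p hy N : Type u)))
    (fun _ q => AddCommGrpCat.ofHom (AddMonoidHom.mk' (fun g => β h𝔛 p hp hy N q.down.down g)
      (β_add h𝔛 p hp hy hV N q.down.down)))
    (fun _ _ g q => ConcreteCategory.hom_ext _ _ fun s => β_res h𝔛 p hp hy hV N g q.down.down s)).hom

theorem linv_gm {U : (𝔛.X 0).Opens} (h : x ∈ U)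
    (g : ModSite.sect ((Compl.κ h𝔛 p hp).pull.obj N) U) :
    linv h𝔛 p hp hy hV N (gm ((Compl.κ h𝔛 p hp).pull.obj N) h g) = β h𝔛 p hp hy N h g :=
  ConcreteCategory.congr_hom ((pt x).toPresheafFiber_presheafFiberDesc (P := pullP h𝔛 p hp N)
    (T := AddCommGrpCat.of (Br h𝔛 p hp hy ⊗[Scheme'.secR V] (E p hy N : Type u)))
    _ _ U ⟨⟨h⟩⟩) g

/-- The stalk of a module upstairs. -/
def Mr (M : FSch.ModF 𝔛 h𝔛.1) : Type u :=
  (fun (_ : ∀ n, 𝔛.ι n ≫ p (n + 1) = p n) (_ : (p 0).base x ∈ V) =>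
    (ModSite.stalkAb (pt x) M : Type u)) hp hy

noncomputable instance (M : FSch.ModF 𝔛 h𝔛.1) : AddCommGroup (Mr h𝔛 p hp hy M) :=
  inferInstanceAs (AddCommGroup (ModSite.stalkAb (pt x) M))

noncomputable instance (M : FSch.ModF 𝔛 h𝔛.1) : Module (Br h𝔛 p hp hy) (Mr h𝔛 p hp hy M) :=
  inferInstanceAs (Module (ModSite.stalkRing (pt x) (𝔛.Osh h𝔛.1)) (ModSite.stalkAb (pt x) M))

noncomputable instance (M : FSch.ModF 𝔛 h𝔛.1) : Module (Scheme'.secR V) (Mr h𝔛 p hp hy M) :=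
  Module.compHom _ (algebraMap (Scheme'.secR V) (Br h𝔛 p hp hy))

instance (M : FSch.ModF 𝔛 h𝔛.1) :
    IsScalarTower (Scheme'.secR V) (Br h𝔛 p hp hy) (Mr h𝔛 p hp hy M) :=
  ⟨fun a b z => by rw [Algebra.smul_def, mul_smul]; rfl⟩

/-- The unit on stalks. -/
noncomputable def unitX : (E p hy N : Type u) →ₗ[Scheme'.secR V]
    Mr h𝔛 p hp hy ((Compl.κ h𝔛 p hp).pull.obj N) where
  toFun z := Compl.θhom h𝔛 p hp ((Compl.κ h𝔛 p hp).pull.obj N)
    ((Stalk.St X.sheaf hy).map ((Compl.κ h𝔛 p hp).adj.unit.app N) z)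
  map_add' z z' := by rw [map_add]; exact map_add _ _ _
  map_smul' a z := by
    rw [map_smul]
    exact (Compl.θlin h𝔛 p hp hy ((Compl.κ h𝔛 p hp).pull.obj N)).map_smul a _

theorem unitX_gE {W : X.Opens} (hW : (p 0).base x ∈ W) (m : ModSite.sect N W) :
    unitX h𝔛 p hp hy N (gE p hy N hW m) =
      gm ((Compl.κ h𝔛 p hp).pull.obj N) (U := ComplSec.pre p W) hW
        (RMorLocal.Pull.pm (Compl.κ h𝔛 p hp) N W m) :=
  (congrArg (Compl.θhom h𝔛 p hp _) (Stalk.map_gS hy _ hW m)).trans (Compl.θhom_gm h𝔛 p hp _ hW _)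

/-- The comparison map. -/
noncomputable def Θ : Br h𝔛 p hp hy ⊗[Scheme'.secR V] (E p hy N : Type u) →ₗ[Br h𝔛 p hp hy]
    Mr h𝔛 p hp hy ((Compl.κ h𝔛 p hp).pull.obj N) :=
  (unitX h𝔛 p hp hy N).liftBaseChange (Br h𝔛 p hp hy)

include hV in
theorem linv_Θ (z : Br h𝔛 p hp hy ⊗[Scheme'.secR V] (E p hy N : Type u)) :
    linv h𝔛 p hp hy hV N (Θ h𝔛 p hp hy N z) = z := by
  induction z with
  | zero => exact (congrArg _ (map_zero _)).trans (map_zero _)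
  | add z z' hz hz' =>
    exact (congrArg _ (map_add _ z z')).trans ((map_add _ _ _).trans (congrArg₂ (· + ·) hz hz'))
  | tmul b e =>
    obtain ⟨d, -, hd, m, rfl⟩ := Stalk.exists_gS hy e
    obtain ⟨U, eU, hU, a, ha⟩ := exists_gr (O := 𝔛.Osh h𝔛.1) (U := ComplSec.pre p d) (x := x) hd
      (fun _ : Unit => (show ModSite.stalkRing (pt x) (𝔛.Osh h𝔛.1) from b))
    rw [Θ, LinearMap.liftBaseChange_tmul, unitX_gE]
    let M := (Compl.κ h𝔛 p hp).pull.obj N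
    have h1 : (show Br h𝔛 p hp hy from b) •
        (show Mr h𝔛 p hp hy M from gm M (U := ComplSec.pre p d) hd
          (RMorLocal.Pull.pm (Compl.κ h𝔛 p hp) N d m)) =
        gm M hU (a () • RMorLocal.Pull.pl (Compl.κ h𝔛 p hp) N (homOfLE eU) m) := by
      refine Eq.trans ?_ (gm_smul hU _ _).symm
      refine congrArg₂ (fun (r : ModSite.stalkRing (pt x) (𝔛.Osh h𝔛.1))
        (z : ModSite.stalkAb (pt x) M) => r • z) (ha ()).symm ?_
      exact (gm_rs (homOfLE eU) hU hd _).symm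
    refine (congrArg _ h1).trans ((linv_gm h𝔛 p hp hy hV N hU _).trans ?_)
    rw [β_eq h𝔛 p hp hy hV N hU _ (𝟙 U) hU
      (a () • RMorLocal.Pull.b (Compl.κ h𝔛 p hp) N (c := op U) (homOfLE eU) m) (by
        rw [map_smul, RMorLocal.Pull.eps_b]
        exact (ConcreteCategory.congr_hom ((RMorLocal.Pull.PMod (Compl.κ h𝔛 p hp) N).presheaf.map_id
          (op U)) _).symm),
      ev_smul_b]
    exact congrArg (fun r : Br h𝔛 p hp hy => r ⊗ₜ[Scheme'.secR V] gE p hy N hd m) (ha ())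

include hV in
theorem Θ_bijective : Function.Bijective (Θ h𝔛 p hp hy N) := by
  refine ⟨Function.LeftInverse.injective (linv_Θ h𝔛 p hp hy hV N), fun z => ?_⟩
  let M := (Compl.κ h𝔛 p hp).pull.obj N
  obtain ⟨U, -, hU, s, hs⟩ := exists_gm (M := M) (U := ComplSec.pre p V) (x := x) hy
    (fun _ : Unit => (show ModSite.stalkAb (pt x) M from z))
  obtain ⟨W, -, -, eW, hxW, l, a, m, hm⟩ :=
    ComplPull.exists_local_plF h𝔛 p hp (N : X.Modules) (s ()) hU (U := V) hy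
  refine ⟨∑ q, (show Br h𝔛 p hp hy from gr (𝔛.Osh h𝔛.1) (U := ComplSec.pre p W) hxW (a q)) ⊗ₜ
    gE p hy N hxW (m q), ?_⟩
  rw [map_sum]
  refine Eq.trans ?_ (((gm_rs (M := M) (homOfLE eW) hxW hU (s ())).symm.trans
    ((congrArg (gm M hxW) hm).trans (map_sum _ _ _))).symm.trans (hs ()))
  refine Finset.sum_congr rfl fun q _ => ?_
  rw [Θ, LinearMap.liftBaseChange_tmul, unitX_gE]
  refine Eq.trans ?_ (gm_smul hxW _ _).symm
  refine congrArg (fun w : ModSite.stalkAb (pt x) M =>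
    gr (𝔛.Osh h𝔛.1) (U := ComplSec.pre p W) hxW (a q) • w) (congrArg (gm M hxW) ?_)
  exact (ConcreteCategory.congr_hom ((congrArg (fun φ => M.val.presheaf.map φ)
    (Subsingleton.elim (homOfLE (le_refl (ComplSec.pre p W))).op (𝟙 _))).trans
      (M.val.presheaf.map_id _)) _).symm

end Groth.Agent.H22.Gam.PullStalk
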