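import Groth.Agent.H22.Gam.ComplIso
import Groth.Agent.Lib.SqZeroMod.Basic

/-!
# Inverse and direct images of torsion modules along a completion (helper22)
-/

set_option autoImplicit false
set_option maxHeartbeats 1000000
set_option linter.style.haveILetI false
set_option linter.unusedSectionVars false

universe u

open CategoryTheory CategoryTheory.Limits AlgebraicGeometry TopologicalSpace Opposite
open Groth.Agent.H30 Groth.Agent.Lib
open Groth.Agent.Lib.ModSiteLoc.Basic Groth.Agent.Lib.ModSiteLoc.Top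

namespace Groth.Agent.H22.Gam.PullTors

variable {X : Scheme.{u}} (𝓘 : X.IdealSheafData)

/-- The constant family at one power of an ideal sheaf. -/
def constFam (n : ℕ) : FTors.IdealFam X.sheaf where
  ideal _ U := (FTors.powIdealFam X 𝓘).ideal n U
  antitone' _ _ := le_rfl
  map_mem' _ _ _ g _ ha := (FTors.powIdealFam X 𝓘).map_mem' n g _ ha

theorem exists_killed_of_isTorsSect (N : ModSite.Mod X.sheaf) {W : X.Opens}
    (s : ModSite.sect N W) (hs : FTors.IsTorsSect (FTors.powIdealFam X 𝓘) N s) {y : X} (hy : y ∈ W) :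
    ∃ (W' : X.Opens) (_ : IsAffineOpen W') (e : W' ≤ W) (n : ℕ), y ∈ W' ∧
      FTors.KilledBy (FTors.powIdealFam X 𝓘) N n (rs N (homOfLE e) s) := by
  obtain ⟨V, g, ⟨n, hn⟩, hyV⟩ := hs y hy
  obtain ⟨W', hW', hyW', e⟩ := Opens.isBasis_iff_nbhd.1 X.isBasis_affineOpens hyV
  refine ⟨W', hW', e.trans g.le, n, hyW', fun U g' a ha => ?_⟩
  have h1 := hn (g' ≫ homOfLE e) a ha
  refine Eq.trans ?_ h1
  exact congrArg (a • ·) ((rs_rs _ g' s).trans (rs_rs g (g' ≫ homOfLE e) s).symm)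

variable [IsLocallyNoetherian X]

theorem smul_eq_zero_of_killed (N : ModSite.Mod X.sheaf) {W : X.Opens} (hW : IsAffineOpen W)
    {n : ℕ} {s : ModSite.sect N W} (hs : FTors.KilledBy (FTors.powIdealFam X 𝓘) N n s)
    {a : Scheme'.secR W} (ha : a ∈ Scheme'.IV 𝓘 hW ^ n) : a • s = 0 := by
  have hm := Scheme'.mem_ideal_of_pow 𝓘 hW (W := W) le_rfl ha
  have e : rr X.sheaf (homOfLE (le_refl W)) a = a :=
    (congrArg (fun g => (X.sheaf.obj.map g) a) (Subsingleton.elim _ (𝟙 _))).trans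
      (ConcreteCategory.congr_hom (X.sheaf.obj.map_id (op W)) a)
  have h1 := hs (𝟙 W) a (e ▸ hm)
  rwa [FTors.res_id] at h1

variable {𝔛 : FSch.Sys.{u}} (h𝔛 : 𝔛.IsLocNoethFormal) (p : ∀ n, 𝔛.X n ⟶ X)
  (hp : ∀ n, 𝔛.ι n ≫ p (n + 1) = p n) [∀ k, IsClosedImmersion (p k)]
  (hker : ∀ k (U : X.affineOpens), (p k).ker.ideal U = 𝓘.ideal U ^ (k + 1))

include hker in
theorem ideal_eq_top {U : X.affineOpens} (hU : ∀ y ∈ U.1, y ∉ Set.range (p 0).base) :
    𝓘.ideal U = ⊤ := by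
  have h := hker 0 U
  rw [zero_add, pow_one] at h
  rw [← h, Scheme.Hom.ker_apply, Ideal.eq_top_iff_one, RingHom.mem_ker, map_one]
  have hbot : (p 0) ⁻¹ᵁ U.1 = ⊥ := by
    ext y
    exact ⟨fun hy => (hU _ hy ⟨y, rfl⟩).elim, fun hy => hy.elim⟩
  haveI : Subsingleton Γ(𝔛.X 0, p 0 ⁻¹ᵁ U.1) := hbot ▸
    CommRingCat.subsingleton_of_isTerminal (𝔛.X 0).sheaf.isTerminalOfEmpty
  exact Subsingleton.elim _ _

include hker in
/-- Torsion modules vanish off the image. -/
theorem isZero_St_of_tors {N : ModSite.Mod X.sheaf} (hN : FTors.IsTorsZp X 𝓘 N)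
    {V : X.Opens} {y : X} (hy : y ∈ V) (h : y ∉ Set.range (p 0).base) :
    IsZero ((Stalk.St X.sheaf hy).obj N) := by
  haveI : Subsingleton ((Stalk.St X.sheaf hy).obj N : Type u) := by
    suffices h0 : ∀ z : ((Stalk.St X.sheaf hy).obj N : Type u), z = 0 from
      ⟨fun a b => (h0 a).trans (h0 b).symm⟩
    intro z
    obtain ⟨W, e, hW, s, rfl⟩ := Stalk.exists_gS hy z
    obtain ⟨W', hW', e', n, hyW', hn⟩ := exists_killed_of_isTorsSect 𝓘 N s (hN W s)
      (show y ∈ W from hW)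
    obtain ⟨U, hU, hyU, eU⟩ := Opens.isBasis_iff_nbhd.1 X.isBasis_affineOpens
      (show y ∈ W' ⊓ ⟨(Set.range (p 0).base)ᶜ, (p 0).isClosedEmbedding.isClosed_range.isOpen_compl⟩
        from ⟨hyW', h⟩)
    refine (Stalk.gS_rs hy ((eU.trans inf_le_left).trans e') hyU hW s).symm.trans ?_
    refine (congrArg (Stalk.gS hy N hyU) ?_).trans (map_zero _)
    have h1 := smul_eq_zero_of_killed 𝓘 N hU (n := n) (a := 1)
      (s := rs N (homOfLE ((eU.trans inf_le_left).trans e')) s)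
      (fun U' g a ha => by
        refine Eq.trans (congrArg (a • ·) ?_) (hn (g ≫ homOfLE (eU.trans inf_le_left)) a ha)
        exact (rs_rs _ g s).trans (rs_rs (homOfLE e') _ s).symm)
      (by
        rw [show Scheme'.IV 𝓘 hU = ⊤ from ideal_eq_top 𝓘 p hker (U := ⟨U, hU⟩)
          fun w hw => (eU hw).2, Ideal.top_pow]
        trivial)
    rwa [one_smul] at h1
  exact ModuleCat.isZero_of_subsingleton _

theorem torsion_push_of_isIso (N : ModSite.Mod X.sheaf)
    [IsIso ((FTors.gammaZpι X 𝓘).app N)] : FTors.IsTorsZp X 𝓘 N := fun U s => by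
  let t := (inv ((FTors.gammaZpι X 𝓘).app N)).val.app (op U) s
  have e : t.1 = s := congrArg (fun φ => φ.val.app (op U) s)
    (IsIso.inv_hom_id ((FTors.gammaZpι X 𝓘).app N))
  exact e ▸ t.2

include hker in
/-- Direct images of torsion modules are torsion. -/
theorem isTorsZp_push {M : FSch.ModF 𝔛 h𝔛.1} (hM : FTors.IsTorsF 𝔛 h𝔛.1 M) :
    FTors.IsTorsZp X 𝓘 ((Compl.κ h𝔛 p hp).push.obj M) := by
  haveI := ComplIso.isIso_gammaι_push h𝔛 p hp 𝓘 hker M hM
  exact torsion_push_of_isIso 𝓘 _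

include hker in
/-- Inverse images of torsion modules are torsion. -/
theorem isTorsF_pull {N : ModSite.Mod X.sheaf} (hN : FTors.IsTorsZp X 𝓘 N) :
    FTors.IsTorsF 𝔛 h𝔛.1 ((Compl.κ h𝔛 p hp).pull.obj N) := by
  let f := Compl.κ h𝔛 p hp
  let M := f.pull.obj N
  obtain ⟨α, hα⟩ := ComplIso.nonempty_iso h𝔛 p hp 𝓘 hker M
  haveI : Mono ((FTors.gammaZpι X 𝓘).app N) := Scheme'.mono_gammaι 𝓘 N
  haveI : Epi ((FTors.gammaZpι X 𝓘).app N) :=
    ModSiteLoc.Basic.epi_of_exists_lift _ fun U t =>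
      ⟨⊤, (Opens.grothendieckTopology _).top_mem U, fun W g _ => ⟨⟨rs N g t, hN W _⟩, rfl⟩⟩
  haveI : IsIso ((FTors.gammaZpι X 𝓘).app N) := isIso_of_mono_of_epi _
  let a : N ⟶ f.push.obj ((FTors.gammaT 𝔛 h𝔛.1).obj M) :=
    inv ((FTors.gammaZpι X 𝓘).app N) ≫ (FTors.gammaZp X 𝓘).map (f.adj.unit.app N) ≫ α.hom
  have ha : a ≫ f.push.map ((FTors.gammaTι 𝔛 h𝔛.1).app M) = f.adj.unit.app N := by
    simp only [a, Category.assoc]
    rw [IsIso.inv_comp_eq]
    exact (congrArg ((FTors.gammaZp X 𝓘).map (f.adj.unit.app N) ≫ ·) hα).trans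
      ((FTors.gammaZpι X 𝓘).naturality (f.adj.unit.app N))
  have hc : (f.adj.homEquiv _ _).symm a ≫ (FTors.gammaTι 𝔛 h𝔛.1).app M = 𝟙 M :=
    (f.adj.homEquiv_naturality_right_symm a _).symm.trans
      ((congrArg (f.adj.homEquiv _ _).symm ha).trans ((f.adj.homEquiv _ _).symm_apply_eq.2
        (f.adj.homEquiv_id N).symm))
  haveI : IsSplitEpi ((FTors.gammaTι 𝔛 h𝔛.1).app M) := IsSplitEpi.mk' ⟨_, hc⟩
  exact TorsClosure.isTors_of_epi_gammaTι

theorem schPushCompare_app_bijective (k : ℕ) (G : (𝔛.X k).Modules) (U : X.Opens) :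
    Function.Bijective (((FSch.schPushCompare 𝔛 h𝔛.1 p hp k).app G).val.app (op U)) := by
  have e : ∀ s, ((FSch.schPushCompare 𝔛 h𝔛.1 p hp k).app G).val.app (op U) s =
      G.val.map ((FSch.lvNatP 𝔛 h𝔛.1 p hp k).app U).op s := fun _ => rfl
  have : IsIso (((FSch.lvNatP 𝔛 h𝔛.1 p hp k).app U)) := by
    have h := FSch.lvU_p 𝔛 h𝔛.1 p hp k U
    exact ⟨homOfLE h.le, Subsingleton.elim _ _, Subsingleton.elim _ _⟩
  have h2 := ConcreteCategory.bijective_of_isIso
    (G.presheaf.map ((FSch.lvNatP 𝔛 h𝔛.1 p hp k).app U).op)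
  exact (funext e : (fun s => _) = _) ▸ h2

include hker in
/-- The unit of a level is injective on modules killed by the power. -/
theorem mono_unit_of_killed (k : ℕ) (N : X.Modules)
    (hN : FTors.IsTors (constFam 𝓘 (k + 1)) (N : ModSite.Mod X.sheaf)) :
    Mono ((Scheme.Modules.pullbackPushforwardAdjunction (p k)).unit.app (N : X.Modules)) := by
  have hkill : ∀ {W : X.Opens} (s : ModSite.sect N W) {U : X.Opens} (hU : IsAffineOpen U) {y : X},
      y ∈ W → y ∈ U → ∀ r ∈ Scheme'.IV 𝓘 hU ^ (k + 1),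
        ∃ (W' : X.Opens) (e : W' ≤ W) (e' : W' ≤ U), y ∈ W' ∧
          rr X.sheaf (homOfLE e') r • rs N (homOfLE e) s = 0 := by
    intro W s U hU y hyW hyU r hr
    obtain ⟨V, g, ⟨n, hn⟩, hyV⟩ := hN W s y hyW
    refine ⟨V ⊓ U, inf_le_left.trans g.le, inf_le_right, ⟨hyV, hyU⟩, ?_⟩
    refine Eq.trans (congrArg (_ • ·) ?_) (hn (homOfLE inf_le_left) _
      (Scheme'.mem_ideal_of_pow 𝓘 hU inf_le_right hr))
    exact (rs_rs g (homOfLE inf_le_left) s).symm
  let η := (Scheme.Modules.pullbackPushforwardAdjunction (p k)).unit.app (N : X.Modules)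
  have hK : SqZeroMod.Killed (p k) (N : X.Modules) := fun z a ha m => by
    obtain ⟨U, hU, hz⟩ := Compl.exists_affine ((p k).base z)
    have h1 := SqZeroMod.ker_stalkMap_le (p k) ⟨U, hU⟩ z hz (RingHom.mem_ker.2 ha)
    rw [hker k] at h1
    clear ha
    induction h1 using Submodule.span_induction with
    | mem a ha' =>
      obtain ⟨r, hr, rfl⟩ := ha'
      obtain ⟨W, hW, s, rfl⟩ := TopCat.Presheaf.exists_germ_eq N.presheaf m
      obtain ⟨W', e, e', hz', h0⟩ := hkill (U := U) s hU hW hz r hr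
      rw [← TopCat.Presheaf.germ_res_apply X.presheaf (homOfLE e') _ hz' r,
        ← TopCat.Presheaf.germ_res_apply N.presheaf (homOfLE e) _ hz' s,
        ← Modules.StalkModule.germ_smul]
      exact (congrArg (N.presheaf.germ W' _ hz') h0).trans (map_zero _)
    | zero => exact zero_smul _ _
    | add a b _ _ ha hb =>
      exact (add_smul a b m).trans ((congrArg₂ (· + ·) ha hb).trans (add_zero _))
    | smul r a _ ha => exact (mul_smul r a m).trans ((congrArg (r • ·) ha).trans (smul_zero _))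
  refine ModSiteLoc.Basic.mono_of_injective (M := N)
    (N := (Scheme.Modules.pushforward (p k)).obj ((Scheme.Modules.pullback (p k)).obj N)) η
    fun W s hs => ?_
  refine Scheme'.eq_zero_of_locally N _ fun y hy => ?_
  by_cases h : y ∈ Set.range (p k).base
  · obtain ⟨z, rfl⟩ := h
    have h0 : N.presheaf.germ W _ hy s = 0 := by
      refine (SqZeroMod.bijective_unitStalk (p k) hK z).1 (Eq.trans ?_ (map_zero _).symm)
      refine (congrArg (DerivedOX.PullbackStalk.pushStalkMap (p k) z _)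
        ((Modules.StalkModule.stalkMapₗ_germ η hy s).trans
          ((congrArg _ hs).trans (map_zero _)))).trans (map_zero _)
    obtain ⟨W', hyW', i, i', he⟩ := TopCat.Presheaf.germ_eq N.presheaf _ hy hy s 0
      (h0.trans (map_zero _).symm)
    exact ⟨W', i.le, hyW', he.trans (map_zero _)⟩
  · obtain ⟨U, hU, hyU, eU⟩ := Opens.isBasis_iff_nbhd.1 X.isBasis_affineOpens
      (show y ∈ W ⊓ ⟨(Set.range (p k).base)ᶜ, (p k).isClosedEmbedding.isClosed_range.isOpen_compl⟩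
        from ⟨hy, h⟩)
    have htop : 𝓘.ideal ⟨U, hU⟩ ^ (k + 1) = ⊤ := by
      rw [← hker k ⟨U, hU⟩, Scheme.Hom.ker_apply, Ideal.eq_top_iff_one, RingHom.mem_ker, map_one]
      have hbot : (p k) ⁻¹ᵁ U = ⊥ := by
        ext w
        exact ⟨fun hw => ((eU hw).2 ⟨w, rfl⟩).elim, fun hw => hw.elim⟩
      haveI : Subsingleton Γ(𝔛.X k, p k ⁻¹ᵁ U) := hbot ▸
        CommRingCat.subsingleton_of_isTerminal (𝔛.X k).sheaf.isTerminalOfEmpty
      exact Subsingleton.elim _ _
    obtain ⟨W', e, e', hy', h0⟩ := hkill s hU hy hyU 1 (htop ▸ trivial)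
    rw [map_one, one_smul] at h0
    exact ⟨W', e, hy', h0⟩

include hker in
/-- The unit of the completion is a monomorphism on modules killed by one power. -/
theorem mono_unit_κ_of_killed (k : ℕ) (N : ModSite.Mod X.sheaf)
    (hN : FTors.IsTors (constFam 𝓘 (k + 1)) N) :
    Mono ((Compl.κ h𝔛 p hp).adj.unit.app N) := by
  let f := Compl.κ h𝔛 p hp
  haveI h1 := mono_unit_of_killed 𝓘 p hker k N hN
  let G := (Scheme.Modules.pullback (p k)).obj (N : X.Modules)
  haveI h2 : Mono ((FSch.schPushCompare 𝔛 h𝔛.1 p hp k).app G) :=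
    ModSiteLoc.Basic.mono_of_injective (O := X.sheaf) _ fun U s hs =>
      (schPushCompare_app_bijective h𝔛 p hp k G U).1 (hs.trans (map_zero _).symm)
  let g : N ⟶ f.push.obj ((FSch.levelMor 𝔛 h𝔛.1 k).push.obj G) :=
    (Scheme.Modules.pullbackPushforwardAdjunction (p k)).unit.app (N : X.Modules) ≫
      (FSch.schPushCompare 𝔛 h𝔛.1 p hp k).app G
  haveI : Mono g := @CategoryTheory.mono_comp _ _ _ _ _ _ h1 _ h2
  have hg : f.adj.unit.app N ≫ f.push.map ((f.adj.homEquiv _ _).symm g) = g := by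
    exact (f.adj.homEquiv_unit _ _ _).symm.trans (Equiv.apply_symm_apply _ _)
  exact mono_of_mono_fac hg

include hker in
/-- The unit of the completion is injective on the stalks of torsion modules. -/
theorem unit_St_eq_zero [PreservesFiniteLimits (Compl.κ h𝔛 p hp).pull] {N : ModSite.Mod X.sheaf}
    (hN : FTors.IsTorsZp X 𝓘 N) {V : X.Opens} {y : X} (hy : y ∈ V)
    (z : ((Stalk.St X.sheaf hy).obj N : Type u))
    (hz : (Stalk.St X.sheaf hy).map ((Compl.κ h𝔛 p hp).adj.unit.app N) z = 0) : z = 0 := by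
  let f := Compl.κ h𝔛 p hp
  obtain ⟨W, e, hW, s, rfl⟩ := Stalk.exists_gS hy z
  obtain ⟨W', -, e', n, hyW', hn⟩ := exists_killed_of_isTorsSect 𝓘 N s (hN W s) hW
  let I := constFam 𝓘 (n + 1)
  let Nn := (FTors.gamma X.sheaf I).obj N
  let ι : Nn ⟶ N := (FTors.gammaι I).app N
  haveI : Mono ι := Unique.mono_gammaι I N
  have hNn : FTors.IsTors I Nn := fun U t => by
    refine (Opens.grothendieckTopology _).superset_covering ?_ t.2
    rintro U' g ⟨m, hm⟩
    exact ⟨m, fun U'' g' a ha => Subtype.ext (hm g' a ha)⟩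
  haveI := mono_unit_κ_of_killed 𝓘 h𝔛 p hp hker n Nn hNn
  haveI := Push.preservesFiniteLimits_push f
  haveI : Mono (f.pull.map ι) := inferInstance
  haveI : Mono (f.push.map (f.pull.map ι)) := inferInstance
  let t : ModSite.sect Nn W' := ⟨rs N (homOfLE e') s, FTors.IsTorsSect.of_killedBy (I := I) (n := 0)
    fun U g a ha => hn.mono (Nat.le_succ n) g a ha⟩
  have hι : (Stalk.St X.sheaf hy).map ι (Stalk.gS hy Nn hyW' t) = Stalk.gS hy N hW s :=
    (Stalk.map_gS hy ι hyW' t).trans (Stalk.gS_rs hy e' hyW' hW s)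
  rw [← hι] at hz ⊢
  have hinj : Function.Injective ((Stalk.St X.sheaf hy).map
      (f.adj.unit.app Nn ≫ f.push.map (f.pull.map ι))) :=
    (ModuleCat.mono_iff_injective _).1 inferInstance
  rw [hinj (a₁ := Stalk.gS hy Nn hyW' t) (a₂ := 0) ?_, map_zero]
  rw [map_zero]
  refine (congrArg (fun φ => (Stalk.St X.sheaf hy).map φ (Stalk.gS hy Nn hyW' t))
    (f.adj.unit.naturality ι).symm).trans ?_
  exact (ConcreteCategory.congr_hom ((Stalk.St X.sheaf hy).map_comp _ _) _).trans hz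

include hker in
/-- The unit of the completion is surjective on the stalks of torsion modules. -/
theorem unit_St_surjective {N : ModSite.Mod X.sheaf} (hN : FTors.IsTorsZp X 𝓘 N) {V : X.Opens}
    {x : 𝔛.X 0} (hy : (p 0).base x ∈ V)
    (z : ((Stalk.St X.sheaf hy).obj ((Compl.κ h𝔛 p hp).push.obj
      ((Compl.κ h𝔛 p hp).pull.obj N)) : Type u)) :
    ∃ w, (Stalk.St X.sheaf hy).map ((Compl.κ h𝔛 p hp).adj.unit.app N) w = z := by
  let f := Compl.κ h𝔛 p hp
  let M := f.pull.obj N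
  obtain ⟨U, eU, hU, v, rfl⟩ := Stalk.exists_gS hy z
  obtain ⟨W, hW, hWU, eW, hxW, l, a, m, hm⟩ :=
    ComplPull.exists_local_plF h𝔛 p hp (N : X.Modules) (V := ComplSec.pre p U) v hU hU
  choose W' hW' eW' nq hyW' hn using fun q =>
    exists_killed_of_isTorsSect 𝓘 N (m q) (hN W (m q)) (y := (p 0).base x) hxW
  obtain ⟨W₁, hW₁, hxW₁, eW₁⟩ := Opens.isBasis_iff_nbhd.1 X.isBasis_affineOpens
    (show (p 0).base x ∈ W ⊓ Finset.univ.inf W' from
      ⟨hxW, InjStalk.mem_inf _ _ _ fun q _ => hyW' q⟩)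
  let n := Finset.univ.sup nq
  have e1 : W₁ ≤ W := eW₁.trans inf_le_left
  let m₁ : Fin l → ModSite.sect N W₁ := fun q => rs N (homOfLE e1) (m q)
  have hk : ∀ q, FTors.KilledBy (FTors.powIdealFam X 𝓘) N n (m₁ q) := fun q U' g b hb => by
    have e2 : W₁ ≤ W' q := eW₁.trans (inf_le_right.trans (Finset.inf_le (Finset.mem_univ q)))
    refine Eq.trans (congrArg (b • ·) ?_) ((hn q).mono (Finset.le_sup (Finset.mem_univ q))
      (g ≫ homOfLE e2) b hb)
    exact (rs_rs _ g (m q)).trans (rs_rs (homOfLE (eW' q)) _ (m q)).symm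
  let a₁ : Fin l → Levels.A 𝔛 h𝔛.1 (ComplSec.pre p W₁) := fun q =>
    CohPres.resA h𝔛.1 ((p 0).preimage_mono e1) (a q)
  choose τ hτ using fun q => ComplPull.surjective_appLE h𝔛 p hp hW₁ n
    (Levels.proj 𝔛 h𝔛.1 n (ComplSec.pre p W₁) (a₁ q))
  let P : ModSite.sect N W₁ →+ RealLimSec.sec h𝔛.1 M (ComplSec.pre p W₁) := AddMonoidHom.mk' _
    (ComplPull.plF_add h𝔛 p hp (N : X.Modules) (le_refl (ComplSec.pre p W₁)))
  have hP : ∀ (r : Scheme'.secR W₁) (t : ModSite.sect N W₁),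
      P (r • t) = ComplPull.shA h𝔛 p hp W₁ r • P t := fun r t =>
    (ComplPull.plF_smul h𝔛 p hp (N : X.Modules) le_rfl r t).trans (congrArg (· • P t)
      ((congrArg (fun g => (𝔛.Osh h𝔛.1).obj.map g (ComplPull.shA h𝔛 p hp W₁ r))
        (Subsingleton.elim (homOfLE (le_refl (ComplSec.pre p W₁))).op (𝟙 _))).trans
        (congrArg (fun φ => φ.hom (ComplPull.shA h𝔛 p hp W₁ r))
          ((𝔛.Osh h𝔛.1).obj.map_id (op (ComplSec.pre p W₁))))))
  have hzero : ∀ q, ∀ c ∈ (Scheme'.IV 𝓘 hW₁ ^ n).map (ComplPull.shA h𝔛 p hp W₁), c • P (m₁ q) = 0 := by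
    intro q c hc
    induction hc using Submodule.span_induction with
    | mem c hc =>
      obtain ⟨r, hr, rfl⟩ := hc
      exact (hP r _).symm.trans
        ((congrArg P (smul_eq_zero_of_killed 𝓘 N hW₁ (hk q) hr)).trans (map_zero _))
    | zero => exact zero_smul _ _
    | add c c' _ _ h h' => exact (add_smul c c' _).trans (by rw [h, h', add_zero])
    | smul r c _ h => exact (mul_smul r c _).trans (by rw [h, smul_zero])
  have heq : ∀ q, a₁ q • P (m₁ q) = P (τ q • m₁ q) := fun q => by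
    refine Eq.trans ?_ (hP _ _).symm
    refine sub_eq_zero.1 ((sub_smul _ _ _).symm.trans (hzero q _ ?_))
    rw [Ideal.map_pow, Compl.map_IV h𝔛 p hp 𝓘 hker hW₁]
    refine Ideal.pow_le_pow_right (Nat.le_succ n) ?_
    rw [← ((Levels.adic h𝔛 (ComplSec.isAffineOpen_pre p hW₁)).2.1 n).2, RingHom.mem_ker, map_sub,
      sub_eq_zero, ComplPull.proj_shA]
    exact (hτ q).symm
  have hres : CohPres.resF h𝔛.1 M (((p 0).preimage_mono e1).trans eW) v =
      P (∑ q, τ q • m₁ q) := by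
    have h' := congrArg (CohPres.resF h𝔛.1 M ((p 0).preimage_mono e1)) hm
    rw [map_sum] at h'
    refine ((TorsCoh.resF_resF M eW ((p 0).preimage_mono e1) v).symm.trans h').trans ?_
    rw [map_sum]
    refine Finset.sum_congr rfl fun q _ => ?_
    rw [CohPres.resF_smul, ComplPull.plF_res, ← heq]
    exact congrArg (a₁ q • ·) (ComplPull.plF_map h𝔛 p hp (N : X.Modules) e1 le_rfl (m q)).symm
  refine ⟨Stalk.gS hy N hxW₁ (∑ q, τ q • m₁ q), (Stalk.map_gS hy _ hxW₁ _).trans ?_⟩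
  refine Eq.trans ?_ (Stalk.gS_rs hy (e1.trans hWU) hxW₁ hU v)
  refine congrArg (Stalk.gS hy (f.push.obj M) hxW₁) ?_
  refine Eq.trans ?_ (hres.symm.trans ?_)
  · exact ((congrArg (fun g => M.val.map g (ap (f.adj.unit.app N) (∑ q, τ q • m₁ q)))
      (Subsingleton.elim (homOfLE (le_refl (ComplSec.pre p W₁))).op (𝟙 _))).trans
      (congrArg (fun φ => φ.hom (ap (f.adj.unit.app N) (∑ q, τ q • m₁ q)))
        (M.val.map_id (op (ComplSec.pre p W₁))))).symm
  · rfl

include hker in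
/-- The unit of the completion is an isomorphism on torsion modules. -/
theorem isIso_unit [PreservesFiniteLimits (Compl.κ h𝔛 p hp).pull] {N : ModSite.Mod X.sheaf}
    (hN : FTors.IsTorsZp X 𝓘 N) : IsIso ((Compl.κ h𝔛 p hp).adj.unit.app N) := by
  refine Stalk.isIso _ fun y => ?_
  obtain ⟨V, -, hy⟩ := Compl.exists_affine y
  refine ⟨V, hy, (ConcreteCategory.isIso_iff_bijective _).2 ⟨(injective_iff_map_eq_zero _).2
    fun z hz => unit_St_eq_zero 𝓘 h𝔛 p hp hker hN hy z hz, ?_⟩⟩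
  by_cases h : y ∈ Set.range (p 0).base
  · obtain ⟨x, rfl⟩ := h
    exact unit_St_surjective 𝓘 h𝔛 p hp hker hN hy
  · haveI := ModuleCat.subsingleton_of_isZero (Compl.isZero_St_push h𝔛 p hp hy h
      ((Compl.κ h𝔛 p hp).pull.obj N))
    exact fun z => ⟨0, @Subsingleton.elim _ ‹_› _ _⟩

/-- The direct image reflects isomorphisms. -/
theorem isIso_of_push {M M' : FSch.ModF 𝔛 h𝔛.1} (φ : M ⟶ M')
    [IsIso ((Compl.κ h𝔛 p hp).push.map φ)] : IsIso φ := by
  refine Stalk.isIso _ fun x => ?_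
  obtain ⟨V, -, hx⟩ := Compl.exists_affine ((p 0).base x)
  refine ⟨ComplSec.pre p V, hx, ?_⟩
  haveI : IsIso ((ModuleCat.restrictScalars (Compl.sh h𝔛 p hp V)).map
      ((Good.S h𝔛 (V := ComplSec.pre p V) hx).map φ)) :=
    (NatIso.isIso_map_iff (Compl.θiso h𝔛 p hp hx) φ).1
      (inferInstanceAs (IsIso ((Stalk.St X.sheaf hx).map ((Compl.κ h𝔛 p hp).push.map φ))))
  exact (ConcreteCategory.isIso_iff_bijective _).2 (ConcreteCategory.bijective_of_isIso
    ((ModuleCat.restrictScalars (Compl.sh h𝔛 p hp V)).map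
      ((Good.S h𝔛 (V := ComplSec.pre p V) hx).map φ)))

include hker in
/-- The counit of the completion is an isomorphism on torsion modules. -/
theorem isIso_counit [PreservesFiniteLimits (Compl.κ h𝔛 p hp).pull] {M : FSch.ModF 𝔛 h𝔛.1}
    (hM : FTors.IsTorsF 𝔛 h𝔛.1 M) : IsIso ((Compl.κ h𝔛 p hp).adj.counit.app M) := by
  let f := Compl.κ h𝔛 p hp
  haveI : IsIso (f.adj.unit.app (f.push.obj M)) :=
    isIso_unit 𝓘 h𝔛 p hp hker (isTorsZp_push 𝓘 h𝔛 p hp hker hM)
  haveI : IsIso (f.adj.unit.app (f.push.obj M) ≫ f.push.map (f.adj.counit.app M)) := by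
    rw [f.adj.right_triangle_components]
    infer_instance
  haveI : IsIso (f.push.map (f.adj.counit.app M)) :=
    IsIso.of_isIso_comp_left (f.adj.unit.app (f.push.obj M)) _
  exact isIso_of_push h𝔛 p hp _

end Groth.Agent.H22.Gam.PullTors
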