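import Groth.Agent.H54.FSchQc.Ext
import Groth.Agent.H22.Gam.Good

/-!
# Quasi-coherence near a point, and localisation at a function (helper22)
-/

set_option autoImplicit false
set_option maxHeartbeats 1000000
set_option linter.style.haveILetI false

universe u

open CategoryTheory CategoryTheory.Limits AlgebraicGeometry TopologicalSpace Opposite
open Groth.Agent.H30 Groth.Agent.H30.RealLimSec Groth.Agent.H22.IndColim Groth.Agent.H54.FSchQc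

namespace Groth.Agent.H22.Gam.QcAt

variable {𝔛 : FSch.Sys.{u}} (h𝔛 : 𝔛.IsLocNoethFormal)

/-- A presentation exists on a neighbourhood of `x`. -/
def At (x : 𝔛.X 0) (M : FSch.ModF 𝔛 h𝔛.1) : Prop :=
  ∃ W : (𝔛.X 0).Opens, x ∈ W ∧ Nonempty (SheafOfModules.over M W).Presentation

theorem at_of_isQuasicoherent (x : 𝔛.X 0) (M : FSch.ModF 𝔛 h𝔛.1)
    [SheafOfModules.IsQuasicoherent.{u} M] : At h𝔛 x M :=
  QcFT.exists_presentation h𝔛 x

theorem isQuasicoherent_of_at (M : FSch.ModF 𝔛 h𝔛.1) (h : ∀ x, At h𝔛 x M) :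
    SheafOfModules.IsQuasicoherent.{u} M :=
  Lib.FSchInd28.Span.isQuasicoherent_of_span _ h

variable {x : 𝔛.X 0}

/-- A common small affine neighbourhood. -/
theorem exists_small {V : (𝔛.X 0).Opens} (hx : x ∈ V) {M : FSch.ModF 𝔛 h𝔛.1} (hM : At h𝔛 x M) :
    ∃ W : (𝔛.X 0).Opens, x ∈ W ∧ IsAffineOpen W ∧ W ≤ V ∧ Good h𝔛 M W := by
  obtain ⟨W₀, hx₀, ⟨p⟩⟩ := hM
  obtain ⟨W, hW, hxW, hle⟩ := Opens.isBasis_iff_nbhd.1 (CohPres.isBasis_affine (𝔛.X 0))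
    (U := W₀ ⊓ V) (x := x) ⟨hx₀, hx⟩
  exact ⟨W, hxW, hW, hle.trans inf_le_right, good_of_presentation h𝔛 p hW (hle.trans inf_le_left)⟩

/-- The middle term of a five-term exact sequence. -/
theorem five {A B C D E : FSch.ModF 𝔛 h𝔛.1} (f₁ : A ⟶ B) (f₂ : B ⟶ C) (f₃ : C ⟶ D) (f₄ : D ⟶ E)
    (w₁ : f₁ ≫ f₂ = 0) (w₂ : f₂ ≫ f₃ = 0) (w₃ : f₃ ≫ f₄ = 0)
    (e₁ : (ShortComplex.mk f₁ f₂ w₁).Exact) (e₂ : (ShortComplex.mk f₂ f₃ w₂).Exact)
    (e₃ : (ShortComplex.mk f₃ f₄ w₃).Exact) (hA : At h𝔛 x A) (hB : At h𝔛 x B) (hD : At h𝔛 x D)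
    (hE : At h𝔛 x E) : At h𝔛 x C := by
  let a : cokernel f₁ ⟶ C := cokernel.desc f₁ f₂ w₁
  let b : C ⟶ kernel f₄ := kernel.lift f₄ f₃ w₃
  haveI : Mono a := e₁.mono_cokernelDesc
  haveI : Epi b := e₃.epi_kernelLift
  have w : a ≫ b = 0 := coequalizer.hom_ext (equalizer.hom_ext (by
    simp only [a, b, Category.assoc, comp_zero, zero_comp]
    rw [kernel.lift_ι, cokernel.π_desc_assoc]
    exact w₂))
  let T : ShortComplex (FSch.ModF 𝔛 h𝔛.1) := ShortComplex.mk a b w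
  have e₅ : T.Exact := by
    let η : ShortComplex.mk f₂ f₃ w₂ ⟶
        ShortComplex.mk a (b ≫ kernel.ι f₄) (by rw [← Category.assoc, w, zero_comp]) :=
      { τ₁ := cokernel.π f₁
        τ₂ := 𝟙 _
        τ₃ := 𝟙 _
        comm₁₂ := (cokernel.π_desc _ _ _).trans (Category.comp_id _).symm
        comm₂₃ := (Category.id_comp _).trans ((kernel.lift_ι _ _ _).trans (Category.comp_id _).symm) }
    haveI : Epi η.τ₁ := inferInstanceAs (Epi (cokernel.π f₁))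
    haveI : IsIso η.τ₂ := inferInstanceAs (IsIso (𝟙 C))
    haveI : Mono η.τ₃ := inferInstanceAs (Mono (𝟙 D))
    have e₄ := (ShortComplex.exact_iff_of_epi_of_isIso_of_mono η).1 e₂
    let θ : T ⟶ ShortComplex.mk a (b ≫ kernel.ι f₄) (by rw [← Category.assoc, w, zero_comp]) :=
      { τ₁ := 𝟙 _
        τ₂ := 𝟙 _
        τ₃ := kernel.ι f₄
        comm₁₂ := (Category.id_comp _).trans (Category.comp_id _).symm
        comm₂₃ := Category.id_comp _ }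
    haveI : Epi θ.τ₁ := inferInstanceAs (Epi (𝟙 T.X₁))
    haveI : IsIso θ.τ₂ := inferInstanceAs (IsIso (𝟙 C))
    haveI : Mono θ.τ₃ := inferInstanceAs (Mono (kernel.ι f₄))
    exact (ShortComplex.exact_iff_of_epi_of_isIso_of_mono θ).2 e₄
  have hT : T.ShortExact := { exact := e₅ }
  obtain ⟨WA, hxA, ⟨pA⟩⟩ := hA
  obtain ⟨WB, hxB, ⟨pB⟩⟩ := hB
  obtain ⟨WD, hxD, ⟨pD⟩⟩ := hD
  obtain ⟨WE, hxE, ⟨pE⟩⟩ := hE
  obtain ⟨W, hW, hxW, hle⟩ := Opens.isBasis_iff_nbhd.1 (CohPres.isBasis_affine (𝔛.X 0))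
    (U := (WA ⊓ WB) ⊓ (WD ⊓ WE)) (x := x) ⟨⟨hxA, hxB⟩, hxD, hxE⟩
  have gA := good_of_presentation h𝔛 pA hW (hle.trans (inf_le_left.trans inf_le_left))
  have gB := good_of_presentation h𝔛 pB hW (hle.trans (inf_le_left.trans inf_le_right))
  have gD := good_of_presentation h𝔛 pD hW (hle.trans (inf_le_right.trans inf_le_left))
  have gE := good_of_presentation h𝔛 pE hW (hle.trans (inf_le_right.trans inf_le_right))
  obtain ⟨p⟩ := presentation_cokernel h𝔛 f₁ gA gB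
  obtain ⟨q⟩ := presentation_kernel h𝔛 f₄ gD ⊤ (fun _ => trivial) gE.2
  have hg := good_ext h𝔛 (S := T) hT (surjective_of_presentation h𝔛 hT p hW le_rfl)
    (good_of_presentation h𝔛 p hW le_rfl) (good_of_presentation h𝔛 q hW le_rfl)
  exact ⟨W, hxW, TorsQcoh.nonempty_presentation h𝔛 (𝟙 C) ⊤ (fun y _ => ⟨y, rfl⟩) (fun _ _ => True)
    (fun _ _ => trivial) hg.1 hg.2⟩

section Stalk

variable {V : (𝔛.X 0).Opens}

theorem smul_gS {M : FSch.ModF 𝔛 h𝔛.1} {y : 𝔛.X 0} (hy : y ∈ V) {Z : (𝔛.X 0).Opens} (e : Z ≤ V)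
    (hyZ : y ∈ Z) (a : Levels.A 𝔛 h𝔛.1 V) (s : sec h𝔛.1 M Z) :
    a • Stalk.gS hy M hyZ s = Stalk.gS hy M hyZ (CohPres.resA h𝔛.1 e a • s) :=
  Stalk.gS_smul hy e hyZ a s

theorem gS_resF {M : FSch.ModF 𝔛 h𝔛.1} {y : 𝔛.X 0} (hy : y ∈ V) {Z Z' : (𝔛.X 0).Opens} (e : Z' ≤ Z)
    (hyZ : y ∈ Z') (s : sec h𝔛.1 M Z) :
    Stalk.gS hy M hyZ (CohPres.resF h𝔛.1 M e s) = Stalk.gS hy M (e hyZ) s :=
  Stalk.gS_rs hy e hyZ (e hyZ) s

theorem gS_map {M N : FSch.ModF 𝔛 h𝔛.1} (φ : M ⟶ N) {y : 𝔛.X 0} (hy : y ∈ V) {Z : (𝔛.X 0).Opens}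
    (hyZ : y ∈ Z) (s : sec h𝔛.1 M Z) :
    (Good.S h𝔛 hy).map φ (Stalk.gS hy M hyZ s) = Stalk.gS hy N hyZ (secMap h𝔛.1 φ Z s) :=
  Stalk.map_gS hy φ hyZ s

theorem exists_res_eq {M : FSch.ModF 𝔛 h𝔛.1} {y : 𝔛.X 0} (hy : y ∈ V) {Z : (𝔛.X 0).Opens}
    (hyZ : y ∈ Z) (s t : sec h𝔛.1 M Z) (h : Stalk.gS hy M hyZ s = Stalk.gS hy M hyZ t) :
    ∃ (Z' : (𝔛.X 0).Opens) (e : Z' ≤ Z), y ∈ Z' ∧
      CohPres.resF h𝔛.1 M e s = CohPres.resF h𝔛.1 M e t := by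
  obtain ⟨Z', e, hy', he⟩ := Stalk.exists_eq_zero hy hyZ (s - t)
    ((map_sub _ _ _).trans (sub_eq_zero.2 h))
  exact ⟨Z', e, hy', sub_eq_zero.1 ((map_sub (CohPres.resF h𝔛.1 M e) s t).symm.trans he)⟩

/-- Sections over an open in `V` vanish if their germs do. -/
theorem eq_zero_of_stalk {M : FSch.ModF 𝔛 h𝔛.1} {Z : (𝔛.X 0).Opens} (e : Z ≤ V) (s : sec h𝔛.1 M Z)
    (h : ∀ (y : 𝔛.X 0) (hy : y ∈ Z), Stalk.gS (e hy) M hy s = 0) : s = 0 := by
  refine TorsCoh.eq_zero_of_locally M s fun z hz => ?_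
  obtain ⟨Z', e', hz', he⟩ := Stalk.exists_eq_zero (e hz) hz s (h z hz)
  exact ⟨Z', e', hz', he⟩

/-- Modules vanishing near `x` have presentations there. -/
theorem at_of_zero (hx : x ∈ V) {M : FSch.ModF 𝔛 h𝔛.1}
    (h : ∀ (y : 𝔛.X 0) (hy : y ∈ V) (z : ((Good.S h𝔛 hy).obj M : Type u)), z = 0) : At h𝔛 x M := by
  have h0 : ∀ (Z : (𝔛.X 0).Opens), Z ≤ V → ∀ s : sec h𝔛.1 M Z, s = 0 := fun Z e s =>
    eq_zero_of_stalk h𝔛 e s fun y hy => h y (e hy) _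
  refine ⟨V, hx, TorsQcoh.nonempty_presentation h𝔛 (𝟙 M) ⊥
    (fun y _ => ⟨y, rfl⟩) (fun _ _ => True) (fun _ _ => trivial) (fun Z hZ s _ z hz => ?_) ?_⟩
  · exact ⟨Z, le_rfl, 0, Fin.elim0, Fin.elim0, hz, fun i => i.elim0,
      (h0 Z hZ _).trans Finset.sum_empty.symm⟩
  · intro m b hb Z hZ c _ z hz
    classical
    refine ⟨Z, le_rfl, hz, mem_span_of_eq _ (rv h𝔛.1 le_rfl c)
      (fun j => (Pi.single j 1 : Fin m → Levels.A 𝔛 h𝔛.1 V))
      (fun j => Finset.sum_eq_zero fun i _ => by rw [(Submodule.mem_bot _).1 (hb i), smul_zero])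
      fun l => ?_⟩
    rw [Finset.sum_eq_single l]
    · rw [Pi.single_eq_same, map_one, mul_one]
    · intro j _ hj
      rw [Pi.single_eq_of_ne (Ne.symm hj), map_zero, mul_zero]
    · exact fun hl => absurd (Finset.mem_univ l) hl

/-- Transfer along a map which is bijective on stalks over `V`. -/
theorem at_of_bijective (hx : x ∈ V) {M N : FSch.ModF 𝔛 h𝔛.1} (φ : M ⟶ N)
    (h : ∀ (y : 𝔛.X 0) (hy : y ∈ V), Function.Bijective ((Good.S h𝔛 hy).map φ))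
    (hN : At h𝔛 x N) : At h𝔛 x M := by
  have hk : At h𝔛 x (kernel φ) := at_of_zero h𝔛 hx fun y hy z => by
    haveI : Mono ((Good.S h𝔛 hy).map (kernel.ι φ)) := inferInstance
    refine (ModuleCat.mono_iff_injective _).1 this ?_
    refine (h y hy).1 ?_
    refine Eq.trans ?_ (congrArg ((Good.S h𝔛 hy).map φ) (map_zero _)).symm
    refine Eq.trans ?_ (map_zero _).symm
    exact (ConcreteCategory.congr_hom ((Good.S h𝔛 hy).map_comp (kernel.ι φ) φ) z).symm.trans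
      ((congrArg (fun ψ => (Good.S h𝔛 hy).map ψ z) (kernel.condition φ)).trans
        (ConcreteCategory.congr_hom ((Good.S h𝔛 hy).map_zero _ _) z))
  have hc : At h𝔛 x (cokernel φ) := at_of_zero h𝔛 hx fun y hy z => by
    haveI : Epi ((Good.S h𝔛 hy).map (cokernel.π φ)) := inferInstance
    obtain ⟨n, rfl⟩ := (ModuleCat.epi_iff_surjective _).1 this z
    obtain ⟨m, rfl⟩ := (h y hy).2 n
    exact (ConcreteCategory.congr_hom ((Good.S h𝔛 hy).map_comp φ (cokernel.π φ)) m).symm.trans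
      ((congrArg (fun ψ => (Good.S h𝔛 hy).map ψ m) (cokernel.condition φ)).trans
        (ConcreteCategory.congr_hom ((Good.S h𝔛 hy).map_zero _ _) m))
  refine five h𝔛 (0 : kernel φ ⟶ kernel φ) (kernel.ι φ) φ (cokernel.π φ) zero_comp
    (kernel.condition φ) (cokernel.condition φ) ?_ (ShortComplex.exact_kernel φ)
    (ShortComplex.exact_cokernel φ) hk hk hN hc
  exact (ShortComplex.exact_iff_mono _ rfl).2 (inferInstanceAs (Mono (kernel.ι φ)))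

variable (f : Levels.A 𝔛 h𝔛.1 V) {N : FSch.ModF 𝔛 h𝔛.1}
  (hbij : ∀ (y : 𝔛.X 0) (hy : y ∈ V),
    Function.Bijective fun z : ((Good.S h𝔛 hy).obj N : Type u) => f • z)

include hbij in
theorem smul_injective {Z : (𝔛.X 0).Opens} (e : Z ≤ V) (k : ℕ) (s : sec h𝔛.1 N Z)
    (hs : CohPres.resA h𝔛.1 e (f ^ k) • s = 0) : s = 0 := by
  refine eq_zero_of_stalk h𝔛 e s fun y hy => ?_
  have h1 : f ^ k • Stalk.gS (e hy) N hy s = 0 :=
    (smul_gS h𝔛 (e hy) e hy (f ^ k) s).trans ((congrArg _ hs).trans (map_zero _))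
  refine ((hbij y (e hy)).iterate k).1 ?_
  simp only [smul_iterate_apply]
  exact h1.trans (smul_zero _).symm

include hbij in
theorem smul_surjective {W : (𝔛.X 0).Opens} (e : W ≤ V) (k : ℕ) (t : sec h𝔛.1 N W) :
    ∃ s : sec h𝔛.1 N W, CohPres.resA h𝔛.1 e (f ^ k) • s = t := by
  have hloc : ∀ z : W, ∃ (O : (𝔛.X 0).Opens) (eO : O ≤ W) (s : sec h𝔛.1 N O),
      z.1 ∈ O ∧ CohPres.resA h𝔛.1 (eO.trans e) (f ^ k) • s = CohPres.resF h𝔛.1 N eO t := by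
    intro z
    obtain ⟨w, hw⟩ := ((hbij z.1 (e z.2)).iterate k).2 (Stalk.gS (e z.2) N z.2 t)
    simp only [smul_iterate_apply] at hw
    obtain ⟨O, eO, hzO, s, rfl⟩ := Stalk.exists_gS (e z.2) w
    have eO' : O ⊓ W ≤ V := inf_le_left.trans eO
    have hzOW : z.1 ∈ O ⊓ W := ⟨hzO, z.2⟩
    have h1 : Stalk.gS (e z.2) N hzOW
        (CohPres.resA h𝔛.1 eO' (f ^ k) • CohPres.resF h𝔛.1 N inf_le_left s) =
        Stalk.gS (e z.2) N hzOW (CohPres.resF h𝔛.1 N inf_le_right t) := by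
      rw [← smul_gS h𝔛, gS_resF h𝔛, gS_resF h𝔛]
      exact hw
    obtain ⟨O', e', hzO', he⟩ := exists_res_eq h𝔛 (e z.2) _ _ _ h1
    refine ⟨O', e'.trans inf_le_right, CohPres.resF h𝔛.1 N (e'.trans inf_le_left) s, hzO', ?_⟩
    rw [CohPres.resF_smul, resA_resA, resF_resF, resF_resF] at he
    exact he
  choose O eO s hzO hs using hloc
  obtain ⟨σ, hσ⟩ := exists_glued h𝔛 N O eO (fun z hz => ⟨⟨z, hz⟩, hzO ⟨z, hz⟩⟩) s fun a b => by
    refine sub_eq_zero.1 (smul_injective h𝔛 f hbij ((inf_le_left.trans (eO a)).trans e) k _ ?_)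
    rw [smul_sub, sub_eq_zero]
    have ha := congrArg (CohPres.resF h𝔛.1 N (inf_le_left : O a ⊓ O b ≤ O a)) (hs a)
    have hb := congrArg (CohPres.resF h𝔛.1 N (inf_le_right : O a ⊓ O b ≤ O b)) (hs b)
    rw [CohPres.resF_smul, resA_resA, resF_resF] at ha hb
    exact ha.trans hb.symm
  refine ⟨σ, sub_eq_zero.1 (TorsCoh.eq_zero_of_locally N _ fun z hz => ?_)⟩
  refine ⟨O ⟨z, hz⟩, eO _, hzO _, ?_⟩
  rw [map_sub, CohPres.resF_smul, resA_resA, hσ, hs, sub_self]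

variable {M : FSch.ModF 𝔛 h𝔛.1} (φ : M ⟶ N)
  (hsur : ∀ (y : 𝔛.X 0) (hy : y ∈ V) (n : ((Good.S h𝔛 hy).obj N : Type u)),
    ∃ (k : ℕ) (m : ((Good.S h𝔛 hy).obj M : Type u)), f ^ k • n = (Good.S h𝔛 hy).map φ m)
  (hker : ∀ (y : 𝔛.X 0) (hy : y ∈ V) (m : ((Good.S h𝔛 hy).obj M : Type u)),
    (Good.S h𝔛 hy).map φ m = 0 → ∃ k : ℕ, f ^ k • m = 0)

include hbij hsur hker in
/-- Localisations of modules with presentations have presentations. -/
theorem at_of_loc (hx : x ∈ V) (hM : At h𝔛 x M) : At h𝔛 x N := by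
  obtain ⟨W, hxW, hW, eW, gen, rel⟩ := exists_small h𝔛 hx hM
  let g := CohPres.resA h𝔛.1 eW f
  let L : Submodule (Levels.A 𝔛 h𝔛.1 W) (sec h𝔛.1 N W) :=
    { carrier := {u | ∃ (k : ℕ) (t : sec h𝔛.1 M W), g ^ k • u = secMap h𝔛.1 φ W t}
      zero_mem' := ⟨0, 0, by rw [smul_zero, map_zero]⟩
      add_mem' := by
        rintro u v ⟨k, t, hu⟩ ⟨l, s, hv⟩
        refine ⟨k + l, g ^ l • t + g ^ k • s, ?_⟩
        rw [map_add, map_smul, map_smul, ← hu, ← hv, smul_add, smul_smul, smul_smul, ← pow_add,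
          ← pow_add, add_comm l k]
      smul_mem' := by
        rintro a u ⟨k, t, hu⟩
        exact ⟨k, a • t, by rw [map_smul, ← hu, smul_comm]⟩ }
  have hres : ∀ {Z : (𝔛.X 0).Opens} (eZ : Z ≤ W) (k : ℕ),
      CohPres.resA h𝔛.1 eZ (g ^ k) = CohPres.resA h𝔛.1 (eZ.trans eW) (f ^ k) := fun eZ k => by
    rw [map_pow, map_pow]
    exact congrArg (· ^ k) (resA_resA eW eZ f)
  refine ⟨W, hxW, TorsQcoh.nonempty_presentation h𝔛 (𝟙 N) L (fun y _ => ⟨y, rfl⟩) (fun _ _ => True)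
    (fun _ _ => trivial) (fun Z hZ s _ z hz => ?_) ?_⟩
  · have hzV : z ∈ V := eW (hZ hz)
    obtain ⟨k, w, hw⟩ := hsur z hzV (Stalk.gS hzV N hz s)
    obtain ⟨O, -, hzO, w₀, rfl⟩ := Stalk.exists_gS hzV w
    rw [smul_gS h𝔛 hzV (hZ.trans eW) hz, gS_map, ← gS_resF h𝔛 hzV (inf_le_left : Z ⊓ O ≤ Z) ⟨hz, hzO⟩,
      ← gS_resF h𝔛 hzV (inf_le_right : Z ⊓ O ≤ O) ⟨hz, hzO⟩] at hw
    obtain ⟨O', e', hzO', he⟩ := exists_res_eq h𝔛 hzV _ _ _ hw
    obtain ⟨U, hU, m, a, t, hzU, -, ht⟩ := gen O' (e'.trans (inf_le_left.trans hZ))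
      (CohPres.resF h𝔛.1 M (e'.trans inf_le_right) w₀) trivial z hzO'
    choose u hu using fun i => smul_surjective h𝔛 f hbij eW k (secMap h𝔛.1 φ W (t i))
    have eU : U ≤ Z := hU.trans (e'.trans inf_le_left)
    refine ⟨U, eU, m, a, u, hzU, fun i => ⟨k, t i, by rw [← hu i]; exact congrArg (· • u i) (map_pow _ _ _).symm⟩, ?_⟩
    refine sub_eq_zero.1 (smul_injective h𝔛 f hbij ((eU.trans hZ).trans eW) k _ ?_)
    have h2 : CohPres.resA h𝔛.1 ((eU.trans hZ).trans eW) (f ^ k) • CohPres.resF h𝔛.1 N eU s =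
        secMap h𝔛.1 φ U (CohPres.resF h𝔛.1 M (hU.trans (e'.trans inf_le_right)) w₀) := by
      have h3 := congrArg (CohPres.resF h𝔛.1 N hU) he
      rw [← secMap_res] at h3
      simp only [CohPres.resF_smul, resA_resA, resF_resF] at h3
      exact h3.trans (by rw [secMap_res, resF_resF, secMap_res])
    rw [smul_sub, h2, sub_eq_zero]
    rw [resF_resF] at ht
    rw [ht, map_sum, Finset.smul_sum]
    refine Finset.sum_congr rfl fun i _ => ?_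
    rw [map_smul, secMap_res, ← hu i, CohPres.resF_smul, resA_resA, smul_comm]
  · intro m b hb Z hZ c hc z hz
    choose k t ht using hb
    let K := Finset.univ.sup k
    let t' : Fin m → sec h𝔛.1 M W := fun i => g ^ (K - k i) • t i
    have ht' : ∀ i, g ^ K • b i = secMap h𝔛.1 φ W (t' i) := fun i => by
      rw [map_smul, ← ht i, smul_smul, ← pow_add,
        Nat.sub_add_cancel (Finset.le_sup (Finset.mem_univ i))]
    have hzV : z ∈ V := eW (hZ hz)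
    have h0 : secMap h𝔛.1 φ Z (∑ i, c i • CohPres.resF h𝔛.1 M hZ (t' i)) = 0 := by
      rw [map_sum]
      refine Eq.trans ?_ ((congrArg (CohPres.resA h𝔛.1 hZ (g ^ K) • ·) hc).trans (smul_zero _))
      rw [Finset.smul_sum]
      refine Finset.sum_congr rfl fun i _ => ?_
      rw [map_smul, secMap_res, ← ht' i, CohPres.resF_smul, smul_comm]
    obtain ⟨j, hj⟩ := hker z hzV _ ((gS_map h𝔛 φ hzV hz _).trans ((congrArg _ h0).trans (map_zero _)))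
    rw [smul_gS h𝔛 hzV (hZ.trans eW) hz] at hj
    obtain ⟨O, eO, hzO, hO⟩ := Stalk.exists_eq_zero hzV hz _ hj
    have hO' : ∑ i, CohPres.resA h𝔛.1 eO (c i) •
        CohPres.resF h𝔛.1 M (eO.trans hZ) (g ^ j • t' i) = 0 := by
      refine Eq.trans ?_ hO
      show _ = CohPres.resF h𝔛.1 M eO _
      rw [CohPres.resF_smul, resA_resA, sum_res_res, Finset.smul_sum]
      refine Finset.sum_congr rfl fun i _ => ?_
      rw [CohPres.resF_smul, hres, smul_comm]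
    obtain ⟨U, hUO, hzU, hm⟩ := rel m (fun i => g ^ j • t' i) (fun _ => trivial) O (eO.trans hZ)
      (fun i => CohPres.resA h𝔛.1 eO (c i)) hO' z hzO
    obtain ⟨n, d, r, hr, hd⟩ := exists_of_mem_span (hUO.trans (eO.trans hZ)) hm
    refine ⟨U, hUO.trans eO, hzU, mem_span_of_eq _ d r (fun l => ?_) fun i => ?_⟩
    · refine smul_injective h𝔛 f hbij eW (j + K) _ ?_
      have h1 := congrArg (secMap h𝔛.1 φ W) (show ∑ i, r l i • (g ^ j • t' i) = 0 from hr l)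
      rw [map_sum, map_zero] at h1
      rw [map_pow, Finset.smul_sum]
      refine Eq.trans ?_ h1
      refine Finset.sum_congr rfl fun i _ => ?_
      rw [map_smul, map_smul, ← ht' i, smul_smul, smul_smul, smul_smul]
      exact congrArg (· • b i) (by show g ^ (j + K) * r l i = _; ring)
    · show CohPres.resA h𝔛.1 (hUO.trans eO) (c i) = _
      rw [← resA_resA eO hUO]
      exact hd i

end Stalk

end Groth.Agent.H22.Gam.QcAt
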