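import Groth.Agent.H22.Gam.QcAt
import Groth.Agent.H22.Gam.Derived
import Mathlib.Algebra.Homology.ShortComplex.Linear
import Mathlib.Algebra.Homology.Linear

/-!
# `RΓ'` of complexes with quasi-coherent cohomology (helper22)

Near a point we remove the generators of the ideal of definition one at a time: the quotient of
consecutive torsion subcomplexes of a complex with stalkwise injective terms has as cohomology a
localisation of the cohomology of the bigger one.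
-/

set_option autoImplicit false
set_option maxHeartbeats 1000000
set_option linter.style.haveILetI false

universe u

open CategoryTheory CategoryTheory.Limits AlgebraicGeometry TopologicalSpace Opposite
open Groth.Agent.H30 Groth.Agent.H30.RealLimSec Groth.Agent.Lib

attribute [local instance] HasDerivedCategory.standard

namespace Groth.Agent.H22.Gam.QctGamma

theorem shortExact_cokernel {C : Type*} [Category C] [Abelian C] {A B : C} (i : A ⟶ B) [Mono i] :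
    (ShortComplex.mk i (cokernel.π i) (cokernel.condition i)).ShortExact :=
  { exact := ShortComplex.exact_cokernel i }

variable {𝔛 : FSch.Sys.{u}} (h𝔛 : 𝔛.IsLocNoethFormal) {V : (𝔛.X 0).Opens}

/-- The powers of the ideal generated by a list of functions on `V`, inside `V`. -/
noncomputable def fam (l : List (Levels.A 𝔛 h𝔛.1 V)) : FTors.IdealFam (𝔛.Osh h𝔛.1) := by
  classical
  exact
  { ideal := fun n U => if e : U ≤ V then
      Ideal.map (CohPres.resA h𝔛.1 e) (RGamma.ide l) ^ (n + 1) else ⊥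
    antitone' := fun n U => by
      split
      · exact Ideal.pow_le_pow_right (Nat.le_succ _)
      · exact le_rfl
    map_mem' := fun n U U' g a ha => by
      by_cases e : U ≤ V
      · rw [dif_pos e] at ha
        rw [dif_pos ((leOfHom g).trans e)]
        have h1 := Ideal.mem_map_of_mem (CohPres.resA h𝔛.1 (leOfHom g)) ha
        rw [Ideal.map_pow, Ideal.map_map] at h1
        refine SetLike.le_def.1 (le_of_eq ?_) h1
        refine congrArg (fun φ => Ideal.map φ (RGamma.ide l) ^ (n + 1)) ?_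
        exact RingHom.ext fun b => IndColim.resA_resA e (leOfHom g) b
      · rw [dif_neg e, Ideal.mem_bot] at ha
        subst ha
        exact (map_zero (CohPres.resA h𝔛.1 (leOfHom g))).symm ▸ Submodule.zero_mem _ }

variable (l : List (Levels.A 𝔛 h𝔛.1 V))

theorem fam_ideal (n : ℕ) {U : (𝔛.X 0).Opens} (e : U ≤ V) :
    (fam h𝔛 l).ideal n U = Ideal.map (CohPres.resA h𝔛.1 e) (RGamma.ide l) ^ (n + 1) := by
  classical
  exact dif_pos e

theorem fam_ideal_not (n : ℕ) {U : (𝔛.X 0).Opens} (e : ¬ U ≤ V) : (fam h𝔛 l).ideal n U = ⊥ := by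
  classical
  exact dif_neg e

/-- Comparison of torsion sections for comparable families. -/
theorem isTorsSect_le {I I' : FTors.IdealFam (𝔛.Osh h𝔛.1)} (hI : ∀ n U, I'.ideal n U ≤ I.ideal n U)
    (M : FSch.ModF 𝔛 h𝔛.1) (U : (𝔛.X 0).Opens) (s : ModSite.sect M U)
    (hs : FTors.IsTorsSect I M s) : FTors.IsTorsSect I' M s := by
  refine (Opens.grothendieckTopology _).superset_covering ?_ hs
  rintro W g ⟨n, hn⟩
  exact ⟨n, fun W' g' a ha => hn g' a (hI n W' ha)⟩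

/-- The comparison transformation. -/
noncomputable def leNat {I I' : FTors.IdealFam (𝔛.Osh h𝔛.1)}
    (hI : ∀ n U, I'.ideal n U ≤ I.ideal n U) :
    FTors.gamma (𝔛.Osh h𝔛.1) I ⟶ FTors.gamma (𝔛.Osh h𝔛.1) I' where
  app M := TorsLevel.gammaLE I I' M (isTorsSect_le h𝔛 hI M)
  naturality M N φ := by
    haveI := TorsLevel.mono_gammaι I' N
    rw [← cancel_mono ((FTors.gammaι I').app N)]
    rfl

theorem fam_cons_le (f : Levels.A 𝔛 h𝔛.1 V) (n : ℕ) (U : (𝔛.X 0).Opens) :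
    (fam h𝔛 l).ideal n U ≤ (fam h𝔛 (f :: l)).ideal n U := by
  by_cases e : U ≤ V
  · rw [fam_ideal h𝔛 l n e, fam_ideal h𝔛 (f :: l) n e]
    exact Ideal.pow_right_mono (Ideal.map_mono le_sup_right) _
  · rw [fam_ideal_not h𝔛 l n e]
    exact bot_le

/-- `Γ` on complexes. -/
noncomputable abbrev G (I : FTors.IdealFam (𝔛.Osh h𝔛.1)) :
    CochainComplex (FSch.ModF 𝔛 h𝔛.1) ℤ ⥤ CochainComplex (FSch.ModF 𝔛 h𝔛.1) ℤ :=
  (FTors.gamma (𝔛.Osh h𝔛.1) I).mapHomologicalComplex (.up ℤ)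

/-- The comparison on complexes. -/
noncomputable def leC {I I' : FTors.IdealFam (𝔛.Osh h𝔛.1)}
    (hI : ∀ n U, I'.ideal n U ≤ I.ideal n U) (L : CochainComplex (FSch.ModF 𝔛 h𝔛.1) ℤ) :
    (G h𝔛 I).obj L ⟶ (G h𝔛 I').obj L :=
  (NatTrans.mapHomologicalComplex (leNat h𝔛 hI) (.up ℤ)).app L

theorem leC_γ {I I' : FTors.IdealFam (𝔛.Osh h𝔛.1)}
    (hI : ∀ n U, I'.ideal n U ≤ I.ideal n U) (L : CochainComplex (FSch.ModF 𝔛 h𝔛.1) ℤ) (n : ℤ) :
    (leC h𝔛 hI L).f n ≫ (FTors.gammaι I').app (L.X n) = (FTors.gammaι I).app (L.X n) := rfl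

theorem mono_leC {I I' : FTors.IdealFam (𝔛.Osh h𝔛.1)}
    (hI : ∀ n U, I'.ideal n U ≤ I.ideal n U) (L : CochainComplex (FSch.ModF 𝔛 h𝔛.1) ℤ) :
    Mono (leC h𝔛 hI L) := by
  haveI : ∀ i, Mono ((leC h𝔛 hI L).f i) := fun i => by
    haveI := TorsLevel.mono_gammaι I (L.X i)
    haveI : Mono ((leC h𝔛 hI L).f i ≫ (FTors.gammaι I').app (L.X i)) := by
      rw [leC_γ]; exact TorsLevel.mono_gammaι I (L.X i)
    exact mono_of_mono _ ((FTors.gammaι I').app (L.X i))
  exact HomologicalComplex.mono_of_mono_f _ inferInstance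

variable (hV : IsAffineOpen V)

section Stalk

variable {y : 𝔛.X 0} (hy : y ∈ V) (M : FSch.ModF 𝔛 h𝔛.1)

theorem injective_γ (I : FTors.IdealFam (𝔛.Osh h𝔛.1)) :
    Function.Injective ((Good.S h𝔛 hy).map ((FTors.gammaι I).app M)) := by
  haveI := TorsLevel.mono_gammaι I M
  haveI : Mono ((Good.S h𝔛 hy).map ((FTors.gammaι I).app M)) := inferInstance
  exact (ModuleCat.mono_iff_injective _).1 this

theorem γ_mem (z : ((Good.S h𝔛 hy).obj ((FTors.gamma _ (fam h𝔛 l)).obj M) : Type u)) :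
    (Good.S h𝔛 hy).map ((FTors.gammaι (fam h𝔛 l)).app M) z ∈
      DRing.torsionSub (RGamma.ide l) ((Good.S h𝔛 hy).obj M : Type u) := by
  obtain ⟨W, e, hW, s, rfl⟩ := Stalk.exists_gS hy z
  obtain ⟨W', g, ⟨n, hn⟩, hW'⟩ := s.2 y hW
  refine ⟨n + 1, fun a ha => ?_⟩
  have e' : W' ≤ V := (leOfHom g).trans e
  have hmem : CohPres.resA h𝔛.1 e' a ∈ (fam h𝔛 l).ideal n W' := by
    rw [fam_ideal h𝔛 l n e', ← Ideal.map_pow]
    exact Ideal.mem_map_of_mem _ ha
  have h1 := hn (𝟙 W') _ hmem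
  rw [FTors.res_id] at h1
  refine (congrArg (a • ·) ((Stalk.map_gS hy _ hW s).trans
    (Stalk.gS_rs hy (leOfHom g) hW' hW s.1).symm)).trans ?_
  refine (Stalk.gS_smul hy e' hW' a _).trans ?_
  exact (congrArg (Stalk.gS hy M hW') h1).trans (map_zero _)

include hV in
theorem exists_γ (m : ((Good.S h𝔛 hy).obj M : Type u))
    (hm : m ∈ DRing.torsionSub (RGamma.ide l) ((Good.S h𝔛 hy).obj M : Type u)) :
    ∃ z, (Good.S h𝔛 hy).map ((FTors.gammaι (fam h𝔛 l)).app M) z = m := by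
  obtain ⟨n, hn⟩ := hm
  obtain ⟨W, e, hW, s, rfl⟩ := Stalk.exists_gS hy m
  haveI := Levels.isNoetherianRing_A h𝔛 hV
  obtain ⟨k, g, hg⟩ := Submodule.fg_iff_exists_fin_generating_family.1
    (IsNoetherian.noetherian (RGamma.ide l ^ (n + 1)))
  have h0 : ∀ i, Stalk.gS hy M hW (CohPres.resA h𝔛.1 e (g i) • s) = 0 := fun i =>
    (Stalk.gS_smul hy e hW (g i) s).symm.trans
      (hn _ (Ideal.pow_le_pow_right (Nat.le_succ n) (hg ▸ Submodule.subset_span ⟨i, rfl⟩)))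
  choose Wi ei hxi hi using fun i => Stalk.exists_eq_zero hy hW _ (h0 i)
  let W' := W ⊓ Finset.univ.inf Wi
  have hyW' : y ∈ W' := ⟨hW, InjStalk.mem_inf _ _ y fun i _ => hxi i⟩
  have e1 : W' ≤ W := inf_le_left
  have hk : FTors.KilledBy (fam h𝔛 l) M n (CohPres.resF h𝔛.1 M e1 s) := by
    intro U g' a ha
    have eU : U ≤ V := ((leOfHom g').trans e1).trans e
    rw [fam_ideal h𝔛 l n eU, ← Ideal.map_pow, ← hg, ← Ideal.span, Ideal.map_span,
      ← Set.range_comp] at ha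
    obtain ⟨c, rfl⟩ := (Submodule.mem_span_range_iff_exists_fun _).1 ha
    rw [Finset.sum_smul]
    refine Finset.sum_eq_zero fun i _ => ?_
    rw [smul_eq_mul, mul_smul]
    refine (congrArg (c i • ·) ?_).trans (smul_zero _)
    have e2 : U ≤ Wi i := (leOfHom g').trans (inf_le_right.trans (Finset.inf_le (Finset.mem_univ i)))
    have h1 : CohPres.resF h𝔛.1 M ((leOfHom g').trans e1) (CohPres.resA h𝔛.1 e (g i) • s) = 0 :=
      (TorsCoh.resF_resF M (ei i) e2 _).symm.trans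
        ((congrArg (CohPres.resF h𝔛.1 M e2) (hi i)).trans (map_zero _))
    rw [CohPres.resF_smul, IndColim.resA_resA] at h1
    refine (congrArg (CohPres.resA h𝔛.1 eU (g i) • ·) ?_).trans h1
    exact TorsCoh.resF_resF M e1 (leOfHom g') s
  refine ⟨Stalk.gS hy ((FTors.gamma _ (fam h𝔛 l)).obj M) hyW'
    ⟨CohPres.resF h𝔛.1 M e1 s, FTors.IsTorsSect.of_killedBy hk⟩, ?_⟩
  exact (Stalk.map_gS hy _ hyW' _).trans (Stalk.gS_rs hy e1 hyW' hW s)

include hV in
/-- Stalks of the torsion submodule. -/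
theorem exists_equiv : Nonempty (DRing.torsionSub (RGamma.ide l) ((Good.S h𝔛 hy).obj M : Type u)
    ≃ₗ[Levels.A 𝔛 h𝔛.1 V] ((Good.S h𝔛 hy).obj ((FTors.gamma _ (fam h𝔛 l)).obj M) : Type u)) :=
  ⟨(LinearEquiv.ofBijective
    (LinearMap.codRestrict _ ((Good.S h𝔛 hy).map ((FTors.gammaι (fam h𝔛 l)).app M)).hom
      (γ_mem h𝔛 l hy M))
    ⟨fun _ _ h => injective_γ h𝔛 hy M _ (congrArg Subtype.val h),
      fun m => (exists_γ h𝔛 l hV hy M m.1 m.2).imp fun _ h => Subtype.ext h⟩).symm⟩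

end Stalk

variable (L : CochainComplex (FSch.ModF 𝔛 h𝔛.1) ℤ) (f : Levels.A 𝔛 h𝔛.1 V)

/-- The inclusion of consecutive torsion subcomplexes. -/
noncomputable abbrev incl : (G h𝔛 (fam h𝔛 (f :: l))).obj L ⟶ (G h𝔛 (fam h𝔛 l)).obj L :=
  leC h𝔛 (fam_cons_le h𝔛 l f) L

instance : Mono (incl h𝔛 l L f) := mono_leC h𝔛 _ L

/-- The short exact sequence. -/
noncomputable abbrev seq : ShortComplex (CochainComplex (FSch.ModF 𝔛 h𝔛.1) ℤ) :=
  ShortComplex.mk (incl h𝔛 l L f) (cokernel.π _) (cokernel.condition _)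

theorem shortExact_seq : (seq h𝔛 l L f).ShortExact :=
  shortExact_cokernel (incl h𝔛 l L f)

/-- The inclusion followed by the inclusion. -/
theorem incl_γ (n : ℤ) :
    (incl h𝔛 l L f).f n ≫ (FTors.gammaι (fam h𝔛 l)).app (L.X n) =
      (FTors.gammaι (fam h𝔛 (f :: l))).app (L.X n) :=
  leC_γ h𝔛 _ L n

variable {l f L} {y : 𝔛.X 0} (hy : y ∈ V)

include hV in
theorem range_incl (n : ℤ) (p : ((Good.S h𝔛 hy).obj (((G h𝔛 (fam h𝔛 l)).obj L).X n) : Type u))
    (k : ℕ) (hp : f ^ k • p = 0) :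
    ∃ p', (Good.S h𝔛 hy).map ((incl h𝔛 l L f).f n) p' = p := by
  let m := (Good.S h𝔛 hy).map ((FTors.gammaι (fam h𝔛 l)).app (L.X n)) p
  obtain ⟨j, hj⟩ := γ_mem h𝔛 l hy (L.X n) p
  have hf : f ^ k • m = 0 :=
    (map_smul ((Good.S h𝔛 hy).map ((FTors.gammaι (fam h𝔛 l)).app (L.X n))).hom (f ^ k) p).symm.trans
      ((congrArg _ hp).trans (map_zero _))
  obtain ⟨z, hz⟩ := exists_γ h𝔛 (f :: l) hV hy (L.X n) m ⟨k + j, fun a ha => by
    obtain ⟨b, hb, c, hc, rfl⟩ := Submodule.mem_sup.1 (Ideal.sup_pow_add_le_pow_sup_pow ha)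
    rw [Ideal.span_singleton_pow, Ideal.mem_span_singleton'] at hb
    obtain ⟨b', rfl⟩ := hb
    rw [add_smul, mul_smul, hf, smul_zero, zero_add]
    exact hj c hc⟩
  refine ⟨z, injective_γ h𝔛 hy (L.X n) _ ?_⟩
  exact ((ConcreteCategory.congr_hom ((Good.S h𝔛 hy).map_comp _ _) z).symm.trans
    ((congrArg (fun ψ => (Good.S h𝔛 hy).map ψ z) (incl_γ h𝔛 l L f n)))).trans hz

theorem exists_pow_smul (n : ℤ)
    (p : ((Good.S h𝔛 hy).obj (((G h𝔛 (fam h𝔛 (f :: l))).obj L).X n) : Type u)) :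
    ∃ k : ℕ, f ^ k • p = 0 := by
  obtain ⟨j, hj⟩ := γ_mem h𝔛 (f :: l) hy (L.X n) p
  refine ⟨j, injective_γ h𝔛 hy (L.X n) _ ?_⟩
  exact (map_smul _ (f ^ j) p).trans
    ((hj _ (Ideal.pow_mem_pow (RGamma.mem_ide List.mem_cons_self) j)).trans (map_zero _).symm)

theorem shortExact_stalk (n : ℤ) :
    (((seq h𝔛 l L f).map (HomologicalComplex.eval _ _ n)).map (Good.S h𝔛 hy)).ShortExact :=
  ((shortExact_seq h𝔛 l L f).map_of_exact (HomologicalComplex.eval _ _ n)).map_of_exact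
    (Good.S h𝔛 hy)

include hV in
theorem bijective_quot (hL : ∀ n, Good.StInj h𝔛 (L.X n)) (n : ℤ) :
    Function.Bijective fun z : ((Good.S h𝔛 hy).obj ((seq h𝔛 l L f).X₃.X n) : Type u) => f • z := by
  have hs := shortExact_stalk h𝔛 (l := l) (L := L) (f := f) hy n
  let π := ((Good.S h𝔛 hy).map ((cokernel.π (incl h𝔛 l L f)).f n))
  haveI : Epi π := hs.epi_g
  have hsurj : Function.Surjective π := (ModuleCat.epi_iff_surjective π).1 inferInstance
  refine ⟨fun a b hab => ?_, fun q => ?_⟩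
  · obtain ⟨p, hp⟩ := hsurj (a - b)
    rw [← sub_eq_zero, ← hp]
    have h0 : π (f • p) = 0 :=
      (map_smul π.hom f p).trans ((congrArg (f • ·) hp).trans
        ((smul_sub f a b).trans (sub_eq_zero.2 hab)))
    obtain ⟨p', hp'⟩ := (ShortComplex.moduleCat_exact_iff _).1 hs.exact (f • p) h0
    obtain ⟨k, hk⟩ := exists_pow_smul h𝔛 (l := l) (L := L) (f := f) hy n p'
    obtain ⟨p'', rfl⟩ := range_incl h𝔛 hV (l := l) (L := L) (f := f) hy n p (k + 1) (by
      rw [pow_succ, mul_smul]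
      refine (congrArg (f ^ k • ·) hp'.symm).trans ?_
      exact (map_smul _ (f ^ k) p').symm.trans ((congrArg _ hk).trans (map_zero _)))
    exact ConcreteCategory.congr_hom
      (((seq h𝔛 l L f).map (HomologicalComplex.eval _ _ n)).map (Good.S h𝔛 hy)).zero p''
  · obtain ⟨p, rfl⟩ := hsurj q
    haveI := Levels.isNoetherianRing_A h𝔛 hV
    haveI := hL n V hV y hy
    haveI := LocalCoh.injective_torsionSub (RGamma.ide l) ((Good.S h𝔛 hy).obj (L.X n) : Type u)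
    obtain ⟨e⟩ := exists_equiv h𝔛 l hV hy (L.X n)
    haveI : Module.Injective (Levels.A 𝔛 h𝔛.1 V)
        ((Good.S h𝔛 hy).obj (((G h𝔛 (fam h𝔛 l)).obj L).X n) : Type u) :=
      (Module.Baer.of_equiv e (Module.Baer.of_injective ‹_›)).injective
    obtain ⟨k, w, hw⟩ := LocalCoh.exists_pow_mul_eq
      ((Good.S h𝔛 hy).obj (((G h𝔛 (fam h𝔛 l)).obj L).X n) : Type u) f p
    refine ⟨π w, ?_⟩
    obtain ⟨p', hp'⟩ := range_incl h𝔛 hV (l := l) (L := L) (f := f) hy n (f • w - p) k hw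
    refine sub_eq_zero.1 ?_
    refine Eq.trans ?_ (ConcreteCategory.congr_hom
      (((seq h𝔛 l L f).map (HomologicalComplex.eval _ _ n)).map (Good.S h𝔛 hy)).zero p')
    refine Eq.trans ?_ (congrArg π hp').symm
    rw [map_sub, map_smul]

/-- Homology of complexes killed by powers of `f` on stalks. -/
theorem exists_pow_homology (K : CochainComplex (FSch.ModF 𝔛 h𝔛.1) ℤ)
    (hK : ∀ n (p : ((Good.S h𝔛 hy).obj (K.X n) : Type u)), ∃ k : ℕ, f ^ k • p = 0) (n : ℤ)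
    (a : ((Good.S h𝔛 hy).obj (K.homology n) : Type u)) : ∃ k : ℕ, f ^ k • a = 0 := by
  haveI : Epi ((Good.S h𝔛 hy).map (K.homologyπ n)) := inferInstance
  obtain ⟨c, rfl⟩ := (ModuleCat.epi_iff_surjective _).1 this a
  haveI : Mono ((Good.S h𝔛 hy).map (K.iCycles n)) := inferInstance
  obtain ⟨k, hk⟩ := hK n ((Good.S h𝔛 hy).map (K.iCycles n) c)
  refine ⟨k, ?_⟩
  have hc : f ^ k • c = 0 := (ModuleCat.mono_iff_injective _).1 this
    ((map_smul _ (f ^ k) c).trans (hk.trans (map_zero _).symm))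
  exact (map_smul _ (f ^ k) c).symm.trans ((congrArg _ hc).trans (map_zero _))

/-- Homology of complexes on whose stalks `f` is invertible. -/
theorem bijective_homology (K : CochainComplex (FSch.ModF 𝔛 h𝔛.1) ℤ)
    (hK : ∀ n, Function.Bijective fun p : ((Good.S h𝔛 hy).obj (K.X n) : Type u) => f • p) (n : ℤ) :
    Function.Bijective fun a : ((Good.S h𝔛 hy).obj (K.homology n) : Type u) => f • a := by
  let C := ((Good.S h𝔛 hy).mapHomologicalComplex (.up ℤ)).obj K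
  let φ : C ⟶ C := f • 𝟙 C
  haveI : ∀ i, IsIso (φ.f i) := fun i =>
    (ConcreteCategory.isIso_iff_bijective _).2 (hK i)
  haveI : IsIso φ := HomologicalComplex.Hom.isIso_of_components _
  have h1 : HomologicalComplex.homologyMap φ n = f • 𝟙 (C.homology n) := by
    exact (ShortComplex.homologyMap_smul (φ := (HomologicalComplex.shortComplexFunctor _ _ n).map (𝟙 C)) f).trans
      (congrArg (f • ·) (HomologicalComplex.homologyMap_id C n))
  have h2 : Function.Bijective fun a : (C.homology n : Type u) => f • a := by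
    have h3 := ConcreteCategory.bijective_of_isIso (HomologicalComplex.homologyMap φ n)
    rw [h1] at h3
    exact h3
  let e := ((K.sc n).mapHomologyIso (Good.S h𝔛 hy)).toLinearEquiv
  have h4 : (fun a : ((Good.S h𝔛 hy).obj (K.homology n) : Type u) => f • a) =
      (fun a => e a) ∘ (fun a : (C.homology n : Type u) => f • a) ∘ fun a => e.symm a :=
    funext fun a => ((map_smul e f (e.symm a)).trans (congrArg (f • ·) (e.apply_symm_apply a))).symm
  rw [h4]
  exact e.bijective.comp (h2.comp e.symm.bijective)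

include hV in
/-- One generator. -/
theorem step (hL : ∀ n, Good.StInj h𝔛 (L.X n)) {x : 𝔛.X 0} (hx : x ∈ V)
    (h : ∀ i, QcAt.At h𝔛 x (((G h𝔛 (fam h𝔛 l)).obj L).homology i)) (i : ℤ) :
    QcAt.At h𝔛 x (((G h𝔛 (fam h𝔛 (f :: l))).obj L).homology i) := by
  have hS := shortExact_seq h𝔛 l L f
  have hQ : ∀ j, QcAt.At h𝔛 x ((seq h𝔛 l L f).X₃.homology j) := fun j => by
    refine QcAt.at_of_loc h𝔛 f (fun y hy => bijective_homology h𝔛 hy _
      (fun n => bijective_quot h𝔛 hV hy hL n) j)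
      (HomologicalComplex.homologyMap (seq h𝔛 l L f).g j) (fun y hy q => ?_) (fun y hy p hp => ?_)
      hx (h j)
    · obtain ⟨k, hk⟩ := exists_pow_homology h𝔛 hy ((G h𝔛 (fam h𝔛 (f :: l))).obj L)
        (fun n p => exists_pow_smul h𝔛 hy n p) (j + 1)
        ((Good.S h𝔛 hy).map (hS.δ j (j + 1) rfl) q)
      obtain ⟨p, hp⟩ := (ShortComplex.moduleCat_exact_iff _).1
        ((hS.homology_exact₃ j (j + 1) rfl).map (Good.S h𝔛 hy)) (f ^ k • q)
        ((map_smul _ (f ^ k) q).trans hk)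
      exact ⟨k, p, hp.symm⟩
    · obtain ⟨p', hp'⟩ := (ShortComplex.moduleCat_exact_iff _).1
        ((hS.homology_exact₂ j).map (Good.S h𝔛 hy)) p hp
      obtain ⟨k, hk⟩ := exists_pow_homology h𝔛 hy ((G h𝔛 (fam h𝔛 (f :: l))).obj L)
        (fun n p => exists_pow_smul h𝔛 hy n p) j p'
      exact ⟨k, (congrArg (f ^ k • ·) hp'.symm).trans
        ((map_smul _ (f ^ k) p').symm.trans ((congrArg _ hk).trans (map_zero _)))⟩
  have hij : (ComplexShape.up ℤ).Rel (i - 1) i := sub_add_cancel i 1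
  exact QcAt.five h𝔛 _ _ _ _ (hS.comp_δ (i - 1) i hij)
    (hS.δ_comp (i - 1) i hij) ((HomologicalComplex.homologyMap_comp _ _ _).symm.trans
      ((congrArg (fun ψ => HomologicalComplex.homologyMap ψ i) (seq h𝔛 l L f).zero).trans
        (HomologicalComplex.homologyMap_zero _ _ _)))
    (hS.homology_exact₃ (i - 1) i hij) (hS.homology_exact₁ (i - 1) i hij) (hS.homology_exact₂ i)
    (h (i - 1)) (hQ (i - 1)) (h i) (hQ i)

variable (L)

/-- The empty list. -/
theorem isIso_γ_nil (M : FSch.ModF 𝔛 h𝔛.1) :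
    IsIso ((FTors.gammaι (fam h𝔛 ([] : List (Levels.A 𝔛 h𝔛.1 V)))).app M) := by
  refine Stalk.isIso _ fun z => ⟨⊤, trivial, ?_⟩
  rw [ConcreteCategory.isIso_iff_bijective]
  refine ⟨?_, fun m => ?_⟩
  · haveI := TorsLevel.mono_gammaι (fam h𝔛 ([] : List (Levels.A 𝔛 h𝔛.1 V))) M
    haveI : Mono ((Stalk.St (𝔛.Osh h𝔛.1) (U := ⊤) (x := z) trivial).map
      ((FTors.gammaι (fam h𝔛 ([] : List (Levels.A 𝔛 h𝔛.1 V)))).app M)) := inferInstance
    exact (ModuleCat.mono_iff_injective _).1 this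
  · obtain ⟨W, -, hW, s, rfl⟩ := Stalk.exists_gS (U := ⊤) (x := z) trivial m
    have hk : FTors.KilledBy (fam h𝔛 ([] : List (Levels.A 𝔛 h𝔛.1 V))) M 0 s := fun U g a ha => ?_
    · exact ⟨Stalk.gS _ ((FTors.gamma _ (fam h𝔛 [])).obj M) hW
        ⟨s, FTors.IsTorsSect.of_killedBy hk⟩, Stalk.map_gS _ _ hW _⟩
    have ha0 : a = 0 := by
      by_cases e : U ≤ V
      · rw [fam_ideal h𝔛 [] 0 e, RGamma.ide, Ideal.map_bot, zero_add, pow_one] at ha
        exact (Ideal.mem_bot).1 ha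
      · rw [fam_ideal_not h𝔛 [] 0 e] at ha
        exact (Ideal.mem_bot).1 ha
    rw [ha0, zero_smul]

include hV in
/-- All lists. -/
theorem at_list (hL : ∀ n, Good.StInj h𝔛 (L.X n)) {x : 𝔛.X 0} (hx : x ∈ V)
    (h : ∀ i, QcAt.At h𝔛 x (L.homology i)) : ∀ (l : List (Levels.A 𝔛 h𝔛.1 V)) (i : ℤ),
      QcAt.At h𝔛 x (((G h𝔛 (fam h𝔛 l)).obj L).homology i)
  | [], i => by
    let φ : (G h𝔛 (fam h𝔛 ([] : List (Levels.A 𝔛 h𝔛.1 V)))).obj L ⟶ L := gamι _ L
    haveI : ∀ n, IsIso (φ.f n) := fun n => isIso_γ_nil h𝔛 (L.X n)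
    haveI : IsIso φ := HomologicalComplex.Hom.isIso_of_components _
    exact QcAt.at_of_bijective h𝔛 hx (HomologicalComplex.homologyMap φ i)
      (fun y hy => ConcreteCategory.bijective_of_isIso
        ((Good.S h𝔛 hy).map (HomologicalComplex.homologyMap φ i))) (h i)
  | f :: l, i => step h𝔛 hV hL hx (at_list hL hx h l) i

variable (l)

include hV in
theorem fam_le_open (hl : RGamma.ide l = Levels.J (h := h𝔛.1) V) (n : ℕ) (U : (𝔛.X 0).Opens) :
    (fam h𝔛 l).ideal n U ≤ (FTors.openIdealFam 𝔛 h𝔛.1).ideal n U := by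
  by_cases e : U ≤ V
  · rw [fam_ideal h𝔛 l n e, hl, ← Ideal.map_pow, ← ((Levels.adic h𝔛 hV).2.1 n).2,
      Ideal.map_le_iff_le_comap]
    intro a ha
    show Levels.proj 𝔛 h𝔛.1 n U (CohPres.resA h𝔛.1 e a) = 0
    rw [CohPres.proj_resA, RingHom.mem_ker.1 ha, map_zero]
  · rw [fam_ideal_not h𝔛 l n e]
    exact bot_le

include hV in
/-- `Γ'` of a complex with stalkwise injective terms and quasi-coherent cohomology. -/
theorem at_gammaT (hL : ∀ n, Good.StInj h𝔛 (L.X n)) {x : 𝔛.X 0} (hx : x ∈ V)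
    (h : ∀ i, QcAt.At h𝔛 x (L.homology i)) (i : ℤ) :
    QcAt.At h𝔛 x (((Good.Γc h𝔛).obj L).homology i) := by
  haveI := Levels.isNoetherianRing_A h𝔛 hV
  obtain ⟨l, hl⟩ := RGamma.exists_ide_eq (IsNoetherian.noetherian (Levels.J (h := h𝔛.1) V))
  let θ := (NatTrans.mapHomologicalComplex (leNat h𝔛 (I := FTors.openIdealFam 𝔛 h𝔛.1)
    (fam_le_open h𝔛 l hV hl)) (.up ℤ)).app L
  refine QcAt.at_of_bijective h𝔛 hx (HomologicalComplex.homologyMap θ i) (fun y hy => ?_)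
    (at_list h𝔛 hV L hL hx h l i)
  haveI : ∀ n, IsIso ((((Good.S h𝔛 hy).mapHomologicalComplex (.up ℤ)).map θ).f n) := fun n => by
    rw [ConcreteCategory.isIso_iff_bijective]
    have hc : ∀ z, (Good.S h𝔛 hy).map ((FTors.gammaι (fam h𝔛 l)).app (L.X n))
        ((Good.S h𝔛 hy).map (θ.f n) z) =
        (Good.S h𝔛 hy).map ((FTors.gammaTι 𝔛 h𝔛.1).app (L.X n)) z := fun z =>
      (ConcreteCategory.congr_hom ((Good.S h𝔛 hy).map_comp _ _) z).symm.trans rfl
    refine ⟨fun a b hab => ?_, fun z => ?_⟩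
    · exact injective_γ h𝔛 hy (L.X n) (FTors.openIdealFam 𝔛 h𝔛.1)
        ((hc a).symm.trans ((congrArg _ hab).trans (hc b)))
    · have hm := γ_mem h𝔛 l hy (L.X n) z
      rw [hl] at hm
      obtain ⟨w, hw⟩ := Good.exists_preimage h𝔛 hV hy (L.X n) _ hm
      exact ⟨w, injective_γ h𝔛 hy (L.X n) _ ((hc w).trans hw)⟩
  haveI : IsIso (((Good.S h𝔛 hy).mapHomologicalComplex (.up ℤ)).map θ) :=
    HomologicalComplex.Hom.isIso_of_components _
  let g := (HomologicalComplex.shortComplexFunctor (FSch.ModF 𝔛 h𝔛.1) (.up ℤ) i).map θ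
  have e := ShortComplex.mapHomologyIso_hom_naturality g (Good.S h𝔛 hy)
  haveI : IsIso (ShortComplex.homologyMap ((Good.S h𝔛 hy).mapShortComplex.map g)) :=
    inferInstanceAs (IsIso (HomologicalComplex.homologyMap
      (((Good.S h𝔛 hy).mapHomologicalComplex (.up ℤ)).map θ) i))
  rw [← cancel_epi (ShortComplex.mapHomologyIso _ (Good.S h𝔛 hy)).inv, Iso.inv_hom_id_assoc] at e
  haveI : IsIso ((Good.S h𝔛 hy).map (HomologicalComplex.homologyMap θ i)) := by
    change IsIso ((Good.S h𝔛 hy).map (ShortComplex.homologyMap g))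
    rw [← e]
    exact IsIso.comp_isIso' inferInstance (IsIso.comp_isIso' ‹_› inferInstance)
  exact ConcreteCategory.bijective_of_isIso _

/-- `RΓ'` carries quasi-coherent cohomology to quasi-coherent torsion cohomology. -/
theorem isDQCT_RgammaT [FTors.HasRgammaT 𝔛 h𝔛.1] (E : DerivedCategory (FSch.ModF 𝔛 h𝔛.1))
    (hE : ∀ i : ℤ, SheafOfModules.IsQuasicoherent.{u} (SiteCmp.HMod E i)) :
    FTors.IsDQCT 𝔛 h𝔛.1 ((FTors.RgammaT 𝔛 h𝔛.1).obj E) := fun i => by
  refine ⟨isDTorsF_RgammaT h𝔛 E i, QcAt.isQuasicoherent_of_at h𝔛 _ fun x => ?_⟩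
  obtain ⟨L, hL, ⟨e⟩⟩ := exists_rep h𝔛 E
  obtain ⟨V, hV, hx⟩ := CohCons.exists_affine (𝔛 := 𝔛) x
  haveI := isIso_unit h𝔛 L hL
  let e' : SiteCmp.HMod ((FTors.RgammaT 𝔛 h𝔛.1).obj E) i ≅ ((Good.Γc h𝔛).obj L).homology i :=
    (DerivedCategory.homologyFunctor _ i).mapIso ((FTors.RgammaT 𝔛 h𝔛.1).mapIso e ≪≫
      objIso (FTors.openIdealFam 𝔛 h𝔛.1) L) ≪≫ (DerivedCategory.homologyFunctorFactors _ i).app _
  refine QcAt.at_of_bijective h𝔛 hx e'.hom
    (fun y hy => ConcreteCategory.bijective_of_isIso ((Good.S h𝔛 hy).map e'.hom))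
    (at_gammaT h𝔛 hV L hL hx (fun j => ?_) i)
  let ej : L.homology j ≅ SiteCmp.HMod E j :=
    ((DerivedCategory.homologyFunctorFactors _ j).app L).symm ≪≫
      (DerivedCategory.homologyFunctor _ j).mapIso e.symm
  haveI := hE j
  exact QcAt.at_of_bijective h𝔛 hx ej.hom
    (fun y hy => ConcreteCategory.bijective_of_isIso ((Good.S h𝔛 hy).map ej.hom))
    (QcAt.at_of_isQuasicoherent h𝔛 x _)

end Groth.Agent.H22.Gam.QctGamma
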