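import Groth.Agent.H22.Gam.Good
import Groth.Agent.H22.CohDim.Fin
import Groth.Agent.Lib.InjHull.Noeth
import Mathlib.Algebra.DirectSum.Module

/-!
# Sums of modules with injective stalks and the torsion functor (helper22)
-/

set_option autoImplicit false
set_option maxHeartbeats 1000000
set_option linter.style.haveILetI false
set_option linter.unusedSectionVars false

universe u

open CategoryTheory CategoryTheory.Limits AlgebraicGeometry TopologicalSpace Opposite
open Groth.Agent.H30 Groth.Agent.Lib Groth.Agent.H22.CohDimFin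

namespace Groth.Agent.H22.Gam.Sums

section Abstract

/-- Elements of a preserved sum of modules are finite sums. -/
theorem exists_sum_of_preserves {C : Type*} [Category C] {R : Type u} [CommRing R] {κ : Type u}
    (F : C ⥤ ModuleCat.{u} R) [PreservesColimitsOfShape (Discrete κ) F] (f : κ → C) [HasCoproduct f]
    (z : (F.obj (∐ f) : Type u)) :
    ∃ (s : Finset κ) (m : ∀ a, (F.obj (f a) : Type u)),
      z = ∑ a ∈ s, F.map (Sigma.ι f a) (m a) := by
  classical
  let T : Submodule R (F.obj (∐ f) : Type u) := ⨆ a, LinearMap.range (F.map (Sigma.ι f a)).hom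
  let q : F.obj (∐ f) ⟶ ModuleCat.of R ((F.obj (∐ f) : Type u) ⧸ T) := ModuleCat.ofHom T.mkQ
  have hq : q = 0 := Cofan.IsColimit.hom_ext
    (isColimitCofanMkObjOfIsColimit F _ _ (coproductIsCoproduct f)) _ _ fun a => by
      refine ModuleCat.hom_ext (LinearMap.ext fun w => ?_)
      show (Submodule.Quotient.mk (F.map (Sigma.ι f a) w) : (F.obj (∐ f) : Type u) ⧸ T) = 0
      exact (Submodule.Quotient.mk_eq_zero T).2 (Submodule.mem_iSup_of_mem a ⟨w, rfl⟩)
  have hz : z ∈ T := (Submodule.Quotient.mk_eq_zero T).1 (by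
    have := ConcreteCategory.congr_hom hq z
    exact this)
  obtain ⟨c, hc, hcz⟩ := (Submodule.mem_iSup_iff_exists_finsupp _ _).1 hz
  choose m hm using fun a => hc a
  exact ⟨c.support, m, hcz.symm.trans (Finset.sum_congr rfl fun a _ => (hm a).symm)⟩

end Abstract

section Generic

variable {X : TopCat.{u}} {O : CategoryTheory.Sheaf (Opens.grothendieckTopology X) CommRingCat.{u}}
  {U : Opens X} {x : X} (hx : x ∈ U)

instance preservesDiscrete (κ : Type u) : PreservesColimitsOfShape (Discrete κ) (Stalk.St O hx) := by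
  haveI : PreservesColimitsOfShape (Discrete κ) (Stalk.St O hx ⋙ forget₂ _ AddCommGrpCat.{u}) :=
    preservesColimitsOfShape_of_natIso (Stalk.forgetIso hx).symm
  exact preservesColimitsOfShape_of_reflects_of_preserves _ (forget₂ _ AddCommGrpCat.{u})

variable {κ : Type u} (f : κ → _root_.ModSite.Mod O)

theorem exists_sum (z : ((Stalk.St O hx).obj (∐ f) : Type u)) :
    ∃ (s : Finset κ) (m : ∀ a, ((Stalk.St O hx).obj (f a) : Type u)),
      z = ∑ a ∈ s, (Stalk.St O hx).map (Sigma.ι f a) (m a) :=
  exists_sum_of_preserves (Stalk.St O hx) f z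

open Classical in
theorem map_proj_sum (b : κ) (s : Finset κ) (m : ∀ a, ((Stalk.St O hx).obj (f a) : Type u)) :
    (Stalk.St O hx).map (proj f b) (∑ a ∈ s, (Stalk.St O hx).map (Sigma.ι f a) (m a)) =
      if b ∈ s then m b else 0 := by
  refine (map_sum ((Stalk.St O hx).map (proj f b)).hom _ _).trans ?_
  have h : ∀ a, (Stalk.St O hx).map (proj f b) ((Stalk.St O hx).map (Sigma.ι f a) (m a)) =
      (Stalk.St O hx).map (Sigma.ι f a ≫ proj f b) (m a) := fun a =>
    (ConcreteCategory.congr_hom ((Stalk.St O hx).map_comp _ _) (m a)).symm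
  split_ifs with hb
  · rw [Finset.sum_eq_single_of_mem b hb]
    · refine (h b).trans ?_
      rw [ι_proj, (Stalk.St O hx).map_id]
      rfl
    · intro a _ ha
      refine (h a).trans ?_
      rw [ι_proj_ne f ha, Functor.map_zero]
      rfl
  · refine Finset.sum_eq_zero fun a ha => ?_
    refine (h a).trans ?_
    rw [ι_proj_ne f (show a ≠ b from fun e => hb (by rw [← e]; exact ha)), Functor.map_zero]
    rfl

open scoped DirectSum in
/-- Stalks of sums are direct sums of stalks. -/
theorem exists_equiv :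
    Nonempty ((⨁ a, ((Stalk.St O hx).obj (f a) : Type u)) ≃ₗ[O.obj.obj (op U)]
      ((Stalk.St O hx).obj (∐ f) : Type u)) := by
  classical
  let φ := DirectSum.toModule (O.obj.obj (op U)) κ ((Stalk.St O hx).obj (∐ f) : Type u)
    fun a => ((Stalk.St O hx).map (Sigma.ι f a)).hom
  have hφ : ∀ v : ⨁ a, ((Stalk.St O hx).obj (f a) : Type u),
      φ v = ∑ a ∈ DFinsupp.support v, (Stalk.St O hx).map (Sigma.ι f a) (v a) := fun v => by
    conv_lhs => rw [← DirectSum.sum_support_of v]
    rw [map_sum]
    exact Finset.sum_congr rfl fun a _ => by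
      rw [← DirectSum.lof_eq_of (O.obj.obj (op U))]
      exact DirectSum.toModule_lof (R := O.obj.obj (op U))
        (φ := fun a => ((Stalk.St O hx).map (Sigma.ι f a)).hom) a (v a)
  refine ⟨LinearEquiv.ofBijective φ ⟨fun v w hvw => ?_, fun z => ?_⟩⟩
  · refine DFinsupp.ext fun b => ?_
    have h1 : ∀ v : ⨁ a, ((Stalk.St O hx).obj (f a) : Type u), v b = (Stalk.St O hx).map (proj f b) (φ v) := fun v => by
      rw [hφ, map_proj_sum hx f b]
      split_ifs with hb
      · rfl
      · exact DFinsupp.notMem_support_iff.1 hb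
    exact (h1 v).trans ((congrArg ((Stalk.St O hx).map (proj f b)) hvw).trans (h1 w).symm)
  · obtain ⟨s, m, rfl⟩ := exists_sum hx f z
    refine ⟨∑ a ∈ s, DirectSum.lof (O.obj.obj (op U)) κ _ a (m a), ?_⟩
    rw [map_sum]
    exact Finset.sum_congr rfl fun a _ => DirectSum.toModule_lof (R := O.obj.obj (op U))
        (φ := fun a => ((Stalk.St O hx).map (Sigma.ι f a)).hom) a (m a)

end Generic

variable {𝔛 : FSch.Sys.{u}} (h𝔛 : 𝔛.IsLocNoethFormal) {κ : Type u} (f : κ → FSch.ModF 𝔛 h𝔛.1)

theorem stInj_sigma [HasCoproduct f] (hf : ∀ a, Good.StInj h𝔛 (f a)) : Good.StInj h𝔛 (∐ f) :=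
  fun V hV x hx => by
    classical
    haveI := Levels.isNoetherianRing_A h𝔛 hV
    obtain ⟨e⟩ := exists_equiv hx f
    exact (Module.Baer.of_equiv e (Module.Baer.of_injective
      (InjHull.Noeth.injective_directSum (fun a => ((Good.S h𝔛 hx).obj (f a) : Type u))
        fun a => hf a V hV x hx))).injective

/-- `Γ'` commutes with sums. -/
theorem preservesColimit_gammaT : PreservesColimit (Discrete.functor f) (FTors.gammaT 𝔛 h𝔛.1) := by
  let G := FTors.gammaT 𝔛 h𝔛.1
  let γ := FTors.gammaTι 𝔛 h𝔛.1
  let c := sigmaComparison G f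
  haveI : IsIso c := by
    refine Stalk.isIso _ fun y => ?_
    obtain ⟨V, hV, hy⟩ := CohCons.exists_affine (𝔛 := 𝔛) y
    refine ⟨V, hy, ?_⟩
    let S := Good.S h𝔛 hy
    rw [ConcreteCategory.isIso_iff_bijective]
    have hc : ∀ a (w : (S.obj (G.obj (f a)) : Type u)),
        S.map c (S.map (Sigma.ι (fun a => G.obj (f a)) a) w) = S.map (G.map (Sigma.ι f a)) w :=
      fun a w => (ConcreteCategory.congr_hom (S.map_comp _ _) w).symm.trans
        (congrArg (fun t => S.map t w) (ι_comp_sigmaComparison G f a))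
    have hcp : ∀ b, c ≫ G.map (proj f b) = proj (fun a => G.obj (f a)) b := fun b =>
      Sigma.hom_ext _ _ fun a => by
        rw [ι_comp_sigmaComparison_assoc, ← Functor.map_comp]
        rcases eq_or_ne a b with rfl | hab
        · rw [ι_proj, ι_proj, G.map_id]
        · rw [ι_proj_ne f hab, ι_proj_ne _ hab, G.map_zero]
    constructor
    · intro z z' hzz
      rw [← sub_eq_zero]
      have h0 : S.map c (z - z') = 0 := (map_sub (S.map c).hom z z').trans (sub_eq_zero.2 hzz)
      obtain ⟨s, m, hm⟩ := exists_sum hy (fun a => G.obj (f a)) (z - z')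
      rw [hm] at h0 ⊢
      refine Finset.sum_eq_zero fun b hb => ?_
      have h1 := map_proj_sum hy (fun a => G.obj (f a)) b s m
      rw [if_pos hb] at h1
      have h2 : S.map (proj (fun a => G.obj (f a)) b)
          (∑ a ∈ s, S.map (Sigma.ι (fun a => G.obj (f a)) a) (m a)) = 0 := by
        rw [← hcp b]
        refine (ConcreteCategory.congr_hom (S.map_comp _ _) _).trans ?_
        exact (congrArg (S.map (G.map (proj f b))) h0).trans (map_zero _)
      exact (congrArg (S.map (Sigma.ι (fun a => G.obj (f a)) b)) (h1.symm.trans h2)).trans (map_zero _)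
    · intro z
      let m0 := S.map (γ.app (∐ f)) z
      obtain ⟨s, m, hm⟩ := exists_sum hy f m0
      have htors : ∀ a ∈ s, m a ∈ DRing.torsionSub (Good.JV h𝔛 V) (S.obj (f a) : Type u) := by
        intro a ha
        have h1 := map_proj_sum hy f a s m
        rw [if_pos ha, ← hm] at h1
        exact h1 ▸ DRing.map_mem_torsionSub _ (S.map (proj f a)).hom
          (Good.map_gammaι_mem h𝔛 hV hy (∐ f) z)
      choose w hw using fun a : s => Good.exists_preimage h𝔛 hV hy (f a.1) (m a.1) (htors a.1 a.2)
      refine ⟨∑ a ∈ s.attach, S.map (Sigma.ι (fun a => G.obj (f a)) a.1) (w a), ?_⟩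
      haveI := TorsLevel.mono_gammaι (FTors.openIdealFam 𝔛 h𝔛.1) (∐ f)
      apply (ModuleCat.mono_iff_injective (S.map (γ.app (∐ f)))).1 inferInstance
      show S.map (γ.app (∐ f)) (S.map c _) = m0
      rw [hm, map_sum, map_sum, ← Finset.sum_attach s]
      refine Finset.sum_congr rfl fun a _ => ?_
      rw [hc, ← hw a]
      exact (ConcreteCategory.congr_hom (S.map_comp _ _) _).symm.trans
        ((congrArg (fun t => S.map t (w a)) (γ.naturality (Sigma.ι f a.1))).trans
          (ConcreteCategory.congr_hom (S.map_comp _ _) _))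
  exact PreservesCoproduct.of_iso_comparison G f

end Groth.Agent.H22.Gam.Sums
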