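import Groth.Agent.H22.Gam.Derived
import Groth.Agent.H22.Gam.Sums
import Groth.Agent.H22.CohDim.SmallModel
import Groth.Agent.Lib.SpecSeq.RightHom
import Groth.Agent.Lib.RlimTrunc.RightPres
import Groth.Agent.Lib.DerCat.HocolimQ

/-!
# `RΓ'` has a right adjoint (helper22)
-/

set_option autoImplicit false
set_option maxHeartbeats 1000000
set_option linter.style.haveILetI false

universe u

open CategoryTheory CategoryTheory.Limits AlgebraicGeometry TopologicalSpace Opposite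
open Groth.Agent.H30 Groth.Agent.Lib

attribute [local instance] HasDerivedCategory.standard

namespace Groth.Agent.H22.Gam.RightAdj

section Brown

universe w v v₁

variable {A : Type v₁} [Category.{v} A] [Abelian A] [HasDerivedCategory.{w} A] [IsGrothendieckAbelian.{v} A]
  [(DerivedCategory.Qh (C := A)).IsLeftAdjoint]

/-- Brown representability for derived endofunctors. -/
theorem isLeftAdjoint_R (G : A ⥤ A) [G.Additive]
    [∀ κ : Type v, PreservesColimitsOfShape (Discrete κ) (RlimTrunc.RightPres.R G)] :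
    (RlimTrunc.RightPres.R G).IsLeftAdjoint :=
  CohDimSmall.isLeftAdjoint (RlimTrunc.RightPres.R G)

end Brown

variable {𝔛 : FSch.Sys.{u}} (h𝔛 : 𝔛.IsLocNoethFormal) [FTors.HasRgammaT 𝔛 h𝔛.1]

/-- The comparison on complexes. -/
noncomputable def ν : Good.Γc h𝔛 ⋙ DerivedCategory.Q ⟶
    DerivedCategory.Q ⋙ FTors.RgammaT 𝔛 h𝔛.1 :=
  (khIso (FTors.openIdealFam 𝔛 h𝔛.1)).inv ≫
    Functor.whiskerLeft _ (unit (FTors.openIdealFam 𝔛 h𝔛.1)) ≫ (Functor.associator _ _ _).inv ≫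
    Functor.whiskerRight (DerivedCategory.quotientCompQhIso _).hom _

theorem isIso_ν (L : CochainComplex (FSch.ModF 𝔛 h𝔛.1) ℤ) (hL : ∀ n, Good.StInj h𝔛 (L.X n)) :
    IsIso ((ν h𝔛).app L) := by
  haveI := isIso_unit h𝔛 L hL
  simp only [ν, NatTrans.comp_app, Functor.whiskerLeft_app, Functor.whiskerRight_app,
    Functor.associator_inv_app]
  infer_instance

theorem preservesColimit {κ : Type u} (E : κ → DerivedCategory (FSch.ModF 𝔛 h𝔛.1)) :
    PreservesColimit (Discrete.functor E) (FTors.RgammaT 𝔛 h𝔛.1) := by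
  haveI := DerivedOX.Grothendieck.isGrothendieckAbelian_sheafOfModules
    (ModSite.ringSh (𝔛.Osh h𝔛.1))
  haveI := DerivedOX.RightDerived.isLeftAdjoint_Qh
    (DerCat.KInjExists.hasKInjRes (A := FSch.ModF 𝔛 h𝔛.1))
  haveI := DerCat.HocolimQ.preservesColimitsOfShape_Q (A := FSch.ModF 𝔛 h𝔛.1) κ
  choose L hL e using fun a => exists_rep h𝔛 (E a)
  let K := Discrete.functor L
  let c : Cofan L := Cofan.mk (∐ L) (Sigma.ι L)
  have hc : IsColimit c := coproductIsCoproduct L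
  have hG : IsColimit ((Good.Γc h𝔛).mapCocone c) := by
    refine HomologicalComplex.isColimitOfEval _ _ fun n => ?_
    haveI := Sums.preservesColimit_gammaT h𝔛 fun a => (L a).X n
    haveI : PreservesColimit (K ⋙ HomologicalComplex.eval _ _ n) (FTors.gammaT 𝔛 h𝔛.1) :=
      preservesColimit_of_iso_diagram _ (K₁ := Discrete.functor fun a => (L a).X n)
        (Discrete.natIso fun _ => Iso.refl _)
    exact isColimitOfPreserves (FTors.gammaT 𝔛 h𝔛.1)
      (isColimitOfPreserves (HomologicalComplex.eval _ _ n) hc)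
  haveI : IsIso ((ν h𝔛).app c.pt) := isIso_ν h𝔛 _ fun n => by
    haveI : PreservesColimit (Discrete.functor L)
        (HomologicalComplex.eval (FSch.ModF 𝔛 h𝔛.1) (ComplexShape.up ℤ) n) := inferInstance
    refine fun V hV x hx => ?_
    have i := PreservesCoproduct.iso (HomologicalComplex.eval (FSch.ModF 𝔛 h𝔛.1) (ComplexShape.up ℤ) n) L
    exact (Module.Baer.of_equiv ((Good.S h𝔛 hx).mapIso i).symm.toLinearEquiv
      (Module.Baer.of_injective (Sums.stInj_sigma h𝔛 (fun a => (L a).X n) (fun a => hL a n) V hV x hx))).injective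
  let d : K ⋙ Good.Γc h𝔛 ⋙ DerivedCategory.Q ≅ K ⋙ DerivedCategory.Q ⋙ FTors.RgammaT 𝔛 h𝔛.1 :=
    Discrete.natIso fun a => @asIso _ _ _ _ ((ν h𝔛).app (L a.as)) (isIso_ν h𝔛 _ (hL a.as))
  have hQR : IsColimit ((DerivedCategory.Q ⋙ FTors.RgammaT 𝔛 h𝔛.1).mapCocone c) :=
    IsColimit.equivOfNatIsoOfIso d ((Good.Γc h𝔛 ⋙ DerivedCategory.Q).mapCocone c)
      ((DerivedCategory.Q ⋙ FTors.RgammaT 𝔛 h𝔛.1).mapCocone c)
      (Cocone.ext (asIso ((ν h𝔛).app c.pt)) fun a => by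
        rcases a with ⟨a⟩
        show (((ν h𝔛).app (L a)) |> fun t => ((Cocone.precompose d.inv).obj _).ι.app ⟨a⟩ ≫ _) = _
        simp only [d, Cocone.precompose_obj_ι, NatTrans.comp_app, Discrete.natIso_inv_app,
          asIso_inv, Functor.mapCocone_ι_app, asIso_hom, Category.assoc, IsIso.inv_comp_eq]
        exact (ν h𝔛).naturality (Sigma.ι L a))
      (isColimitOfPreserves DerivedCategory.Q hG)
  haveI : PreservesColimit (K ⋙ DerivedCategory.Q) (FTors.RgammaT 𝔛 h𝔛.1) :=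
    preservesColimit_of_preserves_colimit_cocone (isColimitOfPreserves DerivedCategory.Q hc) hQR
  exact preservesColimit_of_iso_diagram _ (K₁ := K ⋙ DerivedCategory.Q)
    (Discrete.natIso fun a => (e a.as).some.symm)

/-- `RΓ'` is a left adjoint. -/
theorem isLeftAdjoint : (FTors.RgammaT 𝔛 h𝔛.1).IsLeftAdjoint := by
  haveI := DerivedOX.Grothendieck.isGrothendieckAbelian_sheafOfModules
    (ModSite.ringSh (𝔛.Osh h𝔛.1))
  haveI := DerivedOX.RightDerived.isLeftAdjoint_Qh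
    (DerCat.KInjExists.hasKInjRes (A := FSch.ModF 𝔛 h𝔛.1))
  have i : FTors.RgammaT 𝔛 h𝔛.1 ≅ RlimTrunc.RightPres.R (FTors.gammaT 𝔛 h𝔛.1) :=
    (DerivedOX.RightDerived.totalRightDerivedIso (FTors.gammaKh (FTors.openIdealFam 𝔛 h𝔛.1))).symm
  haveI : ∀ κ : Type u, PreservesColimitsOfShape (Discrete κ)
      (RlimTrunc.RightPres.R (FTors.gammaT 𝔛 h𝔛.1)) := fun κ => ⟨fun {K} => by
    haveI := preservesColimit h𝔛 (K.obj ∘ Discrete.mk)
    haveI : PreservesColimit K (FTors.RgammaT 𝔛 h𝔛.1) :=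
      preservesColimit_of_iso_diagram _ Discrete.natIsoFunctor.symm
    exact preservesColimit_of_natIso _ i⟩
  haveI := isLeftAdjoint_R (FTors.gammaT 𝔛 h𝔛.1)
  exact ((Adjunction.ofIsLeftAdjoint (RlimTrunc.RightPres.R (FTors.gammaT 𝔛 h𝔛.1))).ofNatIsoLeft
    i.symm).isLeftAdjoint

/-- Composed with a left adjoint on a subcategory of torsion objects, `RΓ'` stays a left adjoint. -/
theorem isLeftAdjoint_restrict {D : Type*} [Category.{u + 1} D]
    (P Pt : ObjectProperty (DerivedCategory (FSch.ModF 𝔛 h𝔛.1))) [Pt.IsClosedUnderIsomorphisms]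
    (hPt : ∀ G, Pt G → FTors.IsDTorsF 𝔛 h𝔛.1 G) (hP : ∀ E, P E ↔ Pt ((FTors.RgammaT 𝔛 h𝔛.1).obj E))
    (F : DerivedCategory (FSch.ModF 𝔛 h𝔛.1) ⥤ D) [(Pt.ι ⋙ F).IsLeftAdjoint] :
    (P.ι ⋙ FTors.RgammaT 𝔛 h𝔛.1 ⋙ F).IsLeftAdjoint := by
  let R := FTors.RgammaT 𝔛 h𝔛.1
  let ε := FTors.RgammaTε 𝔛 h𝔛.1
  haveI : R.IsLeftAdjoint := isLeftAdjoint h𝔛
  let a := Adjunction.ofIsLeftAdjoint R
  have hm : ∀ G : Pt.FullSubcategory, IsIso (R.map (𝟙 _) ≫ (a.counit.app G.obj) :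
      R.obj (R.rightAdjoint.obj G.obj) ⟶ G.obj) := fun G => by
    rw [R.map_id, Category.id_comp]
    haveI h1 : ∀ T, FTors.IsDTorsF 𝔛 h𝔛.1 T →
        Function.Bijective fun φ : T ⟶ R.obj (R.rightAdjoint.obj G.obj) => φ ≫ a.counit.app G.obj := by
      intro T hT
      haveI := (isDTorsF_iff h𝔛 T).1 hT
      haveI hb := bijective_comp h𝔛 T (R.rightAdjoint.obj G.obj) hT
      have key : ∀ φ : T ⟶ R.obj (R.rightAdjoint.obj G.obj), φ ≫ a.counit.app G.obj =
          inv (ε.app T) ≫ (a.homEquiv T G.obj).symm (φ ≫ ε.app (R.rightAdjoint.obj G.obj)) := by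
        intro φ
        rw [IsIso.eq_inv_comp, Adjunction.homEquiv_counit, ← Category.assoc]
        congr 1
        haveI := (isDTorsF_iff h𝔛 (R.obj (R.rightAdjoint.obj G.obj))).1 (isDTorsF_RgammaT h𝔛 _)
        haveI := isIso_map_ε h𝔛 (R.rightAdjoint.obj G.obj)
        refine (bijective_comp h𝔛 (R.obj T) _ (isDTorsF_RgammaT h𝔛 T)).1 ?_
        show (ε.app T ≫ φ) ≫ ε.app _ = R.map (φ ≫ ε.app _) ≫ ε.app _
        rw [Category.assoc]
        exact (ε.naturality (φ ≫ ε.app (R.rightAdjoint.obj G.obj))).symm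
      refine ⟨fun φ φ' h => hb.1 ?_, fun t => ?_⟩
      · simp only [key, cancel_epi] at h
        exact (a.homEquiv T G.obj).symm.injective h
      · obtain ⟨φ, hφ⟩ := hb.2 (a.homEquiv T G.obj (ε.app T ≫ t))
        refine ⟨φ, ?_⟩
        show φ ≫ _ = t
        rw [key, show φ ≫ ε.app _ = _ from hφ, Equiv.symm_apply_apply, IsIso.inv_hom_id_assoc]
    obtain ⟨s, hs⟩ := (h1 G.obj (hPt _ G.property)).2 (𝟙 _)
    refine ⟨s, (h1 _ (isDTorsF_RgammaT h𝔛 _)).1 ?_, hs⟩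
    show (a.counit.app G.obj ≫ s) ≫ a.counit.app G.obj = 𝟙 _ ≫ a.counit.app G.obj
    exact (Category.assoc _ _ _).trans ((congrArg (a.counit.app G.obj ≫ ·) hs).trans
      ((Category.comp_id _).trans (Category.id_comp _).symm))
  let L : P.FullSubcategory ⥤ Pt.FullSubcategory := Pt.lift (P.ι ⋙ R) fun E => (hP E.obj).1 E.property
  let M : Pt.FullSubcategory ⥤ P.FullSubcategory := P.lift (Pt.ι ⋙ R.rightAdjoint) fun G => (hP _).2
    (Pt.prop_of_iso (@asIso _ _ _ _ _ (hm G)).symm G.property)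
  have adj : L ⊣ M := a.restrictFullyFaithful P.fullyFaithfulι Pt.fullyFaithfulι
    (show P.ι ⋙ R ≅ L ⋙ Pt.ι from Iso.refl _) (show Pt.ι ⋙ R.rightAdjoint ≅ M ⋙ P.ι from Iso.refl _)
  haveI := adj.isLeftAdjoint
  exact ((Adjunction.ofIsLeftAdjoint (L ⋙ Pt.ι ⋙ F)).ofNatIsoLeft
    ((Functor.associator L Pt.ι F).symm ≪≫ Functor.isoWhiskerRight (Iso.refl (P.ι ⋙ R)) F ≪≫
      Functor.associator P.ι R F)).isLeftAdjoint

end Groth.Agent.H22.Gam.RightAdj
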