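import Groth.Agent.H22.Gam.Derived
import Groth.Agent.H22.Gam.Adjoint
import Mathlib.CategoryTheory.Abelian.Subcategory

/-!
# The derived category of torsion modules (helper22)
-/

set_option autoImplicit false
set_option maxHeartbeats 1000000
set_option linter.style.haveILetI false

universe u

open CategoryTheory CategoryTheory.Limits AlgebraicGeometry TopologicalSpace Opposite
open Groth.Agent.H30 Groth.Agent.Lib

attribute [local instance] HasDerivedCategory.standard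

namespace Groth.Agent.H22.Gam.TorsEquiv

variable {𝔛 : FSch.Sys.{u}} (h𝔛 : 𝔛.IsLocNoethFormal)

/-- `Γ'` into torsion modules. -/
noncomputable abbrev G : FSch.ModF 𝔛 h𝔛.1 ⥤ (FTors.IsTorsF 𝔛 h𝔛.1).FullSubcategory :=
  (FTors.IsTorsF 𝔛 h𝔛.1).lift (FTors.gammaT 𝔛 h𝔛.1) fun M => TorsClosure.isTors_gammaT M

/-- The inclusion is left adjoint to `Γ'`. -/
noncomputable def adj : (FTors.IsTorsF 𝔛 h𝔛.1).ι ⊣ G h𝔛 :=
  Adjunction.mkOfUnitCounit
    { unit :=
        { app := fun M => haveI := TorsClosure.isIso_gammaTι M.property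
            ObjectProperty.homMk (inv ((FTors.gammaTι 𝔛 h𝔛.1).app M.obj))
          naturality := fun M N f => ObjectProperty.hom_ext _ (by
            haveI := TorsClosure.isIso_gammaTι M.property
            haveI := TorsClosure.isIso_gammaTι N.property
            show f.hom ≫ inv ((FTors.gammaTι 𝔛 h𝔛.1).app N.obj) =
              inv ((FTors.gammaTι 𝔛 h𝔛.1).app M.obj) ≫ (FTors.gammaT 𝔛 h𝔛.1).map f.hom
            rw [IsIso.eq_inv_comp, ← Category.assoc, IsIso.comp_inv_eq]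
            exact ((FTors.gammaTι 𝔛 h𝔛.1).naturality f.hom).symm) }
      counit :=
        { app := fun M => (FTors.gammaTι 𝔛 h𝔛.1).app M
          naturality := fun _ _ f => (FTors.gammaTι 𝔛 h𝔛.1).naturality f }
      left_triangle := by
        ext M : 2
        haveI := TorsClosure.isIso_gammaTι M.property
        show (inv ((FTors.gammaTι 𝔛 h𝔛.1).app M.obj)) ≫ 𝟙 _ ≫ (FTors.gammaTι 𝔛 h𝔛.1).app M.obj = 𝟙 _
        rw [Category.id_comp, IsIso.inv_hom_id]
      right_triangle := by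
        ext M : 2
        apply ObjectProperty.hom_ext
        haveI := TorsClosure.isIso_gammaTι (TorsClosure.isTors_gammaT (h := h𝔛.1) M)
        show inv ((FTors.gammaTι 𝔛 h𝔛.1).app ((FTors.gammaT 𝔛 h𝔛.1).obj M)) ≫ 𝟙 _ ≫
          (FTors.gammaT 𝔛 h𝔛.1).map ((FTors.gammaTι 𝔛 h𝔛.1).app M) = 𝟙 _
        rw [Category.id_comp, IsIso.inv_comp_eq, Category.comp_id]
        haveI := TorsLevel.mono_gammaι (FTors.openIdealFam 𝔛 h𝔛.1) M
        exact (cancel_mono ((FTors.gammaTι 𝔛 h𝔛.1).app M)).1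
          ((FTors.gammaTι 𝔛 h𝔛.1).naturality ((FTors.gammaTι 𝔛 h𝔛.1).app M)) }

theorem main [(FTors.IsTorsF 𝔛 h𝔛.1).ContainsZero] [(FTors.IsTorsF 𝔛 h𝔛.1).IsClosedUnderKernels]
    [(FTors.IsTorsF 𝔛 h𝔛.1).IsClosedUnderCokernels] [(FTors.IsTorsF 𝔛 h𝔛.1).IsClosedUnderFiniteProducts]
    [PreservesFiniteLimits (FTors.IsTorsF 𝔛 h𝔛.1).ι] [PreservesFiniteColimits (FTors.IsTorsF 𝔛 h𝔛.1).ι] :
    (FTors.IsTorsF 𝔛 h𝔛.1).ι.mapDerivedCategory.Full ∧
      (FTors.IsTorsF 𝔛 h𝔛.1).ι.mapDerivedCategory.Faithful ∧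
      ∀ E : DerivedCategory (FSch.ModF 𝔛 h𝔛.1),
        (FTors.IsTorsF 𝔛 h𝔛.1).ι.mapDerivedCategory.essImage E ↔ FTors.IsDTorsF 𝔛 h𝔛.1 E := by
  let P := FTors.IsTorsF 𝔛 h𝔛.1
  haveI := DerivedOX.Grothendieck.isGrothendieckAbelian_sheafOfModules
    (ModSite.ringSh (𝔛.Osh h𝔛.1))
  haveI := DerivedOX.RightDerived.isLeftAdjoint_Qh
    (DerCat.KInjExists.hasKInjRes (A := FSch.ModF 𝔛 h𝔛.1))
  haveI : FTors.HasRgammaT 𝔛 h𝔛.1 := DerivedOX.RightDerived.hasRightDerivedFunctor _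
  haveI : (G h𝔛).Additive := (adj h𝔛).right_adjoint_additive
  refine Adjoint.fullyFaithful_and_essImage (adj h𝔛) (FTors.IsDTorsF 𝔛 h𝔛.1) (fun X i => ?_)
    (fun e h => isDTorsF_of_iso h𝔛 e h) fun Y hY => ?_
  · obtain ⟨K, ⟨e⟩⟩ : ∃ K, Nonempty (DerivedCategory.Q.obj K ≅ X) :=
      ⟨_, ⟨DerivedCategory.Q.objObjPreimageIso X⟩⟩
    exact isTorsF_of_iso h𝔛 (((K.sc i).mapHomologyIso P.ι).symm ≪≫
      ((DerivedCategory.homologyFunctorFactors (FSch.ModF 𝔛 h𝔛.1) i).app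
        ((P.ι.mapHomologicalComplex (ComplexShape.up ℤ)).obj K)).symm ≪≫
      (DerivedCategory.homologyFunctor _ i).mapIso ((P.ι.mapDerivedCategoryFactors.app K).symm ≪≫
        P.ι.mapDerivedCategory.mapIso e)) ((K.sc i).homology).property
  · let R := DerivedOX.RightDerived.resFunctor (FSch.ModF 𝔛 h𝔛.1)
    let a := DerivedOX.RightDerived.resAdj (FSch.ModF 𝔛 h𝔛.1)
    have hc : IsIso (a.counit.app Y) := Adjoint.isIso_resAdj_counit Y
    let I := FTors.openIdealFam 𝔛 h𝔛.1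
    haveI : IsIso (a.unit.app (R.obj Y)) := by
      haveI : IsIso (a.unit.app (R.obj Y) ≫ R.map (a.counit.app Y)) := by
        rw [a.right_triangle_components]; exact IsIso.id _
      haveI : IsIso (R.map (a.counit.app Y)) := @Functor.map_isIso _ _ _ _ _ _ R (a.counit.app Y) hc
      exact IsIso.of_isIso_comp_right _ (R.map (a.counit.app Y))
    haveI : IsIso ((unit I).app (quot.obj (R.obj Y).as)) :=
      (DerivedOX.RightDerived.isIso_totalRightDerivedUnit_app_iff (FTors.gammaKh I) (R.obj Y)).2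
        inferInstance
    have e : DerivedCategory.Q.obj (R.obj Y).as ≅ Y :=
      ((DerivedCategory.quotientCompQhIso _).app (R.obj Y).as).symm ≪≫ (@asIso _ _ _ _ (a.counit.app Y) hc)
    exact (isIso_ε_iff I (R.obj Y).as).1 ((isDTorsF_iff h𝔛 _).1 (isDTorsF_of_iso h𝔛 e.symm hY))

end Groth.Agent.H22.Gam.TorsEquiv
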