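import Groth.Agent.H22.Gam.QctGamma

/-!
# Extension by zero as a subsheaf (helper22)
-/

set_option autoImplicit false
set_option maxHeartbeats 1000000
set_option linter.style.haveILetI false

universe u

open CategoryTheory CategoryTheory.Limits AlgebraicGeometry TopologicalSpace Opposite
open Groth.Agent.H30 Groth.Agent.H30.RealLimSec Groth.Agent.H22.IndColim Groth.Agent.H54.FSchQc

namespace Groth.Agent.H22.Gam.ZeroExt

variable {𝔛 : FSch.Sys.{u}} (h𝔛 : 𝔛.IsLocNoethFormal)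

/-- Sections vanishing near the points outside `O`. -/
def Supp (O : (𝔛.X 0).Opens) (M : FSch.ModF 𝔛 h𝔛.1) {U : (𝔛.X 0).Opens} (s : sec h𝔛.1 M U) : Prop :=
  ∀ y ∈ U, y ∉ O → ∃ (W : (𝔛.X 0).Opens) (e : W ≤ U), y ∈ W ∧ CohPres.resF h𝔛.1 M e s = 0

variable (O : (𝔛.X 0).Opens)

theorem supp_res {M : FSch.ModF 𝔛 h𝔛.1} {U V : (𝔛.X 0).Opens} (e : V ≤ U) {s : sec h𝔛.1 M U}
    (hs : Supp h𝔛 O M s) : Supp h𝔛 O M (CohPres.resF h𝔛.1 M e s) := fun y hy hyO => by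
  obtain ⟨W, eW, hyW, hW⟩ := hs y (e hy) hyO
  refine ⟨W ⊓ V, inf_le_right, ⟨hyW, hy⟩, ?_⟩
  rw [resF_resF, ← resF_resF M eW (inf_le_left : W ⊓ V ≤ W), hW, map_zero]

theorem supp_of_le {M : FSch.ModF 𝔛 h𝔛.1} {U : (𝔛.X 0).Opens} (e : U ≤ O) (s : sec h𝔛.1 M U) :
    Supp h𝔛 O M s := fun _ hy hyO => absurd (e hy) hyO

theorem supp_map {M N : FSch.ModF 𝔛 h𝔛.1} (φ : M ⟶ N) {U : (𝔛.X 0).Opens} {s : sec h𝔛.1 M U}
    (hs : Supp h𝔛 O M s) : Supp h𝔛 O N (secMap h𝔛.1 φ U s) := fun y hy hyO => by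
  obtain ⟨W, eW, hyW, hW⟩ := hs y hy hyO
  exact ⟨W, eW, hyW, by rw [← secMap_res, hW, map_zero]⟩

/-- The submodule of sections supported in `O`. -/
noncomputable def suppSub (M : FSch.ModF 𝔛 h𝔛.1) (U : (𝔛.X 0).Opens) :
    Submodule (Levels.A 𝔛 h𝔛.1 U) (sec h𝔛.1 M U) where
  carrier := {s | Supp h𝔛 O M s}
  zero_mem' := fun y hy _ => ⟨U, le_rfl, hy, map_zero _⟩
  add_mem' := fun {s t} hs ht y hy hyO => by
    obtain ⟨W, eW, hyW, hW⟩ := hs y hy hyO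
    obtain ⟨W', eW', hyW', hW'⟩ := ht y hy hyO
    refine ⟨W ⊓ W', inf_le_left.trans eW, ⟨hyW, hyW'⟩, ?_⟩
    rw [map_add, ← resF_resF M eW (inf_le_left : W ⊓ W' ≤ W), hW, map_zero, zero_add,
      ← resF_resF M eW' (inf_le_right : W ⊓ W' ≤ W'), hW', map_zero]
  smul_mem' := fun c s hs y hy hyO => by
    obtain ⟨W, eW, hyW, hW⟩ := hs y hy hyO
    exact ⟨W, eW, hyW, by rw [CohPres.resF_smul, hW, smul_zero]⟩

/-- The underlying presheaf. -/
noncomputable def pre (M : FSch.ModF 𝔛 h𝔛.1) : (Opens (𝔛.X 0))ᵒᵖ ⥤ Ab.{u} where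
  obj U := AddCommGrpCat.of (suppSub h𝔛 O M U.unop)
  map {U V} g := AddCommGrpCat.ofHom
    { toFun := fun s => ⟨CohPres.resF h𝔛.1 M (leOfHom g.unop) s.1, supp_res h𝔛 O _ s.2⟩
      map_zero' := Subtype.ext (map_zero _)
      map_add' := fun s t => Subtype.ext (map_add _ _ _) }
  map_id U := by
    ext s
    exact FTors.res_id M s.1
  map_comp f g := by
    ext s
    exact FTors.res_comp M f.unop g.unop s.1

noncomputable instance instModule (M : FSch.ModF 𝔛 h𝔛.1) (U : (Opens (𝔛.X 0))ᵒᵖ) :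
    Module ((ModSite.ringSh (𝔛.Osh h𝔛.1)).obj.obj U) ((pre h𝔛 O M).obj U) :=
  inferInstanceAs (Module (Levels.A 𝔛 h𝔛.1 U.unop) (suppSub h𝔛 O M U.unop))

theorem pre_map_smul (M : FSch.ModF 𝔛 h𝔛.1) ⦃U V : (Opens (𝔛.X 0))ᵒᵖ⦄ (g : U ⟶ V)
    (r : (ModSite.ringSh (𝔛.Osh h𝔛.1)).obj.obj U) (m : (pre h𝔛 O M).obj U) :
    (pre h𝔛 O M).map g (r • m) = (ModSite.ringSh (𝔛.Osh h𝔛.1)).obj.map g r • (pre h𝔛 O M).map g m :=
  Subtype.ext (FTors.res_smul M g.unop r m.1)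

/-- The subfunctor of sections supported in `O`. -/
def suppSubfunctor (M : FSch.ModF 𝔛 h𝔛.1) : Subfunctor (M.val.presheaf ⋙ forget Ab.{u}) where
  obj U := {s | Supp h𝔛 O M (U := U.unop) s}
  map g _ hs := supp_res h𝔛 O (leOfHom g.unop) hs

/-- Comparison of the underlying presheaves. -/
noncomputable def preIso (M : FSch.ModF 𝔛 h𝔛.1) :
    pre h𝔛 O M ⋙ forget Ab.{u} ≅ (suppSubfunctor h𝔛 O M).toFunctor :=
  NatIso.ofComponents (fun U => Equiv.toIso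
    { toFun := fun s => ⟨s.1, s.2⟩
      invFun := fun s => ⟨s.1, s.2⟩
      left_inv := fun _ => rfl
      right_inv := fun _ => rfl }) (fun _ => rfl)

theorem isSheaf_pre (M : FSch.ModF 𝔛 h𝔛.1) :
    Presheaf.IsSheaf (Opens.grothendieckTopology (𝔛.X 0)) (pre h𝔛 O M) := by
  have hM : Presieve.IsSheaf (Opens.grothendieckTopology (𝔛.X 0)) (M.val.presheaf ⋙ forget Ab.{u}) :=
    (isSheaf_iff_isSheaf_of_type _ _).1
      ((Presheaf.isSheaf_iff_isSheaf_forget _ M.val.presheaf (forget Ab.{u})).1 M.isSheaf)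
  rw [Presheaf.isSheaf_iff_isSheaf_forget _ _ (forget Ab.{u}), isSheaf_iff_isSheaf_of_type]
  refine Presieve.isSheaf_iso _ (preIso h𝔛 O M).symm (((suppSubfunctor h𝔛 O M).isSheaf_iff hM).2 ?_)
  intro U s hs y hy hyO
  obtain ⟨V, g, hg, hyV⟩ := hs y hy
  have hg' : Supp h𝔛 O M (CohPres.resF h𝔛.1 M (leOfHom g) s) := hg
  obtain ⟨W, eW, hyW, hW⟩ := hg' y hyV hyO
  exact ⟨W, eW.trans (leOfHom g), hyW, (resF_resF M (leOfHom g) eW s).symm.trans hW⟩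

/-- The extension by zero of the restriction to `O`, as a subsheaf. -/
noncomputable def obj (M : FSch.ModF 𝔛 h𝔛.1) : FSch.ModF 𝔛 h𝔛.1 where
  val := PresheafOfModules.ofPresheaf (pre h𝔛 O M) (pre_map_smul h𝔛 O M)
  isSheaf := isSheaf_pre h𝔛 O M

/-- The functor. -/
noncomputable def J : FSch.ModF 𝔛 h𝔛.1 ⥤ FSch.ModF 𝔛 h𝔛.1 where
  obj M := obj h𝔛 O M
  map {M N} φ := ⟨PresheafOfModules.homMk
    { app := fun U => AddCommGrpCat.ofHom
        { toFun := fun s => ⟨secMap h𝔛.1 φ U.unop s.1, supp_map h𝔛 O φ s.2⟩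
          map_zero' := Subtype.ext (map_zero _)
          map_add' := fun s t => Subtype.ext (map_add _ _ _) }
      naturality := fun U V g => by
        ext s
        apply Subtype.ext
        exact (FTors.res_hom M φ g.unop s.1).symm }
    (fun U r s => Subtype.ext (map_smul (secMap h𝔛.1 φ U.unop) r s.1))⟩
  map_id M := by
    apply SheafOfModules.hom_ext
    ext U s
    rfl
  map_comp φ ψ := by
    apply SheafOfModules.hom_ext
    ext U s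
    rfl

instance : (J h𝔛 O).Additive where
  map_add {M N φ ψ} := by
    apply SheafOfModules.hom_ext
    ext U s
    rfl

/-- The inclusion. -/
noncomputable def ι : J h𝔛 O ⟶ 𝟭 (FSch.ModF 𝔛 h𝔛.1) where
  app M := ⟨PresheafOfModules.homMk
    { app := fun U => AddCommGrpCat.ofHom
        { toFun := fun s => s.1
          map_zero' := rfl
          map_add' := fun _ _ => rfl }
      naturality := fun U V g => by ext s; rfl }
    (fun U r s => rfl)⟩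
  naturality M N φ := by
    apply SheafOfModules.hom_ext
    ext U s
    rfl

instance mono_ι (M : FSch.ModF 𝔛 h𝔛.1) : Mono ((ι h𝔛 O).app M) :=
  CohCons.mono_of_injective _ fun _ _ _ hxy => Subtype.ext hxy

variable {O}

/-- A supported section from a section on an open inside `O`. -/
noncomputable def mkS (M : FSch.ModF 𝔛 h𝔛.1) {U : (𝔛.X 0).Opens} (e : U ≤ O) (s : sec h𝔛.1 M U) :
    sec h𝔛.1 ((J h𝔛 O).obj M) U :=
  ⟨s, supp_of_le h𝔛 O e s⟩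

/-- Maps out of `J O M` are determined by sections on opens inside `O`. -/
theorem hom_ext {M N : FSch.ModF 𝔛 h𝔛.1} {a b : (J h𝔛 O).obj M ⟶ N}
    (h : ∀ (U : (𝔛.X 0).Opens) (e : U ≤ O) (s : sec h𝔛.1 M U),
      secMap h𝔛.1 a U (mkS h𝔛 M e s) = secMap h𝔛.1 b U (mkS h𝔛 M e s)) : a = b := by
  refine LevelAdj.hom_extF fun V x => sub_eq_zero.1 (TorsCoh.eq_zero_of_locally N _ fun z hz => ?_)
  by_cases hzO : z ∈ O
  · refine ⟨V.1 ⊓ O, inf_le_left, ⟨hz, hzO⟩, ?_⟩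
    rw [map_sub, ← secMap_res, ← secMap_res, sub_eq_zero]
    exact h _ inf_le_right (CohPres.resF h𝔛.1 M inf_le_left x.1)
  · obtain ⟨W, eW, hzW, hW⟩ := x.2 z hz hzO
    refine ⟨W, eW, hzW, ?_⟩
    rw [map_sub, ← secMap_res, ← secMap_res,
      show CohPres.resF h𝔛.1 ((J h𝔛 O).obj M) eW x = 0 from Subtype.ext hW, map_zero, map_zero, sub_zero]

variable {M N : FSch.ModF 𝔛 h𝔛.1}
  (a : ∀ U : (𝔛.X 0).Opens, U ≤ O → sec h𝔛.1 M U →ₗ[Levels.A 𝔛 h𝔛.1 U] sec h𝔛.1 N U)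
  (ha : ∀ (U U' : (𝔛.X 0).Opens) (eU : U ≤ O) (e : U' ≤ U) (s : sec h𝔛.1 M U),
    CohPres.resF h𝔛.1 N e (a U eU s) = a U' (e.trans eU) (CohPres.resF h𝔛.1 M e s))

include ha in
theorem existsUnique_sec {U : (𝔛.X 0).Opens} (s : sec h𝔛.1 M U) (hs : Supp h𝔛 O M s) :
    ∃! t : sec h𝔛.1 N U, ∀ (U' : (𝔛.X 0).Opens) (e : U' ≤ U),
      (∀ eO : U' ≤ O, CohPres.resF h𝔛.1 N e t = a U' eO (CohPres.resF h𝔛.1 M e s)) ∧
      (CohPres.resF h𝔛.1 M e s = 0 → CohPres.resF h𝔛.1 N e t = 0) := by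
  let Idx := {W : (𝔛.X 0).Opens // W ≤ U ∧ (W ≤ O ∨ ∀ (h : W ≤ U), CohPres.resF h𝔛.1 M h s = 0)}
  have hcov : ∀ z ∈ U, ∃ α : Idx, z ∈ α.1 := fun z hz => by
    by_cases hzO : z ∈ O
    · exact ⟨⟨U ⊓ O, inf_le_left, Or.inl inf_le_right⟩, hz, hzO⟩
    · obtain ⟨W, eW, hzW, hW⟩ := hs z hz hzO
      exact ⟨⟨W, eW, Or.inr fun _ => hW⟩, hzW⟩
  classical
  let y : ∀ α : Idx, sec h𝔛.1 N α.1 := fun α =>
    if e : α.1 ≤ O then a α.1 e (CohPres.resF h𝔛.1 M α.2.1 s) else 0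
  have hy : ∀ (α : Idx) (W : (𝔛.X 0).Opens) (e : W ≤ α.1),
      (∀ eO : W ≤ O, CohPres.resF h𝔛.1 N e (y α) = a W eO (CohPres.resF h𝔛.1 M (e.trans α.2.1) s)) ∧
      (CohPres.resF h𝔛.1 M (e.trans α.2.1) s = 0 → CohPres.resF h𝔛.1 N e (y α) = 0) := by
    intro α W e
    by_cases hα : α.1 ≤ O
    · simp only [y, dif_pos hα]
      rw [ha, resF_resF]
      exact ⟨fun _ => rfl, fun h0 => by rw [h0, map_zero]⟩
    · have h0 : CohPres.resF h𝔛.1 M (e.trans α.2.1) s = 0 := by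
        rw [← resF_resF M α.2.1 e, (α.2.2.resolve_left hα) α.2.1, map_zero]
      simp only [y, dif_neg hα, map_zero]
      exact ⟨fun eO => by rw [h0, map_zero], fun _ => trivial⟩
  obtain ⟨t, ht⟩ := exists_glued h𝔛 N (fun α : Idx => α.1) (fun α => α.2.1) hcov y fun α β => by
    refine sub_eq_zero.1 (TorsCoh.eq_zero_of_locally N _ fun z hz => ?_)
    refine ⟨α.1 ⊓ β.1, le_rfl, hz, ?_⟩
    rw [map_sub, resF_resF, resF_resF, sub_eq_zero]
    by_cases hW : α.1 ⊓ β.1 ≤ O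
    · rw [(hy α _ inf_le_left).1 hW, (hy β _ inf_le_right).1 hW]
    · have h0 : CohPres.resF h𝔛.1 M ((inf_le_left : α.1 ⊓ β.1 ≤ α.1).trans α.2.1) s = 0 := by
        rcases α.2.2 with h | h
        · exact absurd (inf_le_left.trans h) hW
        · rw [← resF_resF M α.2.1 inf_le_left, h α.2.1, map_zero]
      rw [(hy α _ inf_le_left).2 h0, (hy β _ inf_le_right).2 h0]
  have key : ∀ (U' : (𝔛.X 0).Opens) (e : U' ≤ U) (z : 𝔛.X 0) (hz : z ∈ U'),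
      ∃ (α : Idx) (W : (𝔛.X 0).Opens) (eα : W ≤ α.1) (e' : W ≤ U'), z ∈ W ∧
        CohPres.resF h𝔛.1 N e' (CohPres.resF h𝔛.1 N e t) = CohPres.resF h𝔛.1 N eα (y α) := by
    intro U' e z hz
    obtain ⟨α, hα⟩ := hcov z (e hz)
    refine ⟨α, U' ⊓ α.1, inf_le_right, inf_le_left, ⟨hz, hα⟩, ?_⟩
    rw [resF_resF, ← ht α, resF_resF]
  refine ⟨t, fun U' e => ⟨fun eO => ?_, fun h0 => ?_⟩, fun t' ht' => ?_⟩
  · refine sub_eq_zero.1 (TorsCoh.eq_zero_of_locally N _ fun z hz => ?_)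
    obtain ⟨α, W, eα, e', hzW, hW⟩ := key U' e z hz
    refine ⟨W, e', hzW, ?_⟩
    rw [map_sub, hW, ha, resF_resF, (hy α W eα).1 (e'.trans eO), sub_self]
  · refine TorsCoh.eq_zero_of_locally N _ fun z hz => ?_
    obtain ⟨α, W, eα, e', hzW, hW⟩ := key U' e z hz
    refine ⟨W, e', hzW, ?_⟩
    rw [hW, (hy α W eα).2 (by rw [← resF_resF M e e', h0, map_zero])]
  · refine sub_eq_zero.1 (TorsCoh.eq_zero_of_locally N _ fun z hz => ?_)
    obtain ⟨α, hα⟩ := hcov z hz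
    refine ⟨α.1, α.2.1, hα, ?_⟩
    rw [map_sub, ht α, sub_eq_zero]
    by_cases hO : α.1 ≤ O
    · rw [(ht' α.1 α.2.1).1 hO]
      simp only [y, dif_pos hO]
    · rw [(ht' α.1 α.2.1).2 ((α.2.2.resolve_left hO) α.2.1)]
      simp only [y, dif_neg hO]

/-- The value of `mkHom`. -/
noncomputable def val {U : (𝔛.X 0).Opens} (x : sec h𝔛.1 ((J h𝔛 O).obj M) U) : sec h𝔛.1 N U :=
  (existsUnique_sec h𝔛 a ha x.1 x.2).exists.choose

theorem val_spec {U : (𝔛.X 0).Opens} (x : sec h𝔛.1 ((J h𝔛 O).obj M) U) (U' : (𝔛.X 0).Opens) (e : U' ≤ U) :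
    (∀ eO : U' ≤ O, CohPres.resF h𝔛.1 N e (val h𝔛 a ha x) = a U' eO (CohPres.resF h𝔛.1 M e x.1)) ∧
      (CohPres.resF h𝔛.1 M e x.1 = 0 → CohPres.resF h𝔛.1 N e (val h𝔛 a ha x) = 0) :=
  (existsUnique_sec h𝔛 a ha x.1 x.2).exists.choose_spec U' e

theorem val_eq {U : (𝔛.X 0).Opens} (x : sec h𝔛.1 ((J h𝔛 O).obj M) U) (t : sec h𝔛.1 N U)
    (ht : ∀ (U' : (𝔛.X 0).Opens) (e : U' ≤ U),
      (∀ eO : U' ≤ O, CohPres.resF h𝔛.1 N e t = a U' eO (CohPres.resF h𝔛.1 M e x.1)) ∧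
      (CohPres.resF h𝔛.1 M e x.1 = 0 → CohPres.resF h𝔛.1 N e t = 0)) : val h𝔛 a ha x = t :=
  (existsUnique_sec h𝔛 a ha x.1 x.2).unique (val_spec h𝔛 a ha x) ht

theorem val_add {U : (𝔛.X 0).Opens} (x x' : sec h𝔛.1 ((J h𝔛 O).obj M) U) :
    val h𝔛 a ha (x + x') = val h𝔛 a ha x + val h𝔛 a ha x' := by
  refine sub_eq_zero.1 (TorsCoh.eq_zero_of_locally N _ fun z hz => ?_)
  by_cases hzO : z ∈ O
  · refine ⟨U ⊓ O, inf_le_left, ⟨hz, hzO⟩, ?_⟩
    rw [map_sub, map_add, (val_spec h𝔛 a ha _ _ inf_le_left).1 inf_le_right,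
      (val_spec h𝔛 a ha x _ inf_le_left).1 inf_le_right,
      (val_spec h𝔛 a ha x' _ inf_le_left).1 inf_le_right, sub_eq_zero]
    exact (congrArg (a _ _) (map_add (CohPres.resF h𝔛.1 M inf_le_left) x.1 x'.1)).trans (map_add _ _ _)
  · obtain ⟨W, eW, hzW, hW⟩ := x.2 z hz hzO
    obtain ⟨W', eW', hzW', hW'⟩ := x'.2 z hz hzO
    refine ⟨W ⊓ W', inf_le_left.trans eW, ⟨hzW, hzW'⟩, ?_⟩
    have h1 : CohPres.resF h𝔛.1 M (inf_le_left.trans eW : W ⊓ W' ≤ U) x.1 = 0 := by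
      rw [← resF_resF M eW inf_le_left, hW, map_zero]
    have h2 : CohPres.resF h𝔛.1 M (inf_le_left.trans eW : W ⊓ W' ≤ U) x'.1 = 0 := by
      rw [← resF_resF M eW' inf_le_right, hW', map_zero]
    rw [map_sub, map_add, (val_spec h𝔛 a ha x _ _).2 h1, (val_spec h𝔛 a ha x' _ _).2 h2,
      (val_spec h𝔛 a ha (x + x') _ _).2 ((map_add _ x.1 x'.1).trans (by rw [h1, h2, add_zero])),
      add_zero, sub_zero]

/-- A map out of `J O M` from compatible maps on the opens inside `O`. -/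
noncomputable def mkHom : (J h𝔛 O).obj M ⟶ N :=
  ⟨PresheafOfModules.homMk
    { app := fun U => AddCommGrpCat.ofHom (AddMonoidHom.mk' (fun x => val h𝔛 a ha (U := U.unop) x)
        (val_add h𝔛 a ha))
      naturality := fun U V g => by
        ext x
        refine val_eq h𝔛 a ha (U := V.unop) _ _ fun U' e => ?_
        show (∀ eO, CohPres.resF h𝔛.1 N e (CohPres.resF h𝔛.1 N (leOfHom g.unop) (val h𝔛 a ha x)) =
          a U' eO (CohPres.resF h𝔛.1 M e (CohPres.resF h𝔛.1 M (leOfHom g.unop) x.1))) ∧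
          (CohPres.resF h𝔛.1 M e (CohPres.resF h𝔛.1 M (leOfHom g.unop) x.1) = 0 →
            CohPres.resF h𝔛.1 N e (CohPres.resF h𝔛.1 N (leOfHom g.unop) (val h𝔛 a ha x)) = 0)
        rw [resF_resF, resF_resF]
        exact val_spec h𝔛 a ha x U' (e.trans (leOfHom g.unop)) }
    (fun U r x => by
      refine val_eq h𝔛 a ha (U := U.unop) _ _ fun U' e => ?_
      show (∀ eO, CohPres.resF h𝔛.1 N e ((show Levels.A 𝔛 h𝔛.1 U.unop from r) • val h𝔛 a ha x) =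
        a U' eO (CohPres.resF h𝔛.1 M e ((show Levels.A 𝔛 h𝔛.1 U.unop from r) • x.1))) ∧
        (CohPres.resF h𝔛.1 M e ((show Levels.A 𝔛 h𝔛.1 U.unop from r) • x.1) = 0 →
          CohPres.resF h𝔛.1 N e ((show Levels.A 𝔛 h𝔛.1 U.unop from r) • val h𝔛 a ha x) = 0)
      refine ⟨fun eO => ?_, fun h0 => ?_⟩
      · rw [CohPres.resF_smul, CohPres.resF_smul, (val_spec h𝔛 a ha x U' e).1 eO, map_smul]
      · refine TorsCoh.eq_zero_of_locally N _ fun z hz => ?_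
        by_cases hzO : z ∈ O
        · refine ⟨U' ⊓ O, inf_le_left, ⟨hz, hzO⟩, ?_⟩
          rw [resF_resF, CohPres.resF_smul, (val_spec h𝔛 a ha x _ _).1 inf_le_right, ← map_smul,
            ← CohPres.resF_smul, ← resF_resF M e inf_le_left, h0, map_zero, map_zero]
        · obtain ⟨W, eW, hzW, hW⟩ := x.2 z (e hz) hzO
          refine ⟨U' ⊓ W, inf_le_left, ⟨hz, hzW⟩, ?_⟩
          rw [resF_resF, CohPres.resF_smul,
            (val_spec h𝔛 a ha x _ _).2 (by rw [← resF_resF M eW inf_le_right, hW, map_zero]), smul_zero])⟩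

theorem mkHom_mkS {U : (𝔛.X 0).Opens} (e : U ≤ O) (s : sec h𝔛.1 M U) :
    secMap h𝔛.1 (mkHom h𝔛 a ha) U (mkS h𝔛 M e s) = a U e s := by
  show val h𝔛 a ha (mkS h𝔛 M e s) = _
  refine val_eq h𝔛 a ha _ _ fun U' e' => ⟨fun eO => ha U U' e e' s, fun h0 => ?_⟩
  rw [ha U U' e e' s]
  exact (congrArg (a U' _) h0).trans (map_zero _)

end Groth.Agent.H22.Gam.ZeroExt
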