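import Groth.Agent.H22.Gam.ZeroExt

/-!
# Gluing, stalks and exactness of extension by zero (helper22)
-/

set_option autoImplicit false
set_option maxHeartbeats 1000000
set_option linter.style.haveILetI false

universe u

open CategoryTheory CategoryTheory.Limits AlgebraicGeometry TopologicalSpace Opposite
open Groth.Agent.H30 Groth.Agent.H30.RealLimSec Groth.Agent.H22.IndColim Groth.Agent.H54.FSchQc

namespace Groth.Agent.H22.Gam.ZeroExt

variable {𝔛 : FSch.Sys.{u}} (h𝔛 : 𝔛.IsLocNoethFormal) {O : (𝔛.X 0).Opens}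

/-- Monotonicity. -/
noncomputable def leN {O' : (𝔛.X 0).Opens} (e : O' ≤ O) : J h𝔛 O' ⟶ J h𝔛 O where
  app M := mkHom h𝔛 (fun U eU =>
    { toFun := fun s => mkS h𝔛 (O := O) M (eU.trans e) s
      map_add' := fun _ _ => rfl
      map_smul' := fun _ _ => rfl }) (fun _ _ _ _ _ => rfl)
  naturality M N φ := by
    refine hom_ext h𝔛 fun U eU s => ?_
    rw [Groth.Agent.H22.IndColim.secMap_comp, Groth.Agent.H22.IndColim.secMap_comp]
    refine Eq.trans ?_ (congrArg (secMap h𝔛.1 ((J h𝔛 O).map φ) U) (mkHom_mkS h𝔛 _ _ eU s)).symm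
    exact mkHom_mkS h𝔛 _ _ eU (secMap h𝔛.1 φ U s)

theorem leN_mkS {O' : (𝔛.X 0).Opens} (e : O' ≤ O) (M : FSch.ModF 𝔛 h𝔛.1) {U : (𝔛.X 0).Opens}
    (eU : U ≤ O') (s : sec h𝔛.1 M U) :
    secMap h𝔛.1 ((leN h𝔛 e).app M) U (mkS h𝔛 M eU s) = mkS h𝔛 M (eU.trans e) s :=
  mkHom_mkS h𝔛 _ _ eU s

theorem leN_ι {O' : (𝔛.X 0).Opens} (e : O' ≤ O) (M : FSch.ModF 𝔛 h𝔛.1) :
    (leN h𝔛 e).app M ≫ (ι h𝔛 O).app M = (ι h𝔛 O').app M :=
  hom_ext h𝔛 fun U eU s => by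
    rw [Groth.Agent.H22.IndColim.secMap_comp, leN_mkS]
    rfl

instance mono_leN {O' : (𝔛.X 0).Opens} (e : O' ≤ O) (M : FSch.ModF 𝔛 h𝔛.1) :
    Mono ((leN h𝔛 e).app M) := by
  haveI : Mono ((leN h𝔛 e).app M ≫ (ι h𝔛 O).app M) := by
    rw [leN_ι]; infer_instance
  exact mono_of_mono _ ((ι h𝔛 O).app M)

/-- Multiplication by a function defined on `V ⊇ O`. -/
noncomputable def mulN {V : (𝔛.X 0).Opens} (e : O ≤ V) (f : Levels.A 𝔛 h𝔛.1 V) :
    J h𝔛 O ⟶ J h𝔛 O where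
  app M := mkHom h𝔛 (fun U eU =>
    { toFun := fun s => mkS h𝔛 (O := O) M eU (CohPres.resA h𝔛.1 (eU.trans e) f • s)
      map_add' := fun s t => Subtype.ext (smul_add (CohPres.resA h𝔛.1 (eU.trans e) f) s t)
      map_smul' := fun r s => Subtype.ext (smul_comm (CohPres.resA h𝔛.1 (eU.trans e) f) r s) })
    (fun U U' eU e' s => Subtype.ext (by
      show CohPres.resF h𝔛.1 M e' (CohPres.resA h𝔛.1 (eU.trans e) f • s) =
        CohPres.resA h𝔛.1 ((e'.trans eU).trans e) f • CohPres.resF h𝔛.1 M e' s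
      rw [CohPres.resF_smul, resA_resA]))
  naturality M N φ := by
    refine hom_ext h𝔛 fun U eU s => ?_
    rw [Groth.Agent.H22.IndColim.secMap_comp, Groth.Agent.H22.IndColim.secMap_comp]
    refine Eq.trans ?_ (congrArg (secMap h𝔛.1 ((J h𝔛 O).map φ) U) (mkHom_mkS h𝔛 _ _ eU s)).symm
    refine (mkHom_mkS h𝔛 _ _ eU (secMap h𝔛.1 φ U s)).trans ?_
    exact Subtype.ext (map_smul (secMap h𝔛.1 φ U) (CohPres.resA h𝔛.1 (eU.trans e) f) s).symm

theorem mulN_mkS {V : (𝔛.X 0).Opens} (e : O ≤ V) (f : Levels.A 𝔛 h𝔛.1 V) (M : FSch.ModF 𝔛 h𝔛.1)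
    {U : (𝔛.X 0).Opens} (eU : U ≤ O) (s : sec h𝔛.1 M U) :
    secMap h𝔛.1 ((mulN h𝔛 e f).app M) U (mkS h𝔛 M eU s) =
      mkS h𝔛 M eU (CohPres.resA h𝔛.1 (eU.trans e) f • s) :=
  mkHom_mkS h𝔛 _ _ eU s

section Glue

variable {κ : Type u} (Oi : κ → (𝔛.X 0).Opens) (hle : ∀ i, Oi i ≤ O) (hcov : ∀ x ∈ O, ∃ i, x ∈ Oi i)
  {M N : FSch.ModF 𝔛 h𝔛.1} (a : ∀ i, (J h𝔛 (Oi i)).obj M ⟶ N)
  (ha : ∀ i j (U : (𝔛.X 0).Opens) (ei : U ≤ Oi i) (ej : U ≤ Oi j) (s : sec h𝔛.1 M U),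
    secMap h𝔛.1 (a i) U (mkS h𝔛 M ei s) = secMap h𝔛.1 (a j) U (mkS h𝔛 M ej s))

include hcov ha in
theorem existsUnique_glue {U : (𝔛.X 0).Opens} (eU : U ≤ O) (s : sec h𝔛.1 M U) :
    ∃! t : sec h𝔛.1 N U, ∀ (i : κ) (W : (𝔛.X 0).Opens) (e : W ≤ U) (ei : W ≤ Oi i),
      CohPres.resF h𝔛.1 N e t = secMap h𝔛.1 (a i) W (mkS h𝔛 M ei (CohPres.resF h𝔛.1 M e s)) := by
  have hc : ∀ z ∈ U, ∃ i, z ∈ U ⊓ Oi i := fun z hz => (hcov z (eU hz)).imp fun i hi => ⟨hz, hi⟩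
  have hres : ∀ (i : κ) (W W' : (𝔛.X 0).Opens) (e : W' ≤ W) (ei : W ≤ Oi i) (s' : sec h𝔛.1 M W),
      CohPres.resF h𝔛.1 N e (secMap h𝔛.1 (a i) W (mkS h𝔛 M ei s')) =
        secMap h𝔛.1 (a i) W' (mkS h𝔛 M (e.trans ei) (CohPres.resF h𝔛.1 M e s')) := fun i W W' e ei s' =>
    (Groth.Agent.H22.IndColim.secMap_res (a i) e _).symm
  obtain ⟨t, ht⟩ := exists_glued h𝔛 N (fun i => U ⊓ Oi i) (fun _ => inf_le_left) hc
    (fun i => secMap h𝔛.1 (a i) _ (mkS h𝔛 M inf_le_right (CohPres.resF h𝔛.1 M inf_le_left s)))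
    fun i j => by
      rw [hres, hres, resF_resF, resF_resF]
      exact ha i j _ _ _ _
  refine ⟨t, fun i W e ei => ?_, fun t' ht' => ?_⟩
  · have h1 := congrArg (CohPres.resF h𝔛.1 N (le_inf e ei : W ≤ U ⊓ Oi i)) (ht i)
    rw [resF_resF, hres, resF_resF] at h1
    exact h1
  · refine sub_eq_zero.1 (TorsCoh.eq_zero_of_locally N _ fun z hz => ?_)
    obtain ⟨i, hi⟩ := hc z hz
    exact ⟨_, inf_le_left, hi, by rw [map_sub, ht i, ht' i _ inf_le_left inf_le_right, sub_self]⟩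

/-- Gluing maps out of extensions by zero. -/
noncomputable def glueHom : (J h𝔛 O).obj M ⟶ N :=
  mkHom h𝔛 (fun U eU =>
    { toFun := fun s => (existsUnique_glue h𝔛 Oi hcov a ha eU s).exists.choose
      map_add' := fun s t => by
        refine (existsUnique_glue h𝔛 Oi hcov a ha eU (s + t)).unique
          (existsUnique_glue h𝔛 Oi hcov a ha eU (s + t)).exists.choose_spec fun i W e ei => ?_
        rw [map_add, (existsUnique_glue h𝔛 Oi hcov a ha eU s).exists.choose_spec i W e ei,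
          (existsUnique_glue h𝔛 Oi hcov a ha eU t).exists.choose_spec i W e ei, ← map_add]
        exact congrArg _ (Subtype.ext (map_add (CohPres.resF h𝔛.1 M e) s t).symm)
      map_smul' := fun r s => by
        refine (existsUnique_glue h𝔛 Oi hcov a ha eU (r • s)).unique
          (existsUnique_glue h𝔛 Oi hcov a ha eU (r • s)).exists.choose_spec fun i W e ei => ?_
        rw [RingHom.id_apply, CohPres.resF_smul,
          (existsUnique_glue h𝔛 Oi hcov a ha eU s).exists.choose_spec i W e ei, ← map_smul,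
          CohPres.resF_smul]
        rfl })
    (fun U U' eU e s => by
      refine Eq.symm ((existsUnique_glue h𝔛 Oi hcov a ha (e.trans eU) (CohPres.resF h𝔛.1 M e s)).unique
        (existsUnique_glue h𝔛 Oi hcov a ha (e.trans eU) (CohPres.resF h𝔛.1 M e s)).exists.choose_spec
        fun i W e' ei => ?_)
      show CohPres.resF h𝔛.1 N e' (CohPres.resF h𝔛.1 N e
        ((existsUnique_glue h𝔛 Oi hcov a ha eU s).exists.choose)) = _
      rw [resF_resF, resF_resF]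
      exact (existsUnique_glue h𝔛 Oi hcov a ha eU s).exists.choose_spec i W (e'.trans e) ei)

theorem leN_glueHom (i : κ) : (leN h𝔛 (hle i)).app M ≫ glueHom h𝔛 Oi hcov a ha = a i := by
  refine hom_ext h𝔛 fun U eU s => ?_
  rw [Groth.Agent.H22.IndColim.secMap_comp, leN_mkS]
  refine (mkHom_mkS h𝔛 _ _ (eU.trans (hle i)) s).trans ?_
  have h1 := (existsUnique_glue h𝔛 Oi hcov a ha (eU.trans (hle i)) s).exists.choose_spec i U le_rfl eU
  have hid : ∀ (G : FSch.ModF 𝔛 h𝔛.1) (x : sec h𝔛.1 G U), CohPres.resF h𝔛.1 G le_rfl x = x :=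
    fun G x => FTors.res_id G x
  rw [hid, hid] at h1
  exact h1

include hcov in
theorem hom_ext_cover {b b' : (J h𝔛 O).obj M ⟶ N}
    (h : ∀ i, (leN h𝔛 (hle i)).app M ≫ b = (leN h𝔛 (hle i)).app M ≫ b') : b = b' := by
  refine hom_ext h𝔛 fun U eU s => sub_eq_zero.1 (TorsCoh.eq_zero_of_locally N _ fun z hz => ?_)
  obtain ⟨i, hi⟩ := hcov z (eU hz)
  refine ⟨U ⊓ Oi i, inf_le_left, ⟨hz, hi⟩, ?_⟩
  rw [map_sub, ← Groth.Agent.H22.IndColim.secMap_res, ← Groth.Agent.H22.IndColim.secMap_res, sub_eq_zero]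
  have h1 := congrArg (fun φ => secMap h𝔛.1 φ (U ⊓ Oi i)
    (mkS h𝔛 M inf_le_right (CohPres.resF h𝔛.1 M inf_le_left s))) (h i)
  simp only [Groth.Agent.H22.IndColim.secMap_comp, leN_mkS] at h1
  exact h1

end Glue

section Stalk

variable {V : (𝔛.X 0).Opens} {y : 𝔛.X 0} (hy : y ∈ V) (M : FSch.ModF 𝔛 h𝔛.1)

theorem bijective_St_ι (hyO : y ∈ O) :
    Function.Bijective ((Good.S h𝔛 hy).map ((ι h𝔛 O).app M)) := by
  refine ⟨?_, fun m => ?_⟩
  · haveI : Mono ((Good.S h𝔛 hy).map ((ι h𝔛 O).app M)) := inferInstance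
    exact (ModuleCat.mono_iff_injective _).1 this
  · obtain ⟨W, -, hW, s, rfl⟩ := Stalk.exists_gS hy m
    refine ⟨Stalk.gS hy _ (⟨hW, hyO⟩ : y ∈ W ⊓ O)
      (mkS h𝔛 M inf_le_right (CohPres.resF h𝔛.1 M inf_le_left s)), ?_⟩
    exact (Stalk.map_gS hy _ _ _).trans (Stalk.gS_rs hy inf_le_left _ hW s)

theorem subsingleton_St (hyO : y ∉ O) :
    Subsingleton ((Good.S h𝔛 hy).obj ((J h𝔛 O).obj M) : Type u) :=
  subsingleton_of_forall_eq 0 fun m => by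
    obtain ⟨W, -, hW, s, rfl⟩ := Stalk.exists_gS hy m
    obtain ⟨W', e, hW', h0⟩ := s.2 y hW hyO
    refine (Stalk.gS_rs hy e hW' hW s).symm.trans ?_
    exact (congrArg (Stalk.gS hy _ hW') (Subtype.ext h0 : CohPres.resF h𝔛.1 _ e s = 0)).trans (map_zero _)

end Stalk

variable (O)

/-- Exactness is detected on stalks. -/
theorem exact_of_stalk (S : ShortComplex (FSch.ModF 𝔛 h𝔛.1))
    (h : ∀ y : 𝔛.X 0, ∃ (V : (𝔛.X 0).Opens) (hy : y ∈ V), (S.map (Good.S h𝔛 hy)).Exact) : S.Exact := by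
  rw [ShortComplex.exact_iff_isZero_homology]
  refine Stalk.isZero _ fun y => ?_
  obtain ⟨V, hy, hS⟩ := h y
  exact ⟨V, hy, ((ShortComplex.exact_iff_isZero_homology _).1 hS).of_iso
    (S.mapHomologyIso (Good.S h𝔛 hy)).symm⟩

/-- The natural map on short complexes. -/
noncomputable def ιSC (S : ShortComplex (FSch.ModF 𝔛 h𝔛.1)) : S.map (J h𝔛 O) ⟶ S :=
  ShortComplex.homMk ((ι h𝔛 O).app _) ((ι h𝔛 O).app _) ((ι h𝔛 O).app _)
    ((ι h𝔛 O).naturality _).symm ((ι h𝔛 O).naturality _).symm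

theorem exact_J {S : ShortComplex (FSch.ModF 𝔛 h𝔛.1)} (hS : S.Exact) : (S.map (J h𝔛 O)).Exact := by
  refine exact_of_stalk h𝔛 _ fun y => ⟨⊤, trivial, ?_⟩
  by_cases hyO : y ∈ O
  · let F := Good.S h𝔛 (V := (⊤ : (𝔛.X 0).Opens)) (x := y) trivial
    haveI : ∀ M, IsIso (F.map ((ι h𝔛 O).app M)) := fun M =>
      (ConcreteCategory.isIso_iff_bijective _).2 (bijective_St_ι h𝔛 _ M hyO)
    let ψ := F.mapShortComplex.map (ιSC h𝔛 O S)
    haveI : IsIso ψ.τ₁ := inferInstanceAs (IsIso (F.map ((ι h𝔛 O).app S.X₁)))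
    haveI : IsIso ψ.τ₂ := inferInstanceAs (IsIso (F.map ((ι h𝔛 O).app S.X₂)))
    haveI : IsIso ψ.τ₃ := inferInstanceAs (IsIso (F.map ((ι h𝔛 O).app S.X₃)))
    haveI : IsIso ψ := ShortComplex.isIso_of_isIso ψ
    exact (ShortComplex.exact_iff_of_iso (asIso ψ)).2 (hS.map F)
  · refine ShortComplex.exact_of_isZero_X₂ _ ?_
    haveI := subsingleton_St h𝔛 (V := (⊤ : (𝔛.X 0).Opens)) trivial S.X₂ hyO
    exact ModuleCat.isZero_of_subsingleton ((Good.S h𝔛 (V := (⊤ : (𝔛.X 0).Opens)) trivial).obj ((J h𝔛 O).obj S.X₂))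

theorem shortExact_J {S : ShortComplex (FSch.ModF 𝔛 h𝔛.1)} (hS : S.ShortExact) :
    (S.map (J h𝔛 O)).ShortExact := by
  haveI := hS.mono_f
  haveI := hS.epi_g
  haveI : Mono ((S.map (J h𝔛 O)).f) := CohCons.mono_of_injective _ fun V a b hab => by
    refine Subtype.ext ?_
    exact CohCons.secMap_injective S.f V.1 (congrArg Subtype.val hab)
  haveI : Epi ((S.map (J h𝔛 O)).g) := by
    let T := ShortComplex.mk S.g (0 : S.X₃ ⟶ S.X₁) comp_zero
    have hT : T.Exact := (ShortComplex.exact_iff_epi _ rfl).2 (inferInstanceAs (Epi S.g))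
    exact (ShortComplex.exact_iff_epi _ ((J h𝔛 O).map_zero _ _)).1 (exact_J h𝔛 O hT)
  exact { exact := exact_J h𝔛 O hS.exact }

/-- `J O` on complexes. -/
noncomputable abbrev JC : CochainComplex (FSch.ModF 𝔛 h𝔛.1) ℤ ⥤ CochainComplex (FSch.ModF 𝔛 h𝔛.1) ℤ :=
  (J h𝔛 O).mapHomologicalComplex (.up ℤ)

/-- The inclusion on complexes. -/
noncomputable def ιC (K : CochainComplex (FSch.ModF 𝔛 h𝔛.1) ℤ) : (JC h𝔛 O).obj K ⟶ K where
  f i := (ι h𝔛 O).app (K.X i)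
  comm' i j _ := ((ι h𝔛 O).naturality (K.d i j)).symm

theorem quasiIso_map_stalk_ιC (K : CochainComplex (FSch.ModF 𝔛 h𝔛.1) ℤ) {V : (𝔛.X 0).Opens}
    {y : 𝔛.X 0} (hy : y ∈ V) (hyO : y ∈ O) :
    IsIso (((Good.S h𝔛 hy).mapHomologicalComplex (.up ℤ)).map (ιC h𝔛 O K)) := by
  haveI : ∀ i, IsIso ((((Good.S h𝔛 hy).mapHomologicalComplex (.up ℤ)).map (ιC h𝔛 O K)).f i) := fun i =>
    (ConcreteCategory.isIso_iff_bijective _).2 (bijective_St_ι h𝔛 hy (K.X i) hyO)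
  exact HomologicalComplex.Hom.isIso_of_components _

/-- `J O` turns maps which are quasi-isomorphisms on stalks in `O` into quasi-isomorphisms. -/
theorem quasiIso_JC {K L : CochainComplex (FSch.ModF 𝔛 h𝔛.1) ℤ} (φ : K ⟶ L)
    (h : ∀ y ∈ O, ∃ (V : (𝔛.X 0).Opens) (hy : y ∈ V),
      QuasiIso (((Good.S h𝔛 hy).mapHomologicalComplex (.up ℤ)).map φ)) :
    QuasiIso ((JC h𝔛 O).map φ) := by
  refine Stalk.quasiIso _ fun y => ?_
  by_cases hyO : y ∈ O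
  · obtain ⟨V, hy, hq⟩ := h y hyO
    refine ⟨V, hy, ?_⟩
    let F := (Good.S h𝔛 hy).mapHomologicalComplex (ComplexShape.up ℤ)
    haveI := quasiIso_map_stalk_ιC h𝔛 O K hy hyO
    haveI := quasiIso_map_stalk_ιC h𝔛 O L hy hyO
    have hn : (JC h𝔛 O).map φ ≫ ιC h𝔛 O L = ιC h𝔛 O K ≫ φ :=
      HomologicalComplex.hom_ext _ _ fun i => (ι h𝔛 O).naturality (φ.f i)
    refine (quasiIso_iff_comp_right _ (F.map (ιC h𝔛 O L))).1 ?_
    rw [← F.map_comp, hn, F.map_comp]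
    exact (quasiIso_iff_comp_left _ _).2 hq
  · refine ⟨⊤, trivial, ?_⟩
    haveI : ∀ i, IsIso ((((Good.S h𝔛 (V := (⊤ : (𝔛.X 0).Opens)) (x := y) trivial).mapHomologicalComplex
        (.up ℤ)).map ((JC h𝔛 O).map φ)).f i) := fun i => by
      haveI := subsingleton_St h𝔛 (V := (⊤ : (𝔛.X 0).Opens)) trivial (K.X i) hyO
      haveI := subsingleton_St h𝔛 (V := (⊤ : (𝔛.X 0).Opens)) trivial (L.X i) hyO
      exact (ConcreteCategory.isIso_iff_bijective _).2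
        ⟨fun a b _ => Subsingleton.elim (α := ((Good.S h𝔛 (V := (⊤ : (𝔛.X 0).Opens)) (x := y) trivial).obj
          ((J h𝔛 O).obj (K.X i)) : Type u)) a b, fun b => ⟨0, Subsingleton.elim (α := ((Good.S h𝔛
          (V := (⊤ : (𝔛.X 0).Opens)) (x := y) trivial).obj ((J h𝔛 O).obj (L.X i)) : Type u)) _ b⟩⟩
    haveI := HomologicalComplex.Hom.isIso_of_components
      (((Good.S h𝔛 (V := (⊤ : (𝔛.X 0).Opens)) (x := y) trivial).mapHomologicalComplex
        (.up ℤ)).map ((JC h𝔛 O).map φ))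
    infer_instance

end Groth.Agent.H22.Gam.ZeroExt
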